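import Cfsg.Agent.Omega.NOThreeL.RWide.ParT.EndA

/-!
# `parT`: the end of case (gamma)  (helper533)

`P ≤ X_j` normalises `V_j` and `Q_j = C_T(V_j)`, `A ≤ O = O₂(C_G(Ω₁Z(T)))`, `P = ⟨A^P⟩ T`, and every `p ∈ P` acts on
`V_j` like an element of `X_j` normalising all blocks.  Then `P` normalises all blocks: with `x⁻¹ p = k ∈ K := X_j ∩ C(V_j) ∩ N(Q_j)`
(Frattini), `K ≤ D` normalises `O`, so `[K, A] ≤ K ∩ O ≤ Q_j` (the normal Sylow `2`-subgroup of `K`), and
`A^p = x A^k x⁻¹ ≤ x A Q_j x⁻¹`.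
-/

set_option autoImplicit false
set_option linter.unusedSectionVars false

namespace Cfsg.Agent.Omega.NOThreeL.RWide.ParT.EndG

open Subgroup Cfsg Cfsg.Agent.Omega.MinPar
open Cfsg.Agent.ZN (zc o2)
open Cfsg.Agent.ZN.ChoiceBase (cj cj_mono cj_inf cj_centralizer cj_eq_of_mem_normalizer mem_cj mem_normalizer_iff_cj
  cj_cj_inv cj_inv_cj cj_cj cj_one isPGroup_cj card_cj)
open Cfsg.Agent.ZN.ChoiceSit (Syl syl_conj exists_syl)
open Cfsg.Agent.MinSimple.MinParabolic (IsMinPar)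
open Cfsg.Agent.MinSimple.VModule (le_normalizer_o2 o2_isPGroup o2_le)

universe u v

variable {G : Type u} [Group G]

theorem syl_of [Finite G] {T X : Subgroup G} (hTX : T ≤ X) (hT : IsPGroup 2 T) (h : ¬ 2 ∣ T.relIndex X) :
    Syl T X := by
  refine ⟨hTX, hT, fun Q hQ h2 hTQ => ?_⟩
  have : Fact (Nat.Prime 2) := ⟨Nat.prime_two⟩
  by_contra hne
  apply h
  rw [← relIndex_mul_relIndex T Q X hTQ hQ]
  refine Dvd.dvd.mul_right ?_ _
  have h1 : T.relIndex Q ≠ 1 := fun e => hne (le_antisymm (Subgroup.relIndex_eq_one.1 e) hTQ)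
  obtain ⟨n, hn⟩ := (IsPGroup.iff_card.1 h2)
  have h3 : T.relIndex Q ∣ 2 ^ n := by
    rw [← hn]
    exact Subgroup.relIndex_dvd_card T Q
  obtain ⟨m, -, hm⟩ := (Nat.dvd_prime_pow Nat.prime_two).1 h3
  rw [hm] at h1 ⊢
  exact dvd_pow_self 2 (fun e => h1 (by rw [e, pow_zero]))

/-- a `2`-element of `K` lies in the normal Sylow `2`-subgroup -/
theorem mem_of_syl [Finite G] {Q K R : Subgroup G} (hQ : Syl Q K) (hn : K ≤ normalizer (Q : Set G))
    (hR : IsPGroup 2 R) (hRK : R ≤ K) : R ≤ Q := by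
  have h1 : IsPGroup 2 (Q ⊔ R : Subgroup G) := by
    refine IsPGroup.to_sup_of_normal_left' hQ.2.1 hR ?_
    exact hRK.trans hn
  have h2 := hQ.2.2 _ (sup_le hQ.1 hRK) h1 le_sup_left
  rw [← h2]
  exact le_sup_right

/-- **The core.** -/
theorem cj_le [Finite G] {T X Y V Q O A P : Subgroup G} (hT : IsPGroup 2 T) (TY : T ≤ Y)
    (syl : ¬ 2 ∣ T.relIndex Y) (XY : X ≤ Y) (TX : T ≤ X) (XV : X ≤ normalizer (V : Set G))
    (hQ : T ⊓ centralizer (V : Set G) = Q) (KO : Y ⊓ centralizer (V : Set G) ≤ normalizer (O : Set G))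
    (O2 : IsPGroup 2 O) (AO : A ≤ O) (AX : A ≤ X) (AQ : A ≤ normalizer (Q : Set G)) (hPY : P ≤ Y)
    (hPQ : P ≤ normalizer (Q : Set G))
    (h7 : ∀ p ∈ P, ∃ x ∈ X, ∀ v ∈ V, p * v * p⁻¹ = x * v * x⁻¹) {p : G} (hp : p ∈ P) : cj p A ≤ X := by
  have hTX := syl_of TX hT fun h1 => syl (by
    rw [← relIndex_mul_relIndex T X Y TX XY]
    exact h1.mul_right _)
  have hQT : Q ≤ T := by rw [← hQ]; exact inf_le_left
  -- Frattini: `x` may be taken in `N(Q)`
  obtain ⟨x, hxX, hxQ, hxv⟩ : ∃ x ∈ X, x ∈ normalizer (Q : Set G) ∧ ∀ v ∈ V, p * v * p⁻¹ = x * v * x⁻¹ := by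
    obtain ⟨x, hxX, hxv⟩ := h7 p hp
    set K₀ := X ⊓ centralizer (V : Set G) with hK₀
    have hn : ∀ g ∈ X, cj g K₀ = K₀ := fun g hg => by
      rw [hK₀, cj_inf, cj_eq_of_mem_normalizer (Subgroup.le_normalizer hg), cj_centralizer,
        cj_eq_of_mem_normalizer (XV hg)]
    have hQK : Syl Q K₀ := by
      have h1 := SQ1.FFOne.syl_inf (T := T) (H := X) (N := K₀) hTX inf_le_left
        (fun g hg n hn' => by
          have := hn g hg
          rw [← this]
          exact ⟨n, hn', rfl⟩)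
      have e : T ⊓ K₀ = Q := by rw [hK₀, ← inf_assoc, inf_eq_left.2 TX, hQ]
      rwa [e] at h1
    have h1 : cj x Q ≤ K₀ := by
      have h2 := cj_mono x hQK.1
      rwa [hn x hxX] at h2
    obtain ⟨Q', hQ', hle⟩ := exists_syl (isPGroup_cj x hQK.2.1) h1
    obtain ⟨d, hd, rfl⟩ := syl_conj hQK hQ'
    refine ⟨d⁻¹ * x, mul_mem (inv_mem hd.1) hxX, ?_, ?_⟩
    · have h3 : cj (d⁻¹ * x) Q ≤ Q := by
        have := cj_mono d⁻¹ hle
        rwa [cj_inv_cj, cj_cj] at this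
      exact mem_normalizer_iff_cj.2 (Subgroup.eq_of_le_of_card_ge h3 (by rw [card_cj]))
    · intro v hv
      have hw : x * v * x⁻¹ ∈ V := (mem_normalizer_iff.1 (XV hxX) v).1 hv
      have hc := mem_centralizer_iff.1 hd.2 _ hw
      rw [hxv v hv]
      have : d⁻¹ * x * v * (d⁻¹ * x)⁻¹ = d⁻¹ * ((x * v * x⁻¹) * d) := by group
      rw [this, hc]
      group
  -- `k = x⁻¹ p`
  set k := x⁻¹ * p with hk
  set K := Y ⊓ centralizer (V : Set G) ⊓ normalizer (Q : Set G) with hK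
  have hkC : k ∈ centralizer (V : Set G) := by
    rw [mem_centralizer_iff]
    intro v hv
    have h1 := hxv v hv
    have h2 : k * v * k⁻¹ = v := by
      have : k * v * k⁻¹ = x⁻¹ * (p * v * p⁻¹) * x := by rw [hk]; group
      rw [this, h1]
      group
    have := congrArg (· * k) h2
    simpa [mul_assoc] using this.symm
  have hkY : k ∈ Y := Y.mul_mem (Y.inv_mem (XY hxX)) (hPY hp)
  have hkQ : k ∈ normalizer (Q : Set G) := (normalizer (Q : Set G)).mul_mem ((normalizer (Q : Set G)).inv_mem hxQ) (hPQ hp)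
  have hkK : k ∈ K := ⟨⟨hkY, hkC⟩, hkQ⟩
  -- `K` is normal in `M`
  set M := Y ⊓ normalizer (V : Set G) ⊓ normalizer (Q : Set G) with hM
  have hKn : ∀ g ∈ M, cj g K = K := fun g hg => by
    rw [hK, cj_inf, cj_inf, cj_eq_of_mem_normalizer (Subgroup.le_normalizer hg.1.1), cj_centralizer,
      cj_eq_of_mem_normalizer hg.1.2, cj_eq_of_mem_normalizer (Subgroup.le_normalizer hg.2)]
  have TV : T ≤ normalizer (V : Set G) := TX.trans XV
  have TQ : T ≤ normalizer (Q : Set G) := by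
    intro t ht
    rw [mem_normalizer_iff_cj, ← hQ, cj_inf, cj_eq_of_mem_normalizer (Subgroup.le_normalizer ht), cj_centralizer,
      cj_eq_of_mem_normalizer (TV ht)]
  have TM : T ≤ M := le_inf (le_inf TY TV) TQ
  have hTM : Syl T M := syl_of TM hT fun h1 => syl (by
    rw [← relIndex_mul_relIndex T M Y TM (inf_le_left.trans inf_le_left)]
    exact h1.mul_right _)
  have KM : K ≤ M := le_inf (le_inf (inf_le_left.trans inf_le_left)
    ((inf_le_left.trans inf_le_right).trans (centralizer_le_normalizer _))) inf_le_right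
  have hQK : Syl Q K := by
    have h1 := SQ1.FFOne.syl_inf (T := T) (H := M) (N := K) hTM KM
      (fun g hg n hn' => by
        have := hKn g hg
        rw [← this]
        exact ⟨n, hn', rfl⟩)
    have e : T ⊓ K = Q := by
      apply le_antisymm
      · rw [← hQ]
        exact le_inf inf_le_left (inf_le_right.trans (inf_le_left.trans inf_le_right))
      · refine le_inf hQT (le_inf (le_inf (hQT.trans TY) ?_) (Subgroup.le_normalizer))
        rw [← hQ]; exact inf_le_right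
    rwa [e] at h1
  -- `K ∩ O ≤ Q`
  have hKO : K ⊓ O ≤ Q := mem_of_syl hQK inf_le_right (O2.to_le inf_le_right) inf_le_left
  -- the end
  rintro _ ⟨a, ha, rfl⟩
  change p * a * p⁻¹ ∈ X
  have haM : a ∈ M := ⟨⟨XY (AX ha), XV (AX ha)⟩, AQ ha⟩
  have h1 : k * a * k⁻¹ * a⁻¹ ∈ O :=
    mul_mem ((mem_normalizer_iff.1 (KO hkK.1) a).1 (AO ha)) (inv_mem (AO ha))
  have h2 : a * k⁻¹ * a⁻¹ ∈ K := by
    have := hKn a haM
    rw [← this]
    exact ⟨k⁻¹, inv_mem hkK, rfl⟩
  have h3 : k * a * k⁻¹ * a⁻¹ ∈ K := by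
    have := mul_mem hkK h2
    have e : k * (a * k⁻¹ * a⁻¹) = k * a * k⁻¹ * a⁻¹ := by group
    rwa [e] at this
  have h4 : k * a * k⁻¹ ∈ X := by
    have := mul_mem (TX (hQT (hKO ⟨h3, h1⟩))) (AX ha)
    rwa [inv_mul_cancel_right] at this
  have h5 := mul_mem (mul_mem hxX h4) (inv_mem hxX)
  have e : x * (k * a * k⁻¹) * x⁻¹ = p * a * p⁻¹ := by rw [hk]; group
  rwa [e] at h5

end Cfsg.Agent.Omega.NOThreeL.RWide.ParT.EndG

namespace Cfsg.Agent.Omega.NOThreeL.RWide.TAct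

open Subgroup Cfsg Cfsg.Agent.Omega.MinPar
open Cfsg.Agent.ZN (zc o2)
open Cfsg.Agent.ZN.ChoiceBase (cj cj_mono cj_inf cj_centralizer cj_eq_of_mem_normalizer mem_cj mem_normalizer_iff_cj
  cj_cj_inv cj_inv_cj cj_cj cj_one isPGroup_cj card_cj)
open Cfsg.Agent.ZN.ChoiceSit (Syl)
open Cfsg.Agent.MinSimple.MinParabolic (IsMinPar)
open Cfsg.Agent.MinSimple.VModule (le_normalizer_o2 o2_isPGroup o2_le)
open Cfsg.Agent.Omega.NoFF.Basic (comm_symm)

universe u v

variable {G : Type u} [Group G] {ι : Type v}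

namespace Tf

variable [Finite G] [Finite ι] [Nonempty ι] {S : Sylow 2 G} {V : Subgroup G} {N l : ι → Subgroup G} (h : Tf S V N l)
include h

/-- `C_(X_j)(N j) ≤ D`, so it normalises `O` -/
theorem YC_le (j : ι) : YY (FF (S : Subgroup G) N l) j ⊓ centralizer (N j : Set G) ≤
    centralizer (zc (TT (S : Subgroup G) N) : Set G) := by
  have h1 : zc (TT (S : Subgroup G) N) ≤
      centralizer ((YY (FF (S : Subgroup G) N l) j ⊓ centralizer (N j : Set G) : Subgroup G) : Set G) :=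
    h.zcT.trans (iSup_le fun b => by
      by_cases hb : b = j
      · rw [hb]
        exact comm_symm (inf_le_right.trans (centralizer_le (h.F_le_N j)))
      · exact comm_symm (inf_le_left.trans (YY_le_cent hb)))
  exact comm_symm h1

/-- **The end of case (gamma).** -/
theorem end_gamma {j : ι} {P A : Subgroup G} (hP : P ≤ YY (FF (S : Subgroup G) N l) j)
    (hQ : P ≤ normalizer ((TT (S : Subgroup G) N ⊓ centralizer (N j : Set G) : Subgroup G) : Set G))
    (hA : A ≤ OT (TT (S : Subgroup G) N)) (hAT : A ≤ TT (S : Subgroup G) N)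
    (gen : P ≤ (⨆ p : P, cj (p : G) A) ⊔ TT (S : Subgroup G) N)
    (h7 : ∀ p ∈ P, ∃ x ∈ YY (FF (S : Subgroup G) N l) j, (∀ b, x ∈ normalizer (N b : Set G)) ∧
      ∀ v ∈ N j, p * v * p⁻¹ = x * v * x⁻¹) (b : ι) : P ≤ normalizer (N b : Set G) := by
  set T := TT (S : Subgroup G) N with hT
  set X : Subgroup G := YY (FF (S : Subgroup G) N l) j ⊓ ⨅ b, normalizer (N b : Set G) with hX
  have TX : T ≤ X := le_inf (h.T_le_YY j) inf_le_right
  have hXb : X ≤ normalizer (N b : Set G) := inf_le_right.trans (iInf_le _ b)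
  have hXj : X ≤ normalizer (N j : Set G) := inf_le_right.trans (iInf_le _ j)
  have TQ : T ≤ normalizer ((T ⊓ centralizer (N j : Set G) : Subgroup G) : Set G) := by
    intro t ht
    rw [mem_normalizer_iff_cj, cj_inf, cj_eq_of_mem_normalizer (Subgroup.le_normalizer ht), cj_centralizer,
      cj_eq_of_mem_normalizer (hXj (TX ht))]
  have key : ∀ p ∈ P, cj p A ≤ X := fun p hp =>
    ParT.EndG.cj_le (T := T) (X := X) (Y := YY (FF (S : Subgroup G) N l) j) (V := N j)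
      (Q := T ⊓ centralizer (N j : Set G)) (O := OT T) (A := A) (P := P) h.T2 (h.T_le_YY j) (h.syl_YY j)
      inf_le_left TX hXj rfl ((h.YC_le j).trans (le_normalizer_o2 _)) (o2_isPGroup _) hA (hAT.trans TX)
      (hAT.trans TQ) hP hQ
      (fun p hp => by
        obtain ⟨x, hx, hxN, hxv⟩ := h7 p hp
        exact ⟨x, ⟨hx, mem_iInf.2 hxN⟩, hxv⟩) hp
  have h1 : (⨆ p : P, cj (p : G) A) ≤ X := iSup_le fun p => key (p : G) p.2
  exact gen.trans (sup_le (h1.trans hXb) (TX.trans hXb))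

/-- the same, `P ∈ 𝒫(T)`, `A ≰ O₂(P)` -/
theorem end_gamma' {j : ι} {P A : Subgroup G} (hPm : IsMinPar (TT (S : Subgroup G) N) P)
    (hP : P ≤ YY (FF (S : Subgroup G) N l) j)
    (hQ : P ≤ normalizer ((TT (S : Subgroup G) N ⊓ centralizer (N j : Set G) : Subgroup G) : Set G))
    (hA : A ≤ OT (TT (S : Subgroup G) N)) (hAT : A ≤ TT (S : Subgroup G) N) (hAP : ¬ A ≤ o2 P)
    (h7 : ∀ p ∈ P, ∃ x ∈ YY (FF (S : Subgroup G) N l) j, (∀ b, x ∈ normalizer (N b : Set G)) ∧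
      ∀ v ∈ N j, p * v * p⁻¹ = x * v * x⁻¹) (b : ι) : P ≤ normalizer (N b : Set G) := by
  refine h.end_gamma hP hQ hA hAT ?_ h7 b
  have hn : P ≤ normalizer ((⨆ p : P, cj (p : G) A : Subgroup G) : Set G) := by
    intro g hg
    refine Cfsg.Agent.ZN.ChoiceBase.mem_normalizer_of_cj_le ?_
    rw [cj, Subgroup.map_iSup]
    refine iSup_le fun p => ?_
    have h1 : cj g (cj (p : G) A) ≤ ⨆ p : P, cj (p : G) A := by
      rw [cj_cj]
      exact le_iSup (fun p : P => cj (p : G) A) ⟨g * p, mul_mem hg p.2⟩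
    exact h1
  have hle : (⨆ p : P, cj (p : G) A) ≤ P := iSup_le fun p => by
    have h1 := cj_mono (p : G) (hAT.trans hPm.le)
    rwa [cj_eq_of_mem_normalizer (Subgroup.le_normalizer p.2)] at h1
  rcases hPm.sup_eq_or_inf_le h.T2 (h.syl_sub hPm.le hP) hle hn with h1 | h1
  · exact h1.ge
  · exfalso
    apply hAP
    refine le_trans (le_inf hAT ?_) h1
    have h2 := le_iSup (fun p : P => cj (p : G) A) (1 : P)
    simpa [cj_one] using h2

end Tf

end Cfsg.Agent.Omega.NOThreeL.RWide.TAct
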