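import Cfsg.Agent.Omega.NOThreeL.RWide.ParT.Uniq
import Cfsg.Agent.Omega.NOThreeL.RWide.GenSL
import Cfsg.Agent.Omega.NOThreeL.RWide.TBlk
import Cfsg.Agent.Omega.NOThreeL.RSplit.Mod

/-!
# NO-3L, `parT`: UNIQUENESS, group form (helper869's `same`)

* `Crd N l L F e` : coordinates of `N` in which `L` induces `SL₂(F)`, `l = {e 1 = 0}`;
* **`same`** : `E`, `K` two such groups with the same line `l`, `T` Sylow in `H ≤ N(N)`, `E, K ≤ H`, `T` semilinear for `E`,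
  `T ≤ N(K)`, `P ≤ K T` : every element of `P` acts on `N` as an element of `E T`.
-/

set_option autoImplicit false
set_option linter.unusedSectionVars false

namespace Cfsg.Agent.Omega.NOThreeL.RWide.ParT.Uniq

open Subgroup
open Cfsg.Agent.Omega.NOThreeL.RSplit (Nrm)
open Cfsg.Agent.Omega.NOThreeL.RRed.Blk.TypesGam
open Cfsg.Agent.Omega.NOThreeL.RRed.Blk.TypesEq
open Cfsg.Agent.Omega.NOThreeL.RRed.Blk.TypesClo
open Cfsg.Agent.Omega.NOThreeL.RWide.GenSL (Acts U Lw)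
open Cfsg.Agent.Omega.NOThreeL.RWide.TBlk (NB)
open scoped Pointwise

universe u

variable {G : Type u} [Group G]

/-- coordinates of `N` in which `L` induces `SL₂(F)` -/
structure Crd (N l L : Subgroup G) (F : Type) [Field F] (e : G → Fin 2 → F) : Prop where
  mul : ∀ v ∈ N, ∀ w ∈ N, e (v * w) = e v + e w
  inj : ∀ v ∈ N, e v = 0 → v = 1
  sur : ∀ x : Fin 2 → F, ∃ v ∈ N, e v = x
  line : ∀ v, v ∈ l ↔ v ∈ N ∧ e v 1 = 0
  full : ∀ M : Matrix.SpecialLinearGroup (Fin 2) F, ∃ g ∈ L, ∀ v ∈ N, e (g * v * g⁻¹) = M.1.mulVec (e v)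

theorem Crd.of_NB {S E N l : Subgroup G} {F : Type} [Field F] {e : G → Fin 2 → F} (h : NB S E N l F e) :
    Crd N l E F e := ⟨h.mul, h.inj, h.sur, h.line, h.full⟩

/-! ### the group induced on `N` -/

section act

variable {H N : Subgroup G} (Q : Nrm H N)

/-- `H → Aut(N)` -/
abbrev uh : H →* (AddMonoid.End Q.Mod)ˣ := (DistribMulAction.toAddMonoidEnd H Q.Mod).toHomUnits

/-- the group induced by `H` on `N` -/
abbrev XX : Subgroup (AddMonoid.End Q.Mod)ˣ := (uh Q).range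

/-- `H → XX` -/
def rr : H →* XX Q := (uh Q).rangeRestrict

theorem rr_smul (k : H) (m : Q.Mod) : rr Q k • m = k • m := rfl

theorem rr_surj : Function.Surjective (rr Q) := MonoidHom.rangeRestrict_surjective _

theorem xx_faith (x : XX Q) (hx : ∀ v : Q.Mod, x • v = v) : x = 1 :=
  Subtype.ext (Units.ext (AddMonoidHom.ext hx))

theorem rr_eq {k k' : H} (h : ∀ v ∈ N, (k : G) * v * (k : G)⁻¹ = k' * v * (k' : G)⁻¹) : rr Q k = rr Q k' := by
  refine Subtype.ext (Units.ext (AddMonoidHom.ext fun m => ?_))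
  exact Nrm.ext (h _ (Nrm.val_mem _ m))

theorem of_rr_eq {k k' : H} (h : rr Q k = rr Q k') {v : G} (hv : v ∈ N) :
    (k : G) * v * (k : G)⁻¹ = k' * v * (k' : G)⁻¹ := by
  have h1 : rr Q k • Q.of v hv = rr Q k' • Q.of v hv := by rw [h]
  exact congrArg Q.val h1

instance [Finite G] : Finite (XX Q) := Finite.of_surjective (rr Q) (rr_surj Q)

end act

section bk

variable {H N l L : Subgroup G} {F : Type} [Field F] {e : G → Fin 2 → F}

theorem Crd.e_one (h : Crd N l L F e) : e 1 = 0 := by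
  have h3 := h.mul 1 (one_mem _) 1 (one_mem _)
  rw [mul_one] at h3
  exact left_eq_add.1 h3

theorem Crd.ext (h : Crd N l L F e) {v w : G} (hv : v ∈ N) (hw : w ∈ N) (e1 : e v = e w) : v = w := by
  have h3 : e (v * w⁻¹) = 0 := by
    have h4 := h.mul _ hw _ (inv_mem hw)
    rw [mul_inv_cancel, h.e_one] at h4
    rw [h.mul _ hv _ (inv_mem hw), e1]
    exact h4.symm
  exact mul_inv_eq_one.1 (h.inj _ (mul_mem hv (inv_mem hw)) h3)

theorem exists_bk2 (Q : Nrm H N) (h : Crd N l L F e) (LH : L ≤ H) :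
    ∃ (a b : F →+ Q.Mod) (up lo : F → XX Q), Bk a b ⊥ up lo ∧ (∀ x, e (Q.val (a x)) = ![x, 0]) ∧
      (∀ y, e (Q.val (b y)) = ![0, y]) ∧
      (∀ t, ∃ k ∈ L, ∃ hk : k ∈ H, up t = rr Q ⟨k, hk⟩ ∧ Acts N e k (U t)) ∧
      (∀ t, ∃ k ∈ L, ∃ hk : k ∈ H, lo t = rr Q ⟨k, hk⟩ ∧ Acts N e k (Lw t)) := by
  have ac : ∀ M : Matrix.SpecialLinearGroup (Fin 2) F, ∃ g ∈ L, Acts N e g M := fun M => by
    obtain ⟨g, hg, h1⟩ := h.full M
    exact ⟨g, hg, Q.nrm (LH hg), h1⟩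
  choose c hc hce using h.sur
  choose g hg hgM using ac
  have kinj : ∀ {m m' : Q.Mod}, e (Q.val m) = e (Q.val m') → m = m' := fun h1 =>
    Nrm.ext (h.ext (Nrm.val_mem _ _) (Nrm.val_mem _ _) h1)
  have kadd : ∀ m m' : Q.Mod, e (Q.val (m + m')) = e (Q.val m) + e (Q.val m') := fun m m' =>
    h.mul _ (Nrm.val_mem _ _) _ (Nrm.val_mem _ _)
  let a : F →+ Q.Mod := AddMonoidHom.mk' (fun x => Q.of (c ![x, 0]) (hc _)) fun x y => kinj (by
    rw [kadd, Nrm.val_of, Nrm.val_of, Nrm.val_of, hce, hce, hce]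
    simp)
  let b : F →+ Q.Mod := AddMonoidHom.mk' (fun x => Q.of (c ![0, x]) (hc _)) fun x y => kinj (by
    rw [kadd, Nrm.val_of, Nrm.val_of, Nrm.val_of, hce, hce, hce]
    simp)
  have ka : ∀ x, e (Q.val (a x)) = ![x, 0] := fun x => hce _
  have kb : ∀ x, e (Q.val (b x)) = ![0, x] := fun x => hce _
  have ks : ∀ M (m : Q.Mod), e (Q.val (rr Q ⟨g M, LH (hg M)⟩ • m)) = M.1.mulVec (e (Q.val m)) := fun M m =>
    (hgM M).act _ (Nrm.val_mem _ m)
  have k0 : e (Q.val (0 : Q.Mod)) = 0 := h.e_one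
  refine ⟨a, b, fun t => rr Q ⟨g (U t), LH (hg _)⟩, fun t => rr Q ⟨g (Lw t), LH (hg _)⟩, ?_, ka, kb,
    fun t => ⟨_, hg _, LH (hg _), rfl, hgM _⟩, fun t => ⟨_, hg _, LH (hg _), rfl, hgM _⟩⟩
  refine
    { dec := fun v => ⟨e (Q.val v) 0, e (Q.val v) 1, 0, zero_mem _, kinj ?_⟩
      ind := fun x y hxy => ?_
      up_e := fun t x => kinj ?_
      up_f := fun t x => kinj ?_
      up_c := fun t c hc => ?_
      lo_e := fun t x => kinj ?_
      lo_f := fun t x => kinj ?_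
      lo_c := fun t c hc => ?_ }
  · rw [add_zero, kadd, ka, kb]
    ext i; fin_cases i <;> simp
  · rw [AddSubgroup.mem_bot] at hxy
    have h1 : e (Q.val (a x + b y)) = 0 := by rw [hxy, k0]
    rw [kadd, ka, kb] at h1
    have h2 := congrFun h1 0
    have h3 := congrFun h1 1
    simp at h2 h3
    exact ⟨h2, h3⟩
  · rw [ks, ka]
    ext i; fin_cases i <;> simp [U, Matrix.mulVec, dotProduct, Fin.sum_univ_two]
  · rw [ks, kadd, ka, kb]
    ext i; fin_cases i <;> simp [U, Matrix.mulVec, dotProduct, Fin.sum_univ_two]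
  · rw [AddSubgroup.mem_bot] at hc
    rw [hc, smul_zero]
  · rw [ks, kadd, ka, kb]
    ext i; fin_cases i <;> simp [Lw, Matrix.mulVec, dotProduct, Fin.sum_univ_two]
  · rw [ks, kb]
    ext i; fin_cases i <;> simp [Lw, Matrix.mulVec, dotProduct, Fin.sum_univ_two]
  · rw [AddSubgroup.mem_bot] at hc
    rw [hc, smul_zero]

end bk

section clo

variable {H N l L : Subgroup G} {F : Type} [Field F] {e : G → Fin 2 → F} (Q : Nrm H N) {up lo : F → XX Q}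
variable (hu : ∀ t, ∃ k ∈ L, ∃ hk : k ∈ H, up t = rr Q ⟨k, hk⟩ ∧ Acts N e k (U t))
variable (hl : ∀ t, ∃ k ∈ L, ∃ hk : k ∈ H, lo t = rr Q ⟨k, hk⟩ ∧ Acts N e k (Lw t))
include hu hl

/-- an element of `H` acting by a matrix of `SL₂(F)` is in `clo` -/
theorem mem_clo_of (h : Crd N l L F e) {k : H} {M : Matrix.SpecialLinearGroup (Fin 2) F}
    (hk : ∀ v ∈ N, e ((k : G) * v * (k : G)⁻¹) = M.1.mulVec (e v)) : rr Q k ∈ clo up lo := by
  have h1 := GenSL.gen (H := ((clo up lo).comap (rr Q)).map H.subtype) (N := N) (e := e) (fun c => by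
    obtain ⟨k, -, hkH, e1, e2⟩ := hu c
    refine ⟨k, ⟨⟨k, hkH⟩, ?_, rfl⟩, e2⟩
    change rr Q ⟨k, hkH⟩ ∈ clo up lo
    rw [← e1]
    exact up_mem_clo up lo c) (fun c => by
    obtain ⟨k, -, hkH, e1, e2⟩ := hl c
    refine ⟨k, ⟨⟨k, hkH⟩, ?_, rfl⟩, e2⟩
    change rr Q ⟨k, hkH⟩ ∈ clo up lo
    rw [← e1]
    exact lo_mem_clo up lo c) M
  obtain ⟨_, ⟨x, hx, rfl⟩, hk'⟩ := h1
  have hkx : rr Q k = rr Q x := rr_eq Q fun v hv =>
    Acts.conj_eq (⟨Q.nrm k.2, hk⟩ : Acts N e (k : G) M) hk' h.mul h.inj hv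
  rw [hkx]
  exact hx

/-- the elements of `clo` come from `L` -/
theorem exists_of_mem_clo {x : XX Q} (hx : x ∈ clo up lo) : ∃ k ∈ L, ∃ hk : k ∈ H, x = rr Q ⟨k, hk⟩ := by
  have h1 : clo up lo ≤ (L.subgroupOf H).map (rr Q) := by
    refine (Subgroup.closure_le _).2 ?_
    rintro x (⟨t, rfl⟩ | ⟨t, rfl⟩)
    · obtain ⟨k, hk, hkH, e1, -⟩ := hu t
      exact ⟨⟨k, hkH⟩, hk, e1.symm⟩
    · obtain ⟨k, hk, hkH, e1, -⟩ := hl t
      exact ⟨⟨k, hkH⟩, hk, e1.symm⟩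
  obtain ⟨⟨k, hkH⟩, hk, e1⟩ := h1 hx
  exact ⟨k, hk, hkH, e1.symm⟩

end clo

/-! ### semilinear elements -/

section semi

variable {X : Type u} {V : Type u} [Group X] [AddCommGroup V] [DistribMulAction X V]
variable {F : Type} [Field F] {a b : F →+ V} {up lo : F → X}

/-- `s` is semilinear -/
def Sm (a b : F →+ V) (s : X) (σ : F ≃+* F) (α β δ : F) : Prop :=
  (∀ x, s • a x = a (α * σ x)) ∧ ∀ y, s • b y = a (β * σ y) + b (δ * σ y)

variable {s : X} {σ : F ≃+* F} {α β δ : F} (h : Bk a b ⊥ up lo) (hs : Sm a b s σ α β δ)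
include h hs

theorem Sm.ne : α ≠ 0 ∧ δ ≠ 0 := by
  have h1 : α ≠ 0 := by
    rintro rfl
    have e1 := hs.1 1
    rw [zero_mul, map_zero, smul_eq_zero_iff_eq] at e1
    exact one_ne_zero (inj0 h (e1.trans (map_zero a).symm))
  refine ⟨h1, ?_⟩
  rintro rfl
  have e1 := hs.2 1
  rw [zero_mul, map_zero, add_zero] at e1
  have e2 : a (β * σ 1) = s • a (σ.symm (α⁻¹ * (β * σ 1))) := by
    rw [hs.1, RingEquiv.apply_symm_apply, mul_inv_cancel_left₀ h1]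
  rw [e2, smul_left_cancel_iff] at e1
  have e3 : a 0 + b 1 = a (σ.symm (α⁻¹ * (β * σ 1))) + b 0 := by
    rw [map_zero, map_zero, zero_add, add_zero, e1]
  exact one_ne_zero (uniq0 h e3).2

theorem Sm.cup (hf : ∀ x : X, (∀ v : V, x • v = v) → x = 1) (t : F) : s * up t * s⁻¹ = up (α * σ t * δ⁻¹) := by
  obtain ⟨hα, hδ⟩ := hs.ne h
  rw [mul_inv_eq_iff_eq_mul]
  refine h.ext hf (fun z => ?_) (fun z => ?_) fun c hc => ?_
  · rw [mul_smul, h.up_e, mul_smul, hs.1, h.up_e]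
  · rw [mul_smul, h.up_f, smul_add, hs.1, hs.2, mul_smul, hs.2, smul_add, h.up_e, h.up_f, map_mul σ]
    have e1 : α * σ t * δ⁻¹ * (δ * σ z) = α * (σ t * σ z) := by
      field_simp
    rw [e1]
    abel
  · rw [AddSubgroup.mem_bot] at hc
    rw [hc, smul_zero, smul_zero]

theorem Sm.clow (hf : ∀ x : X, (∀ v : V, x • v = v) → x = 1) (t : F) :
    s * lo t * s⁻¹ = up (β * δ⁻¹) * lo (δ * σ t * α⁻¹) * (up (β * δ⁻¹))⁻¹ := by
  obtain ⟨hα, hδ⟩ := hs.ne h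
  rw [mul_inv_eq_iff_eq_mul]
  have ui : ∀ x, (up (β * δ⁻¹))⁻¹ • a x = a x := fun x => by rw [inv_smul_eq_iff, h.up_e]
  have e0 : ∀ z, β * δ⁻¹ * (δ * z) = β * z := fun z => by field_simp
  have ub : ∀ y, (up (β * δ⁻¹))⁻¹ • (a (β * σ y) + b (δ * σ y)) = b (δ * σ y) := fun y => by
    rw [inv_smul_eq_iff, h.up_f, e0]; abel
  refine h.ext hf (fun z => ?_) (fun z => ?_) fun c hc => ?_
  · rw [mul_smul, h.lo_e, smul_add, hs.1, hs.2, mul_smul, mul_smul, mul_smul, hs.1, ui, h.lo_e, smul_add, h.up_e,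
      h.up_f, map_mul σ]
    have e1 : δ * σ t * α⁻¹ * (α * σ z) = δ * (σ t * σ z) := by field_simp
    rw [e1, e0]
    abel
  · rw [mul_smul, h.lo_f, hs.2, mul_smul, mul_smul, mul_smul, hs.2, ub, h.lo_f, h.up_f, e0]
    abel
  · rw [AddSubgroup.mem_bot] at hc
    rw [hc, smul_zero, smul_zero]

theorem Sm.rt_eq (hf : ∀ x : X, (∀ v : V, x • v = v) → x = 1) : MulAut.conj s • rt up = rt up := by
  obtain ⟨hα, hδ⟩ := hs.ne h
  rw [← rt_conj]
  apply le_antisymm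
  · refine (Subgroup.closure_le _).2 ?_
    rintro _ ⟨t, rfl⟩
    change s * up t * s⁻¹ ∈ rt up
    rw [hs.cup h hf]
    exact up_mem _
  · refine (Subgroup.closure_le _).2 ?_
    rintro _ ⟨t, rfl⟩
    refine Subgroup.subset_closure ⟨σ.symm (α⁻¹ * t * δ), ?_⟩
    change s * up (σ.symm (α⁻¹ * t * δ)) * s⁻¹ = up t
    rw [hs.cup h hf, RingEquiv.apply_symm_apply]
    congr 1
    field_simp

theorem Sm.clo_mem (hf : ∀ x : X, (∀ v : V, x • v = v) → x = 1) {x : X} (hx : x ∈ clo up lo) :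
    s * x * s⁻¹ ∈ clo up lo := by
  have h1 : clo up lo ≤ (clo up lo).comap (MulAut.conj s).toMonoidHom := by
    refine (Subgroup.closure_le _).2 ?_
    rintro x (⟨t, rfl⟩ | ⟨t, rfl⟩)
    · change s * up t * s⁻¹ ∈ clo up lo
      rw [hs.cup h hf]
      exact up_mem_clo up lo _
    · change s * lo t * s⁻¹ ∈ clo up lo
      rw [hs.clow h hf]
      exact mul_mem (mul_mem (up_mem_clo up lo _) (lo_mem_clo up lo _)) (inv_mem (up_mem_clo up lo _))
  exact h1 hx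

/-- a semilinear 2-element trivial on `a(F)` is in the root group -/
theorem Sm.mem_rt [CharP F 2] (hf : ∀ x : X, (∀ v : V, x • v = v) → x = 1) {k : ℕ} (hk : s ^ 2 ^ k = 1)
    (ht : ∀ z, s • a z = a z) : s ∈ rt up := by
  have e1 : α = 1 := by
    have := inj0 h ((hs.1 1).symm.trans (ht 1))
    rwa [map_one, mul_one] at this
  subst e1
  have e2 : ∀ x, σ x = x := fun x => by
    have := inj0 h ((hs.1 x).symm.trans (ht x))
    rwa [one_mul] at this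
  have e3 : ∀ n : ℕ, ∀ y, ∃ z, s ^ n • b y = a z + b (δ ^ n * y) := by
    intro n
    induction n with
    | zero => intro y; exact ⟨0, by rw [pow_zero, one_smul, map_zero, zero_add, pow_zero, one_mul]⟩
    | succ n ih =>
      intro y
      obtain ⟨z, hz⟩ := ih y
      refine ⟨z + β * (δ ^ n * y), ?_⟩
      rw [pow_succ', mul_smul, hz, smul_add, ht, hs.2, e2, map_add, ← mul_assoc δ, ← pow_succ']
      abel
  obtain ⟨z, hz⟩ := e3 (2 ^ k) 1
  rw [hk, one_smul, mul_one] at hz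
  have e4 : a 0 + b 1 = a z + b (δ ^ 2 ^ k) := by rw [map_zero, zero_add, hz]
  have e5 := (uniq0 h e4).2
  have e6 : (δ + 1) ^ 2 ^ k = 0 := by
    rw [add_pow_char_pow, ← e5, one_pow, CharTwo.add_self_eq_zero]
  have e7 : δ = 1 := by
    have e8 := pow_eq_zero_iff (pow_ne_zero k two_ne_zero) |>.1 e6
    have e9 : δ + 1 = 1 + 1 := by rw [e8, CharTwo.add_self_eq_zero]
    exact add_right_cancel e9
  subst e7
  have e8 : s = up β := by
    refine h.ext hf (fun z => ?_) (fun z => ?_) fun c hc => ?_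
    · rw [ht, h.up_e]
    · rw [hs.2, e2, one_mul, h.up_f, add_comm]
    · rw [AddSubgroup.mem_bot] at hc
      rw [hc, smul_zero, smul_zero]
  rw [e8]
  exact up_mem _

end semi

/-! ### the theorem -/

section main

variable [Finite G] {H N l E K T P : Subgroup G} {F : Type} [Field F] [CharP F 2] {e : G → Fin 2 → F}
variable {F' : Type} [Field F'] {e' : G → Fin 2 → F'}

/-- **UNIQUENESS, group form.** -/
theorem same_one (h : Crd N l E F e) (h' : Crd N l K F' e')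
    (act' : ∀ g ∈ K, ∃ M : Matrix.SpecialLinearGroup (Fin 2) F', ∀ v ∈ N, e' (g * v * g⁻¹) = M.1.mulVec (e' v))
    (semi : ∀ s ∈ T, ∃ (σ : F ≃+* F) (a b d : F),
      ∀ v ∈ N, e (s * v * s⁻¹) = ![a * σ (e v 0) + b * σ (e v 1), d * σ (e v 1)])
    (T2 : IsPGroup 2 T) (syl : ¬ 2 ∣ T.relIndex H) (HN : H ≤ normalizer (N : Set G)) (EH : E ≤ H)
    (KH : K ≤ H) (TK : T ≤ normalizer (K : Set G)) :
    ∀ x ∈ K, ∃ y ∈ E, ∀ v ∈ N, x * v * x⁻¹ = y * v * y⁻¹ := by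
  have two : ∀ x : F, x + x = 0 := CharTwo.add_self_eq_zero
  have ab : ∀ u ∈ N, ∀ v ∈ N, u * v = v * u := fun u hu v hv =>
    h.ext (mul_mem hu hv) (mul_mem hv hu) (by rw [h.mul u hu v hv, h.mul v hv u hu, add_comm])
  let Q : Nrm H N := ⟨ab, HN⟩
  obtain ⟨a, b, up, lo, hB, ka, kb, hu, hl⟩ := exists_bk2 Q h EH
  obtain ⟨a', b', up', lo', hB', ka', kb', hu', hl'⟩ := exists_bk2 Q h' KH
  have hf : ∀ x : XX Q, (∀ v : Q.Mod, x • v = v) → x = 1 := xx_faith Q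
  have kinj : ∀ {m m' : Q.Mod}, e (Q.val m) = e (Q.val m') → m = m' := fun h1 =>
    Nrm.ext (h.ext (Nrm.val_mem _ _) (Nrm.val_mem _ _) h1)
  have kadd : ∀ m m' : Q.Mod, e (Q.val (m + m')) = e (Q.val m) + e (Q.val m') := fun m m' =>
    h.mul _ (Nrm.val_mem _ _) _ (Nrm.val_mem _ _)
  have h2 : ∀ v : Q.Mod, v + v = 0 := fun v => kinj (by
    rw [kadd]
    refine Eq.trans ?_ h.e_one.symm
    funext i
    exact two _)
  -- the Sylow group
  have hT1 : IsPGroup 2 (T.subgroupOf H) := T2.comap_subtype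
  let T₀ : Sylow 2 H := hT1.toSylow syl
  let TX : Sylow 2 (XX Q) := T₀.mapSurjective (rr_surj Q)
  have memT : ∀ s ∈ TX, ∃ t, t ∈ T ∧ ∃ ht : t ∈ H, s = rr Q ⟨t, ht⟩ := by
    intro s hs
    have h3 : s ∈ (TX : Subgroup (XX Q)) := hs
    rw [Sylow.coe_mapSurjective] at h3
    obtain ⟨⟨t, ht⟩, h4, rfl⟩ := h3
    exact ⟨t, h4, ht, rfl⟩
  -- semilinear
  have sm : ∀ s ∈ TX, ∃ (σ : F ≃+* F) (α β δ : F), Sm a b s σ α β δ := by
    intro s hs
    obtain ⟨t, htT, htH, rfl⟩ := memT s hs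
    obtain ⟨σ, α, β, δ, h3⟩ := semi t htT
    refine ⟨σ, α, β, δ, fun x => kinj ?_, fun y => kinj ?_⟩
    · have h4 := h3 (Q.val (a x)) (Nrm.val_mem _ _)
      rw [ka] at h4
      refine h4.trans ?_
      rw [ka]
      simp
    · have h4 := h3 (Q.val (b y)) (Nrm.val_mem _ _)
      rw [kb] at h4
      refine h4.trans ?_
      rw [kadd, ka, kb]
      simp
  have hTn : ∀ s ∈ TX, MulAut.conj s • rt up = rt up := by
    intro s hs
    obtain ⟨σ, α, β, δ, h3⟩ := sm s hs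
    exact h3.rt_eq hB hf
  have hTR : ∀ s ∈ TX, (∀ z, s • a z = a z) → s ∈ rt up := by
    intro s hs hz
    obtain ⟨σ, α, β, δ, h3⟩ := sm s hs
    obtain ⟨k, hk⟩ := TX.isPGroup' ⟨s, hs⟩
    have hk' : s ^ 2 ^ k = 1 := by
      have := congrArg Subtype.val hk
      simpa using this
    exact h3.mem_rt hB hf hk' hz
  have hG := HG_of hB h2 hf TX hTn hTR
  -- the line
  have la : ∀ m : Q.Mod, Q.val m ∈ l ↔ ∃ x, m = a x := by
    intro m
    rw [h.line]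
    constructor
    · rintro ⟨-, h3⟩
      refine ⟨e (Q.val m) 0, kinj ?_⟩
      rw [ka]
      ext i; fin_cases i
      · rfl
      · exact h3
    · rintro ⟨x, rfl⟩
      refine ⟨Nrm.val_mem _ _, ?_⟩
      rw [ka]; rfl
  have la' : ∀ m : Q.Mod, Q.val m ∈ l ↔ ∃ x, m = a' x := by
    intro m
    rw [h'.line]
    constructor
    · rintro ⟨-, h3⟩
      refine ⟨e' (Q.val m) 0, Nrm.ext (h'.ext (Nrm.val_mem _ _) (Nrm.val_mem _ _) ?_)⟩
      rw [ka']
      ext i; fin_cases i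
      · rfl
      · exact h3
    · rintro ⟨x, rfl⟩
      refine ⟨Nrm.val_mem _ _, ?_⟩
      rw [ka']; rfl
  have laa : ∀ m : Q.Mod, (∃ x, m = a x) ↔ ∃ x, m = a' x := fun m => (la m).symm.trans (la' m)
  -- the root groups
  have hle : rt up' ≤ rt up := by
    refine (Subgroup.closure_le _).2 ?_
    rintro _ ⟨t, rfl⟩
    refine hG _ (fun z => ?_) fun z => ?_
    · obtain ⟨z', hz'⟩ := (laa (a z)).1 ⟨z, rfl⟩
      rw [hz', hB'.up_e]
    · obtain ⟨x, y, h3⟩ := dec0 hB' (b z)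
      obtain ⟨s, hs⟩ := (laa (a' (t * y))).2 ⟨_, rfl⟩
      refine ⟨s, ?_⟩
      rw [← hs, h3, smul_add, hB'.up_e, hB'.up_f, add_assoc]
  have finF : Finite F := Finite.of_injective a fun x y e1 => inj0 hB e1
  have finF' : Finite F' := Finite.of_injective a' fun x y e1 => inj0 hB' e1
  have hcF : Nat.card F = Nat.card F' := by
    have h3 : Nat.card (Set.range a) = Nat.card F :=
      (Nat.card_congr (Equiv.ofInjective a fun x y e1 => inj0 hB e1)).symm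
    have h4 : Nat.card (Set.range a') = Nat.card F' :=
      (Nat.card_congr (Equiv.ofInjective a' fun x y e1 => inj0 hB' e1)).symm
    have h5 : Set.range a = Set.range a' := by
      ext m
      constructor
      · rintro ⟨x, hx⟩
        obtain ⟨y, hy⟩ := (laa m).1 ⟨x, hx.symm⟩
        exact ⟨y, hy.symm⟩
      · rintro ⟨x, hx⟩
        obtain ⟨y, hy⟩ := (laa m).2 ⟨x, hx.symm⟩
        exact ⟨y, hy.symm⟩
    rw [← h3, h5, h4]
  have hrt : rt up = rt up' := by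
    refine (Subgroup.eq_of_le_of_card_ge hle ?_).symm
    rw [hB.card_rt h2 hf, hB'.card_rt h2 hf, hcF]
  -- `T` normalises `K`
  have hTK : ∀ s ∈ TX, ∀ x ∈ clo up' lo', s * x * s⁻¹ ∈ clo up' lo' := by
    intro s hs x hx
    obtain ⟨t, htT, htH, rfl⟩ := memT s hs
    obtain ⟨k, hkK, hkH, rfl⟩ := exists_of_mem_clo Q hu' hl' hx
    have h3 : t * k * t⁻¹ ∈ K := (mem_normalizer_iff.1 (TK htT) k).1 hkK
    obtain ⟨M, hM⟩ := act' _ h3
    have h4 := mem_clo_of Q hu' hl' h' (k := ⟨t, htH⟩ * ⟨k, hkH⟩ * (⟨t, htH⟩ : H)⁻¹) (M := M) hM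
    rwa [map_mul, map_mul, map_inv] at h4
  have hTL : ∀ s ∈ TX, ∀ x ∈ clo up lo, s * x * s⁻¹ ∈ clo up lo := by
    intro s hs x hx
    obtain ⟨σ, α, β, δ, h3⟩ := sm s hs
    exact h3.clo_mem hB hf hx
  have main := clo_eq hB hB' h2 hf hrt TX hTn hTR hTL hTK
  intro x hx
  obtain ⟨M, hM⟩ := act' x hx
  have h3 := mem_clo_of Q hu' hl' h' (k := ⟨x, KH hx⟩) (M := M) hM
  rw [← main] at h3
  obtain ⟨y, hyE, hyH, h4⟩ := exists_of_mem_clo Q hu hl h3
  exact ⟨y, hyE, fun v hv => of_rr_eq Q h4 hv⟩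

/-- **`same`** : `P ≤ K T` acts on `N` through `E T`. -/
theorem same (h : Crd N l E F e) (h' : Crd N l K F' e')
    (act' : ∀ g ∈ K, ∃ M : Matrix.SpecialLinearGroup (Fin 2) F', ∀ v ∈ N, e' (g * v * g⁻¹) = M.1.mulVec (e' v))
    (semi : ∀ s ∈ T, ∃ (σ : F ≃+* F) (a b d : F),
      ∀ v ∈ N, e (s * v * s⁻¹) = ![a * σ (e v 0) + b * σ (e v 1), d * σ (e v 1)])
    (T2 : IsPGroup 2 T) (TH : T ≤ H) (syl : ¬ 2 ∣ T.relIndex H) (HN : H ≤ normalizer (N : Set G)) (EH : E ≤ H)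
    (KH : K ≤ H) (TK : T ≤ normalizer (K : Set G)) (PK : P ≤ K ⊔ T) :
    ∀ x ∈ P, ∃ y ∈ E ⊔ T, ∀ v ∈ N, x * v * x⁻¹ = y * v * y⁻¹ := by
  have h1 := same_one h h' act' semi T2 syl HN EH KH TK
  let W : Subgroup G :=
    { carrier := {x | x ∈ H ∧ ∃ y ∈ E ⊔ T, ∀ v ∈ N, x * v * x⁻¹ = y * v * y⁻¹}
      one_mem' := ⟨one_mem _, 1, one_mem _, fun _ _ => rfl⟩
      mul_mem' := by
        rintro x₁ x₂ ⟨hx₁, y₁, hy₁, e₁⟩ ⟨hx₂, y₂, hy₂, e₂⟩
        refine ⟨mul_mem hx₁ hx₂, y₁ * y₂, mul_mem hy₁ hy₂, fun v hv => ?_⟩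
        have h3 : x₂ * v * x₂⁻¹ ∈ N := (mem_normalizer_iff.1 (HN hx₂) v).1 hv
        have h4 := e₁ _ h3
        have h5 : x₁ * x₂ * v * (x₁ * x₂)⁻¹ = x₁ * (x₂ * v * x₂⁻¹) * x₁⁻¹ := by group
        rw [h5, h4, e₂ v hv]
        group
      inv_mem' := by
        rintro x ⟨hx, y, hy, e₁⟩
        refine ⟨inv_mem hx, y⁻¹, inv_mem hy, fun v hv => ?_⟩
        have h3 : x⁻¹ * v * x⁻¹⁻¹ ∈ N := (mem_normalizer_iff.1 (HN (inv_mem hx)) v).1 hv
        have h4 := e₁ _ h3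
        have h5 : x * (x⁻¹ * v * x⁻¹⁻¹) * x⁻¹ = v := by group
        rw [h5] at h4
        calc x⁻¹ * v * x⁻¹⁻¹ = y⁻¹ * (y * (x⁻¹ * v * x⁻¹⁻¹) * y⁻¹) * y⁻¹⁻¹ := by group
          _ = y⁻¹ * v * y⁻¹⁻¹ := by rw [← h4] }
  have h2 : K ⊔ T ≤ W := by
    refine sup_le (fun x hx => ?_) fun x hx => ⟨TH hx, x, mem_sup_right hx, fun _ _ => rfl⟩
    obtain ⟨y, hy, e₁⟩ := h1 x hx
    exact ⟨KH hx, y, mem_sup_left hy, e₁⟩
  exact fun x hx => (h2 (PK hx)).2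

end main

end Cfsg.Agent.Omega.NOThreeL.RWide.ParT.Uniq
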