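import Cfsg.Agent.Omega.NOThreeL.RWide.PermB

/-!
# `parT` (helper971, bb OMEGA #26838, #26936), (2): case (alpha)

`X₁ = P_j`, `X₂ = P`, `K_i = O_2(X_i)`, `U` the module of `H = ⟨X₁, X₂⟩`, `V = V_j` irreducible for `X₁`, `R = R_j` the line,
`AA` an `H`-invariant family; every `A ∈ AA`, `A ≤ T`, `A ≰ K₁` has `[U, A] = R`; `[U, A]` centralises `A'` (`A, A' ≤ T`).

* `eq_one_of_mem_all` : an element of all `⟨Sg - {X}⟩`, `Sg` independent, is trivial;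
* `le_cent_span` / `inf_span_eq_bot` : `V ∩ ⟨[U, A] : A ∈ AA, A ≤ K₁⟩ = 1`;
* **`alpha`** : if all members in `T` lie in `K₂`, then `X₂` normalises `R`.
-/

set_option autoImplicit false

namespace Cfsg.Agent.Omega.NOThreeL.RWide.ParT.Alpha

open Subgroup Cfsg.Agent.ZN.ChoiceBase

universe u

variable {G : Type u} [Group G]

/-! ### Tools -/

/-- a vector which lies in all coordinate hyperplanes of an independent family is trivial -/
theorem eq_one_of_mem_all [Finite G] {U : Subgroup G} (hU : ∀ u ∈ U, ∀ v ∈ U, u * v = v * u) {Sg : Set (Subgroup G)}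
    (hle : ∀ X ∈ Sg, X ≤ U) (hind : ∀ X ∈ Sg, X ⊓ sSup (Sg \ {X}) = ⊥) {w : G}
    (hw : ∀ X ∈ Sg, w ∈ sSup (Sg \ {X})) (A : Finset (Subgroup G)) (hA : (A : Set (Subgroup G)) ⊆ Sg)
    (hwA : w ∈ A.sup id) : w = 1 := by
  classical
  induction A using Finset.induction_on with
  | empty =>
    rw [Finset.sup_empty] at hwA
    exact Subgroup.mem_bot.1 hwA
  | insert X A hX ih =>
    have hXS : X ∈ Sg := hA (by simp)
    have hAS : (A : Set (Subgroup G)) ⊆ Sg := fun Y hY => hA (by simp [Finset.mem_coe.1 hY])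
    rw [Finset.sup_insert] at hwA
    have hAU : A.sup id ≤ U := Finset.sup_le fun Y hY => hle Y (hAS hY)
    obtain ⟨a, ha, b, hb, e⟩ := PermB.mem_sup_comm
      (fun x hx y hy => hU x (hle X hXS hx) y (hAU hy)) hwA
    have hAM : A.sup id ≤ sSup (Sg \ {X}) := Finset.sup_le fun Y hY =>
      le_sSup ⟨hAS hY, fun h => hX (by rw [Set.mem_singleton_iff] at h; rwa [← h])⟩
    have ha' : a ∈ X ⊓ sSup (Sg \ {X}) := by
      refine ⟨ha, ?_⟩
      have h1 : a = w * b⁻¹ := by rw [e]; group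
      rw [h1]
      exact (sSup (Sg \ {X})).mul_mem (hw X hXS) ((sSup (Sg \ {X})).inv_mem (hAM hb))
    rw [hind X hXS] at ha'
    have ha1 : a = 1 := Subgroup.mem_bot.1 ha'
    rw [ha1, one_mul] at e
    exact ih hAS (by rw [e]; exact hb)

theorem cj_sSup (x : G) (Sg : Set (Subgroup G)) : cj x (sSup Sg) = ⨆ Y ∈ Sg, cj x Y :=
  (Subgroup.gc_map_comap (MulAut.conj x).toMonoidHom).l_sSup

theorem cj_bot (x : G) : cj x (⊥ : Subgroup G) = ⊥ := Subgroup.map_bot _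

theorem cj_commutator (x : G) (A B : Subgroup G) : cj x ⁅A, B⁆ = ⁅cj x A, cj x B⁆ := Subgroup.map_commutator _ _ _

/-- a nontrivial normal subgroup of a `2`-group contains a nontrivial central element -/
theorem exists_cent [Finite G] {T D : Subgroup G} (hT : IsPGroup 2 T) (hDT : D ≤ T)
    (hn : T ≤ normalizer (D : Set G)) (hne : D ≠ ⊥) : ∃ w ∈ D, w ≠ 1 ∧ w ∈ centralizer (T : Set G) := by
  have hf : Fact (Nat.Prime 2) := ⟨Nat.prime_two⟩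
  have : Group.IsNilpotent T := hT.isNilpotent
  have h1 : (D.subgroupOf T).Normal := (Subgroup.normal_subgroupOf_iff_le_normalizer hDT).2 hn
  have h2 : D.subgroupOf T ≠ ⊥ := by
    intro h
    rw [Subgroup.subgroupOf_eq_bot] at h
    exact hne (le_bot_iff.1 (h.le_bot.trans' (le_inf le_rfl hDT)))
  have h3 := Cfsg.Agent.Lib.NormalAbelian.normal_inf_center_ne_bot (D.subgroupOf T) h2
  obtain ⟨⟨w, hw⟩, hw1⟩ := (Subgroup.ne_bot_iff_exists_ne_one).1 h3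
  refine ⟨w, hw.1, fun h => hw1 (by ext; simpa using h), ?_⟩
  rw [mem_centralizer_iff]
  intro t ht
  have := Subgroup.mem_center_iff.1 hw.2 ⟨t, ht⟩
  exact congrArg Subtype.val this

/-! ### The span of the centres -/

section span

variable {X₁ K₁ T U V : Subgroup G} {AA : Set (Subgroup G)}

/-- `⟨[U, A] : A ∈ AA, A ≤ K⟩` -/
def span (U K : Subgroup G) (AA : Set (Subgroup G)) : Subgroup G := ⨆ A ∈ {A | A ∈ AA ∧ A ≤ K}, ⁅U, A⁆

theorem le_span {K A : Subgroup G} (hA : A ∈ AA) (hK : A ≤ K) : ⁅U, A⁆ ≤ span U K AA :=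
  le_iSup₂_of_le A ⟨hA, hK⟩ le_rfl

/-- the span is invariant -/
theorem cj_span {X K : Subgroup G} (KX : X ≤ normalizer (K : Set G)) (UX : X ≤ normalizer (U : Set G))
    (AX : ∀ A ∈ AA, ∀ x ∈ X, cj x A ∈ AA) : X ≤ normalizer (span U K AA : Set G) := by
  have key : ∀ x ∈ X, cj x (span U K AA) ≤ span U K AA := by
    intro x hx
    unfold span
    rw [cj_le_iff]
    refine iSup₂_le fun A hA => ?_
    rw [← cj_le_iff, cj_commutator, cj_eq_of_mem_normalizer (UX hx)]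
    refine le_span (AX A hA.1 x hx) ?_
    have := cj_mono x hA.2
    rwa [cj_eq_of_mem_normalizer (KX hx)] at this
  intro x hx
  rw [mem_normalizer_iff_cj]
  refine le_antisymm (key x hx) ?_
  have h1 := cj_mono x (key x⁻¹ (inv_mem hx))
  rwa [cj_cj_inv] at h1

/-- `V ∩ span = 1` -/
theorem inf_span_eq_bot (K₁T : K₁ ≤ T) (K₁n : X₁ ≤ normalizer (K₁ : Set G)) (U₁n : X₁ ≤ normalizer (U : Set G))
    (Vn : X₁ ≤ normalizer (V : Set G)) (irr : ∀ D ≤ V, X₁ ≤ normalizer (D : Set G) → D = ⊥ ∨ D = V)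
    (AA₁ : ∀ A ∈ AA, ∀ x ∈ X₁, cj x A ∈ AA)
    (com : ∀ A ∈ AA, A ≤ T → ∀ A' ∈ AA, A' ≤ T → ⁅U, A⁆ ≤ centralizer (A' : Set G))
    {A₁ : Subgroup G} (hA₁ : A₁ ∈ AA) (hA₁T : A₁ ≤ T) (hm : ¬ V ≤ centralizer (A₁ : Set G)) :
    V ⊓ span U K₁ AA = ⊥ := by
  have h1 : X₁ ≤ normalizer ((V ⊓ span U K₁ AA : Subgroup G) : Set G) := by
    intro x hx
    rw [mem_normalizer_iff_cj, cj_inf, cj_eq_of_mem_normalizer (Vn hx),
      cj_eq_of_mem_normalizer (cj_span K₁n U₁n AA₁ hx)]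
  have h2 : span U K₁ AA ≤ centralizer (A₁ : Set G) :=
    iSup₂_le fun A hA => com A hA.1 (hA.2.trans K₁T) A₁ hA₁ hA₁T
  rcases irr _ inf_le_left h1 with h | h
  · exact h
  · exact absurd ((inf_eq_left.1 h).trans h2) hm

end span

/-! ### Case (alpha) -/

/-- **`parT` (2): if all members of the family in `T` lie in `K₂ = O_2(X₂)`, then `X₂` normalises the line `R`.** -/
theorem alpha [Finite G] {T X₁ X₂ K₁ K₂ U V R F Z₀ : Subgroup G} {AA : Set (Subgroup G)}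
    (two : IsPGroup 2 T) (TX₁ : T ≤ X₁) (TX₂ : T ≤ X₂) (K₁T : K₁ ≤ T) (K₂T : K₂ ≤ T)
    (K₁n : X₁ ≤ normalizer (K₁ : Set G)) (K₂n : X₂ ≤ normalizer (K₂ : Set G))
    (Uab : ∀ u ∈ U, ∀ v ∈ U, u * v = v * u) (UT : U ≤ T) (U₁n : X₁ ≤ normalizer (U : Set G))
    (U₂n : X₂ ≤ normalizer (U : Set G))
    (RV : R ≤ V) (VU : V ≤ U) (RT : T ≤ normalizer (R : Set G)) (Vn : X₁ ≤ normalizer (V : Set G))
    (irr : ∀ D ≤ V, X₁ ≤ normalizer (D : Set G) → D = ⊥ ∨ D = V)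
    (zT : U ⊓ centralizer (T : Set G) ≤ F ⊔ Z₀) (FV : F ≤ V) (Z₁ : Z₀ ≤ centralizer (X₁ : Set G))
    (Z₂ : Z₀ ≤ centralizer (X₂ : Set G))
    (AA₁ : ∀ A ∈ AA, ∀ x ∈ X₁, cj x A ∈ AA) (AA₂ : ∀ A ∈ AA, ∀ x ∈ X₂, cj x A ∈ AA)
    (mv : ∀ A ∈ AA, A ≤ T → ¬ A ≤ K₁ → ⁅U, A⁆ = R ∧ ¬ V ≤ centralizer (A : Set G))
    (com : ∀ A ∈ AA, A ≤ T → ∀ A' ∈ AA, A' ≤ T → ⁅U, A⁆ ≤ centralizer (A' : Set G))
    (hex : ∃ A ∈ AA, A ≤ T ∧ ¬ A ≤ K₁)
    (hα : ∀ A ∈ AA, A ≤ T → A ≤ K₂) : X₂ ≤ normalizer (R : Set G) := by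
  classical
  obtain ⟨A₁, hA₁, hA₁T, hA₁K⟩ := hex
  obtain ⟨hR, hm⟩ := mv A₁ hA₁ hA₁T hA₁K
  have hVU₁ := inf_span_eq_bot K₁T K₁n U₁n Vn irr AA₁ com hA₁ hA₁T hm
  have hSn := cj_span (AA := AA) K₁n U₁n AA₁
  -- the conjugates of the line
  let Sg : Set (Subgroup G) := {X | ∃ x ∈ X₂, X = cj x R}
  have hconj : ∀ x ∈ X₂, cj x A₁ ∈ AA ∧ cj x A₁ ≤ T ∧ ⁅U, cj x A₁⁆ = cj x R := by
    intro x hx
    refine ⟨AA₂ A₁ hA₁ x hx, ?_, ?_⟩
    · have h1 := cj_mono x (hα A₁ hA₁ hA₁T)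
      rw [cj_eq_of_mem_normalizer (K₂n hx)] at h1
      exact h1.trans K₂T
    · rw [← hR, cj_commutator, cj_eq_of_mem_normalizer (U₂n hx)]
  have hSgU : ∀ X ∈ Sg, X ≤ U := by
    rintro X ⟨x, hx, rfl⟩
    have h1 := cj_mono x (RV.trans VU)
    rwa [cj_eq_of_mem_normalizer (U₂n hx)] at h1
  have hRS : R ∈ Sg := ⟨1, one_mem _, (cj_one R).symm⟩
  have hspan : sSup (Sg \ {R}) ≤ span U K₁ AA := by
    refine sSup_le ?_
    rintro X ⟨⟨x, hx, rfl⟩, hne⟩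
    obtain ⟨h1, h2, h3⟩ := hconj x hx
    rw [← h3]
    refine le_span h1 ?_
    by_contra hc
    exact hne (by rw [Set.mem_singleton_iff, ← h3]; exact (mv _ h1 h2 hc).1)
  have hR0 : R ⊓ sSup (Sg \ {R}) = ⊥ := by
    rw [eq_bot_iff, ← hVU₁]
    exact inf_le_inf RV hspan
  have hmove : ∀ x ∈ X₂, cj x (sSup (Sg \ {R})) = sSup (Sg \ {cj x R}) := by
    intro x hx
    rw [cj_sSup]
    refine le_antisymm (iSup₂_le fun Y hY => le_sSup ?_) (sSup_le fun Y hY => ?_)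
    · obtain ⟨⟨y, hy, rfl⟩, hne⟩ := hY
      refine ⟨⟨x * y, mul_mem hx hy, cj_cj x y R⟩, fun h => hne ?_⟩
      rw [Set.mem_singleton_iff] at h ⊢
      have := congrArg (cj x⁻¹) h
      rwa [cj_inv_cj, cj_inv_cj] at this
    · obtain ⟨⟨y, hy, rfl⟩, hne⟩ := hY
      refine le_iSup₂_of_le (cj x⁻¹ (cj y R)) ⟨⟨x⁻¹ * y, mul_mem (inv_mem hx) hy, cj_cj _ _ _⟩, fun h => hne ?_⟩
        (by rw [cj_cj_inv])
      rw [Set.mem_singleton_iff] at h ⊢
      have := congrArg (cj x) h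
      rwa [cj_cj_inv] at this
  have hind : ∀ X ∈ Sg, X ⊓ sSup (Sg \ {X}) = ⊥ := by
    rintro X ⟨x, hx, rfl⟩
    rw [← hmove x hx, ← cj_inf, hR0, cj_bot]
  by_contra hcon
  obtain ⟨x₀, hx₀, hx₀R⟩ : ∃ x ∈ X₂, cj x R ≠ R := by
    by_contra hc
    push Not at hc
    exact hcon fun x hx => mem_normalizer_iff_cj.2 (hc x hx)
  have hRne : R ≠ ⊥ := by
    rintro rfl
    exact hx₀R (cj_bot x₀)
  have hDne : sSup (Sg \ {R}) ≠ ⊥ := by
    intro h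
    have h1 : cj x₀ R ≤ sSup (Sg \ {R}) := le_sSup ⟨⟨x₀, hx₀, rfl⟩, hx₀R⟩
    rw [h, le_bot_iff] at h1
    apply hRne
    have h2 := congrArg (cj x₀⁻¹) h1
    rwa [cj_inv_cj, cj_bot] at h2
  have hDn : T ≤ normalizer ((sSup (Sg \ {R}) : Subgroup G) : Set G) := by
    intro t ht
    rw [mem_normalizer_iff_cj, hmove t (TX₂ ht), cj_eq_of_mem_normalizer (RT ht)]
  have hDU : sSup (Sg \ {R}) ≤ U := sSup_le fun X hX => hSgU X hX.1
  obtain ⟨w, hwD, hw1, hwT⟩ := exists_cent two (hDU.trans UT) hDn hDne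
  -- `w` lies in `Z₀`
  have hcomm : ∀ x ∈ F, ∀ y ∈ Z₀, x * y = y * x := fun x hx y hy =>
    mem_centralizer_iff.1 (Z₁ hy) x (TX₁ (UT (VU (FV hx))))
  obtain ⟨f, hf, z, hz, e⟩ := PermB.mem_sup_comm hcomm (zT ⟨hDU hwD, hwT⟩)
  have hf1 : f = 1 := by
    have hfC : f ∈ centralizer (X₁ : Set G) := by
      rw [mem_centralizer_iff]
      intro l hl
      have hlz : l * z = z * l := mem_centralizer_iff.1 (Z₁ hz) l hl
      have h1 : l * f * l⁻¹ * f⁻¹ = l * w * l⁻¹ * w⁻¹ := by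
        have h2 : z * l⁻¹ = l⁻¹ * z := by
          have : l⁻¹ * (l * z) * l⁻¹ = l⁻¹ * (z * l) * l⁻¹ := by rw [hlz]
          simpa [mul_assoc] using this
        calc l * f * l⁻¹ * f⁻¹ = l * f * (l⁻¹ * z) * z⁻¹ * f⁻¹ := by group
          _ = l * f * (z * l⁻¹) * z⁻¹ * f⁻¹ := by rw [h2]
          _ = l * w * l⁻¹ * w⁻¹ := by rw [e]; group
      have h3a : l * f * l⁻¹ * f⁻¹ ∈ V :=
        V.mul_mem ((mem_normalizer_iff.1 (Vn hl) f).1 (FV hf)) (V.inv_mem (FV hf))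
      have h3b : l * f * l⁻¹ * f⁻¹ ∈ span U K₁ AA := by
        rw [h1]
        exact (span U K₁ AA).mul_mem ((mem_normalizer_iff.1 (hSn hl) w).1 (hspan hwD))
          ((span U K₁ AA).inv_mem (hspan hwD))
      have h3 : l * f * l⁻¹ * f⁻¹ ∈ V ⊓ span U K₁ AA := ⟨h3a, h3b⟩
      rw [hVU₁] at h3
      have h4 : l * f * l⁻¹ * f⁻¹ = 1 := Subgroup.mem_bot.1 h3
      have h5 : l * f * l⁻¹ = f := mul_inv_eq_one.1 h4
      exact mul_inv_eq_iff_eq_mul.1 h5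
    have h6 : X₁ ≤ normalizer ((V ⊓ centralizer (X₁ : Set G) : Subgroup G) : Set G) := by
      intro x hx
      rw [mem_normalizer_iff_cj, cj_inf, cj_eq_of_mem_normalizer (Vn hx), cj_centralizer,
        cj_eq_of_mem_normalizer (le_normalizer hx)]
    rcases irr _ inf_le_left h6 with h | h
    · have : f ∈ V ⊓ centralizer (X₁ : Set G) := ⟨FV hf, hfC⟩
      rw [h] at this
      exact Subgroup.mem_bot.1 this
    · exact absurd ((inf_eq_left.1 h).trans (centralizer_le (hA₁T.trans TX₁))) hm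
  rw [hf1, one_mul] at e
  have hwX : w ∈ centralizer (X₂ : Set G) := by rw [e]; exact Z₂ hz
  -- `w` lies in all hyperplanes
  have hall : ∀ X ∈ Sg, w ∈ sSup (Sg \ {X}) := by
    rintro X ⟨x, hx, rfl⟩
    rw [← hmove x hx, mem_cj]
    have h1 : x⁻¹ * w * x = w := by
      have := mem_centralizer_iff.1 hwX x hx
      rw [mul_assoc, ← this]
      group
    rwa [h1]
  have hfin : Sg.Finite := Set.toFinite _
  refine hw1 (eq_one_of_mem_all Uab hSgU hind hall hfin.toFinset (by simp) ?_)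
  rw [Finset.sup_id_eq_sSup, Set.Finite.coe_toFinset]
  have hle : sSup (Sg \ {R}) ≤ sSup Sg := sSup_le_sSup Set.sdiff_subset
  exact hle hwD

end Cfsg.Agent.Omega.NOThreeL.RWide.ParT.Alpha
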