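import Cfsg.Agent.Omega.NOThreeL.RWide.ParT.Fm
import Cfsg.Agent.Omega.NOThreeL.RWide.ParT.Alpha

/-!
# `parT` (helper971, bb OMEGA #26838, #26936), (2): case (alpha) over `Fm`

* `Fm.F_ne`, `Fm.R_ne`, `Fm.irr`, `Fm.not_cent` : `F ≠ 1`, `V` is irreducible for `X₁`, `A ≰ K₁` moves `V`;
* `Fm.gallery` : some member in `T` is not in `K₁ ∩ K₂`;
* **`Fm.alpha`** : all members in `T` lie in `K₂` ⟹ `X₂ ≤ N(R)`.
-/

set_option autoImplicit false

namespace Cfsg.Agent.Omega.NOThreeL.RWide.ParT.Fm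

open Subgroup Cfsg Cfsg.Agent.ZN.ChoiceBase

universe u v

variable {G : Type u} [Group G] {κ : Type v} {T X₁ X₂ K₁ K₂ U V R F Z₀ C₂ : Subgroup G} {W ρ : κ → Subgroup G}
  {AA : Set (Subgroup G)} {q : ℕ} (h : Fm T X₁ X₂ K₁ K₂ U V R F Z₀ C₂ W ρ AA q)
include h

theorem F_ne : F ≠ ⊥ := by
  rintro rfl
  exact h.mvF fun x _ => mem_centralizer_iff.2 fun y hy => by
    have : y = 1 := Subgroup.mem_bot.1 hy
    rw [this, one_mul, mul_one]

theorem exists_f : ∃ f ∈ F, f ≠ 1 := by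
  obtain ⟨⟨f, hf⟩, hf1⟩ := (Subgroup.ne_bot_iff_exists_ne_one).1 h.F_ne
  exact ⟨f, hf, fun e => hf1 (Subtype.ext e)⟩

theorem R_ne : R ≠ ⊥ := fun e => h.F_ne (le_bot_iff.1 (h.FR.trans e.le))

theorem not_V_le_R : ¬ V ≤ R := by
  intro hc
  obtain ⟨x, hx, h1, -⟩ := h.opp
  have h2 : cj x R ≤ R := by
    have := cj_mono x h.RV
    rw [cj_eq_of_mem_normalizer (h.nV hx)] at this
    exact this.trans hc
  rw [inf_eq_right.2 h2] at h1
  apply h.R_ne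
  have := congrArg (cj x⁻¹) h1
  rwa [cj_inv_cj, Alpha.cj_bot] at this

/-- `V` is irreducible for `X₁` -/
theorem irr (D : Subgroup G) (hDV : D ≤ V) (hn : X₁ ≤ normalizer (D : Set G)) : D = ⊥ ∨ D = V := by
  by_cases hD : D = ⊥
  · exact Or.inl hD
  right
  refine le_antisymm hDV fun v hv => ?_
  obtain ⟨⟨d, hd⟩, hd1⟩ := (Subgroup.ne_bot_iff_exists_ne_one).1 hD
  have hd1' : d ≠ 1 := fun e => hd1 (Subtype.ext e)
  obtain ⟨f, hf, hf1⟩ := h.exists_f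
  by_cases hv1 : v = 1
  · rw [hv1]; exact one_mem _
  obtain ⟨x, hx, ex⟩ := h.tr₁ f hf hf1 d (hDV hd) hd1'
  obtain ⟨y, hy, ey⟩ := h.tr₁ f hf hf1 v hv hv1
  have hfD : f ∈ D := by
    have h1 : f = x⁻¹ * d * x⁻¹⁻¹ := by rw [← ex]; group
    rw [h1]
    exact (mem_normalizer_iff.1 (hn (inv_mem hx)) d).1 hd
  rw [← ey]
  exact (mem_normalizer_iff.1 (hn hy) f).1 hfD

theorem not_cent {A : Subgroup G} (hA : A ∈ AA) (hAT : A ≤ T) (hK : ¬ A ≤ K₁) : ¬ V ≤ centralizer (A : Set G) := by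
  intro hc
  have h1 := (h.mv₁ A hA hAT hK).2.1
  rw [inf_eq_left.2 hc] at h1
  exact h.not_V_le_R h1.le

/-- **the gallery** : some member in `T` is not in `K₁ ∩ K₂` -/
theorem gallery [Finite G] : ∃ A ∈ AA, A ≤ T ∧ ¬ (A ≤ K₁ ∧ A ≤ K₂) := by
  by_contra hcon
  push Not at hcon
  have hall : ∀ A ∈ AA, A ≤ T → A ≤ K₁ ∧ A ≤ K₂ := fun A hA hT => by
    have := hcon A hA hT
    exact this
  let J : Subgroup G := ⨆ A ∈ {A | A ∈ AA ∧ A ≤ T}, A
  have hJ : ∀ {A : Subgroup G}, A ∈ AA → A ≤ T → A ≤ J := fun {A} h1 h2 => le_iSup₂_of_le A ⟨h1, h2⟩ le_rfl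
  have key : ∀ x, (x ∈ X₁ ∨ x ∈ X₂) → cj x J ≤ J := by
    intro x hx
    rw [cj_le_iff]
    refine iSup₂_le fun A hA => ?_
    rw [← cj_le_iff]
    have hxH : x ∈ X₁ ⊔ X₂ := by
      rcases hx with hx | hx
      · exact le_sup_left (b := X₂) hx
      · exact le_sup_right (a := X₁) hx
    refine hJ (h.AAc A hA.1 x hxH) ?_
    rcases hx with hx | hx
    · have := cj_mono x (hall A hA.1 hA.2).1
      rw [cj_eq_of_mem_normalizer (h.nK₁ hx)] at this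
      exact this.trans h.KT₁
    · have := cj_mono x (hall A hA.1 hA.2).2
      rw [cj_eq_of_mem_normalizer (h.nK₂ hx)] at this
      exact this.trans h.KT₂
  have hn : X₁ ⊔ X₂ ≤ normalizer (J : Set G) := sup_le (fun x hx => mem_normalizer_of_cj_le (key x (Or.inl hx)))
    fun x hx => mem_normalizer_of_cj_le (key x (Or.inr hx))
  have hJV : J ≤ centralizer (F : Set G) := by
    refine (iSup₂_le fun A hA => ?_)
    exact ((hall A hA.1 hA.2).1.trans h.cK₁).trans (centralizer_le (h.FR.trans h.RV))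
  have hJU : J ≤ centralizer (U : Set G) := by
    have h1 : U ≤ centralizer (J : Set G) := h.gen.trans (iSup_le fun x => by
      have h2 : F ≤ centralizer (J : Set G) := fun f hf => mem_centralizer_iff.2 fun j hj =>
        (mem_centralizer_iff.1 (hJV hj) f hf).symm
      have h3 := cj_mono (x : G) h2
      rwa [cj_centralizer, cj_eq_of_mem_normalizer (hn x.2)] at h3)
    exact fun j hj => mem_centralizer_iff.2 fun u hu => (mem_centralizer_iff.1 (h1 hu) j hj).symm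
  obtain ⟨A, hA⟩ := h.AAne
  obtain ⟨x, hx, hxT⟩ := h.AAT A hA
  exact h.AAU _ (h.AAc A hA x hx) ((hJ (h.AAc A hA x hx) hxT).trans hJU)

/-- **`parT` (2), case (alpha): if all members in `T` lie in `K₂ = O_2(X₂)`, then `X₂` normalises the line `R`.** -/
theorem alpha [Finite G] (hUT : U ≤ T)
    (com : ∀ A ∈ AA, A ≤ T → ∀ A' ∈ AA, A' ≤ T → ⁅U, A⁆ ≤ centralizer (A' : Set G))
    (hα : ∀ A ∈ AA, A ≤ T → A ≤ K₂) : X₂ ≤ normalizer (R : Set G) := by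
  obtain ⟨A, hA, hAT, hK⟩ := h.gallery
  have hK₁ : ¬ A ≤ K₁ := fun h1 => hK ⟨h1, hα A hA hAT⟩
  have hc : ∀ x ∈ Z₀, ∀ y ∈ X₁ ⊔ X₂, y * x = x * y := fun x hx y hy =>
    (mem_centralizer_iff.1 (h.cZ hy) x hx).symm
  refine Alpha.alpha h.two h.TX₁ h.TX₂ h.KT₁ h.KT₂ h.nK₁ h.nK₂ ?_ hUT h.nU₁ h.nU₂ h.RV h.VU h.TR h.nV h.irr h.zT
    (h.FR.trans h.RV) ?_ ?_ (fun A hA x hx => h.AAc A hA x (le_sup_left (b := X₂) hx))
    (fun A hA x hx => h.AAc A hA x (le_sup_right (a := X₁) hx))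
    (fun A hA hAT hK => ⟨(h.mv₁ A hA hAT hK).1, h.not_cent hA hAT hK⟩) com ⟨A, hA, hAT, hK₁⟩ hα
  · intro u hu v hv
    have h1 := h.Uel.1
    exact congrArg Subtype.val (h1.is_comm.comm (⟨u, hu⟩ : U) ⟨v, hv⟩)
  · exact fun x hx => mem_centralizer_iff.2 fun y hy => hc x hx y (le_sup_left (b := X₂) hy)
  · exact fun x hx => mem_centralizer_iff.2 fun y hy => hc x hx y (le_sup_right (a := X₁) hy)

end Cfsg.Agent.Omega.NOThreeL.RWide.ParT.Fm
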