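import Cfsg.Agent.Omega.NOThreeL.RWide.ParT.Alpha

/-!
# `parT` (helper294, bb OMEGA #26826 (2)(i-b), #27307 (A)) : case (A), pure

`U = V × C` with `⁅U, K₁⁆ ≤ C` (`K₁ = C_T(V)`), a member `E ∈ AA`, `E ≤ K₂ = O₂(X₂)`, moves `V` (`⁅U, E⁆ = R`): then the
`X₂`-conjugates of `R` other than `R` lie in `C`, so they are independent, and a `T`-fixed vector of their span lies in
`Z₀`, is fixed by `X₂`, but `X₂` permutes the conjugates of `R` transitively: so `X₂ ≤ N(R)`.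
-/

set_option autoImplicit false

namespace Cfsg.Agent.Omega.NOThreeL.RWide.ParT.Alpha

open Subgroup Cfsg.Agent.ZN.ChoiceBase

universe u

variable {G : Type u} [Group G]

/-- **`parT`, case (A)** -/
theorem alphaS [Finite G] {T X₂ K₁ K₂ U V R F Z₀ C E : Subgroup G} {AA : Set (Subgroup G)}
    (two : IsPGroup 2 T) (TX₂ : T ≤ X₂) (K₂T : K₂ ≤ T) (K₂n : X₂ ≤ normalizer (K₂ : Set G))
    (Uab : ∀ u ∈ U, ∀ v ∈ U, u * v = v * u) (UT : U ≤ T) (U₂n : X₂ ≤ normalizer (U : Set G))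
    (RV : R ≤ V) (VU : V ≤ U) (RT : T ≤ normalizer (R : Set G))
    (zT : U ⊓ centralizer (T : Set G) ≤ F ⊔ Z₀) (FV : F ≤ V)
    (Z₂ : Z₀ ≤ centralizer (X₂ : Set G)) (VC : V ⊓ C = ⊥) (ZC : U ⊓ Z₀ ≤ C) (KC : ⁅U, K₁⁆ ≤ C)
    (AA₂ : ∀ A ∈ AA, ∀ x ∈ X₂, cj x A ∈ AA)
    (mv : ∀ A ∈ AA, A ≤ T → ¬ A ≤ K₁ → ⁅U, A⁆ = R)
    (hE : E ∈ AA) (EK : E ≤ K₂) (E₁ : ¬ E ≤ K₁) : X₂ ≤ normalizer (R : Set G) := by
  classical
  have hR : ⁅U, E⁆ = R := mv E hE (EK.trans K₂T) E₁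
  let Sg : Set (Subgroup G) := {X | ∃ x ∈ X₂, X = cj x R}
  have hconj : ∀ x ∈ X₂, cj x E ∈ AA ∧ cj x E ≤ T ∧ ⁅U, cj x E⁆ = cj x R := by
    intro x hx
    refine ⟨AA₂ E hE x hx, ?_, ?_⟩
    · have h1 := cj_mono x EK
      rw [cj_eq_of_mem_normalizer (K₂n hx)] at h1
      exact h1.trans K₂T
    · rw [← hR, cj_commutator, cj_eq_of_mem_normalizer (U₂n hx)]
  have hSgU : ∀ X ∈ Sg, X ≤ U := by
    rintro X ⟨x, hx, rfl⟩
    have h1 := cj_mono x (RV.trans VU)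
    rwa [cj_eq_of_mem_normalizer (U₂n hx)] at h1
  have hspan : sSup (Sg \ {R}) ≤ C := by
    refine sSup_le ?_
    rintro X ⟨⟨x, hx, rfl⟩, hne⟩
    obtain ⟨h1, h2, h3⟩ := hconj x hx
    rw [← h3]
    by_cases hc : cj x E ≤ K₁
    · exact (commutator_mono le_rfl hc).trans KC
    · exact absurd (by rw [Set.mem_singleton_iff, ← h3]; exact mv _ h1 h2 hc) hne
  have hR0 : R ⊓ sSup (Sg \ {R}) = ⊥ := by
    rw [eq_bot_iff, ← VC]
    exact inf_le_inf RV hspan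
  have hmove : ∀ x ∈ X₂, cj x (sSup (Sg \ {R})) = sSup (Sg \ {cj x R}) := by
    intro x hx
    rw [cj_sSup]
    refine le_antisymm (iSup₂_le fun Y hY => le_sSup ?_) (sSup_le fun Y hY => ?_)
    · obtain ⟨⟨y, hy, rfl⟩, hne⟩ := hY
      refine ⟨⟨x * y, mul_mem hx hy, cj_cj x y R⟩, fun h => hne ?_⟩
      rw [Set.mem_singleton_iff] at h ⊢
      have := congrArg (cj x⁻¹) h
      rwa [cj_inv_cj, cj_inv_cj] at this
    · obtain ⟨⟨y, hy, rfl⟩, hne⟩ := hY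
      refine le_iSup₂_of_le (cj x⁻¹ (cj y R)) ⟨⟨x⁻¹ * y, mul_mem (inv_mem hx) hy, cj_cj _ _ _⟩, fun h => hne ?_⟩
        (by rw [cj_cj_inv])
      rw [Set.mem_singleton_iff] at h ⊢
      have := congrArg (cj x) h
      rwa [cj_cj_inv] at this
  have hind : ∀ X ∈ Sg, X ⊓ sSup (Sg \ {X}) = ⊥ := by
    rintro X ⟨x, hx, rfl⟩
    rw [← hmove x hx, ← cj_inf, hR0, cj_bot]
  by_contra hcon
  obtain ⟨x₀, hx₀, hx₀R⟩ : ∃ x ∈ X₂, cj x R ≠ R := by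
    by_contra hc
    push Not at hc
    exact hcon fun x hx => mem_normalizer_iff_cj.2 (hc x hx)
  have hRne : R ≠ ⊥ := by
    rintro rfl
    exact hx₀R (cj_bot x₀)
  have hDne : sSup (Sg \ {R}) ≠ ⊥ := by
    intro h
    have h1 : cj x₀ R ≤ sSup (Sg \ {R}) := le_sSup ⟨⟨x₀, hx₀, rfl⟩, hx₀R⟩
    rw [h, le_bot_iff] at h1
    apply hRne
    have h2 := congrArg (cj x₀⁻¹) h1
    rwa [cj_inv_cj, cj_bot] at h2
  have hDn : T ≤ normalizer ((sSup (Sg \ {R}) : Subgroup G) : Set G) := by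
    intro t ht
    rw [mem_normalizer_iff_cj, hmove t (TX₂ ht), cj_eq_of_mem_normalizer (RT ht)]
  have hDU : sSup (Sg \ {R}) ≤ U := sSup_le fun X hX => hSgU X hX.1
  obtain ⟨w, hwD, hw1, hwT⟩ := exists_cent two (hDU.trans UT) hDn hDne
  -- `w` lies in `Z₀`
  have hcomm : ∀ x ∈ F, ∀ y ∈ Z₀, x * y = y * x := fun x hx y hy =>
    mem_centralizer_iff.1 (Z₂ hy) x (TX₂ (UT (VU (FV hx))))
  obtain ⟨f, hf, z, hz, e⟩ := PermB.mem_sup_comm hcomm (zT ⟨hDU hwD, hwT⟩)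
  have hf1 : f = 1 := by
    have h1 : z = f⁻¹ * w := by rw [e]; group
    have h2 : z ∈ U := by
      rw [h1]
      exact U.mul_mem (U.inv_mem (VU (FV hf))) (hDU hwD)
    have h3 : f = w * z⁻¹ := by rw [e]; group
    have h4 : f ∈ V ⊓ C := ⟨FV hf, by rw [h3]; exact C.mul_mem (hspan hwD) (C.inv_mem (ZC ⟨h2, hz⟩))⟩
    rw [VC] at h4
    exact Subgroup.mem_bot.1 h4
  rw [hf1, one_mul] at e
  have hwX : w ∈ centralizer (X₂ : Set G) := by rw [e]; exact Z₂ hz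
  -- `w` lies in all hyperplanes
  have hall : ∀ X ∈ Sg, w ∈ sSup (Sg \ {X}) := by
    rintro X ⟨x, hx, rfl⟩
    rw [← hmove x hx, mem_cj]
    have h1 : x⁻¹ * w * x = w := by
      have := mem_centralizer_iff.1 hwX x hx
      rw [mul_assoc, ← this]
      group
    rwa [h1]
  have hfin : Sg.Finite := Set.toFinite _
  refine hw1 (eq_one_of_mem_all Uab hSgU hind hall hfin.toFinset (by simp) ?_)
  rw [Finset.sup_id_eq_sSup, Set.Finite.coe_toFinset]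
  have hle : sSup (Sg \ {R}) ≤ sSup Sg := sSup_le_sSup Set.sdiff_subset
  exact hle hwD

end Cfsg.Agent.Omega.NOThreeL.RWide.ParT.Alpha
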