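import Cfsg.Agent.Omega.NOThreeL.RWide.PermB

/-!
# THEOREM PAR_T (helper971, bb OMEGA #26838), step (1): walking, same axis, `[c(A), A'] = 1`

`T ≤ X₁, X₂`, `K_i ≤ T` normal in `X_i`, the 2-group `U` abelian and normalised by `H = ⟨X₁, X₂⟩`; `AA` is an `H`-invariant
family of subgroups moving `U`, `c(A) = [U, A]`, `A` quadratic on `U`, `[u, A] = c(A)` for `u ∈ U \ C(A)`, all `|c(A)|`
equal.  `Pan T K U AA W ρ` : a member `A ≤ T`, `A ≰ K` of `AA` moves some `W i`, and `c(A) = ρ i` if `A ≤ T` moves `W i`.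

* `Wk.walk` : `A ≤ T` with `A ≤ K₁^x ∩ K₂^x` whenever `A ≤ T^x` centralises `U`;
* `Wk.gallery` : two members of `T` lie in a conjugate `T^x` in which one of them is not in `K₁^x` or not in `K₂^x`;
* `Wk.c_eq` : members of `T` with the same axis `C_U(A)` have the same `c(A)`;
* `Wk.c_cent` : `A, A' ≤ T` ⟹ `A'` centralises `c(A)`;
* `CK U AA K = ⟨c(A) : A ∈ AA, A ≤ K⟩`; `Wk.CK_cent`, `Wk.CK_norm`, **`Wk.CK_inf`**.
-/

set_option autoImplicit false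
set_option linter.unusedSectionVars false

namespace Cfsg.Agent.Omega.NOThreeL.RWide.ParT

open Subgroup Cfsg Cfsg.Agent.ZN.ChoiceBase
open Cfsg.Agent.Omega.NOThreeL.RWide.PermB (eq_bot_of_le_commutator)

universe u v w

variable {G : Type u} [Group G]

/-- A panel: `A ∈ AA`, `A ≤ T`, `A ≰ K` moves some `W i`; `[U, A] = ρ i` if `A ≤ T` moves `W i`. -/
structure Pan (T K U : Subgroup G) (AA : Set (Subgroup G)) {κ : Type v} (W ρ : κ → Subgroup G) : Prop where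
  WU : ∀ i, W i ≤ U
  ex : ∀ A ∈ AA, A ≤ T → ¬ A ≤ K → ∃ i, ¬ A ≤ centralizer (W i : Set G)
  mv : ∀ A ∈ AA, A ≤ T → ∀ i, ¬ A ≤ centralizer (W i : Set G) → ⁅U, A⁆ = ρ i

/-- The frame of step (1). -/
structure Wk (T X₁ X₂ K₁ K₂ U : Subgroup G) (AA : Set (Subgroup G)) {κ₁ : Type v} {κ₂ : Type w}
    (W₁ ρ₁ : κ₁ → Subgroup G) (W₂ ρ₂ : κ₂ → Subgroup G) : Prop where
  two : IsPGroup 2 T
  T₁ : T ≤ X₁
  T₂ : T ≤ X₂
  KT₁ : K₁ ≤ T
  KT₂ : K₂ ≤ T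
  nK₁ : X₁ ≤ normalizer (K₁ : Set G)
  nK₂ : X₂ ≤ normalizer (K₂ : Set G)
  U2 : IsPGroup 2 U
  nU₁ : X₁ ≤ normalizer (U : Set G)
  nU₂ : X₂ ≤ normalizer (U : Set G)
  core : ∀ N ≤ T, X₁ ≤ normalizer (N : Set G) → X₂ ≤ normalizer (N : Set G) → N ≤ centralizer (U : Set G)
  AAc : ∀ A ∈ AA, ∀ x ∈ X₁ ⊔ X₂, cj x A ∈ AA
  AAU : ∀ A ∈ AA, ¬ A ≤ centralizer (U : Set G)
  card : ∀ A ∈ AA, ∀ A' ∈ AA, Nat.card ↥(⁅U, A⁆) = Nat.card ↥(⁅U, A'⁆)
  ful : ∀ A ∈ AA, ∀ u ∈ U, u ∉ centralizer (A : Set G) → ∀ z ∈ ⁅U, A⁆, ∃ a ∈ A, a * u * a⁻¹ * u⁻¹ = z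
  qd : ∀ A ∈ AA, A ≤ centralizer ((⁅U, A⁆ : Subgroup G) : Set G)
  p₁ : Pan T K₁ U AA W₁ ρ₁
  p₂ : Pan T K₂ U AA W₂ ρ₂

theorem c_cj {U A : Subgroup G} {x : G} (hx : x ∈ normalizer (U : Set G)) : ⁅U, cj x A⁆ = cj x ⁅U, A⁆ := by
  have h1 : cj x ⁅U, A⁆ = ⁅cj x U, cj x A⁆ := map_commutator _ _ _
  rw [h1, cj_eq_of_mem_normalizer hx]

theorem ax_cj {U A : Subgroup G} {x : G} (hx : x ∈ normalizer (U : Set G)) :
    U ⊓ centralizer ((cj x A : Subgroup G) : Set G) = cj x (U ⊓ centralizer (A : Set G)) := by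
  rw [cj_inf, cj_eq_of_mem_normalizer hx, cj_centralizer]

/-- `⟨[U, A] : A ∈ AA, A ≤ K⟩` -/
def CK (U : Subgroup G) (AA : Set (Subgroup G)) (K : Subgroup G) : Subgroup G :=
  ⨆ (A : Subgroup G) (_ : A ∈ AA ∧ A ≤ K), ⁅U, A⁆

namespace Wk

variable {T X₁ X₂ K₁ K₂ U : Subgroup G} {AA : Set (Subgroup G)} {κ₁ : Type v} {κ₂ : Type w}
  {W₁ ρ₁ : κ₁ → Subgroup G} {W₂ ρ₂ : κ₂ → Subgroup G} (h : Wk T X₁ X₂ K₁ K₂ U AA W₁ ρ₁ W₂ ρ₂)
include h

theorem nU : X₁ ⊔ X₂ ≤ normalizer (U : Set G) := sup_le h.nU₁ h.nU₂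

theorem TH : T ≤ X₁ ⊔ X₂ := h.T₁.trans le_sup_left

/-- **walking** -/
theorem walk {A : Subgroup G} (hcon : ∀ x ∈ X₁ ⊔ X₂, A ≤ cj x T → A ≤ cj x K₁ ∧ A ≤ cj x K₂) (hT : A ≤ T) :
    A ≤ centralizer (U : Set G) := by
  have s₁ : ∀ x, A ≤ cj x K₁ → ∀ y ∈ X₁, A ≤ cj (x * y) T := by
    intro x hE y hy
    refine hE.trans ?_
    rw [← cj_cj]
    refine cj_mono x ?_
    have := cj_mono y h.KT₁
    rwa [cj_eq_of_mem_normalizer (h.nK₁ hy)] at this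
  have s₂ : ∀ x, A ≤ cj x K₂ → ∀ y ∈ X₂, A ≤ cj (x * y) T := by
    intro x hE y hy
    refine hE.trans ?_
    rw [← cj_cj]
    refine cj_mono x ?_
    have := cj_mono y h.KT₂
    rwa [cj_eq_of_mem_normalizer (h.nK₂ hy)] at this
  have key : ∀ x ∈ X₁ ⊔ X₂, A ≤ cj x T := by
    intro x hx
    rw [sup_eq_closure] at hx
    induction hx using closure_induction_right with
    | one => rw [cj_one]; exact hT
    | mul_right x hx y hy ih =>
      rw [← sup_eq_closure] at hx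
      obtain ⟨h1, h2⟩ := hcon x hx ih
      rcases hy with hy | hy
      · exact s₁ x h1 y hy
      · exact s₂ x h2 y hy
    | mul_inv_cancel x hx y hy ih =>
      rw [← sup_eq_closure] at hx
      obtain ⟨h1, h2⟩ := hcon x hx ih
      rcases hy with hy | hy
      · exact s₁ x h1 _ (inv_mem hy)
      · exact s₂ x h2 _ (inv_mem hy)
  -- the core
  set N : Subgroup G := ⨅ x : ↥(X₁ ⊔ X₂), cj (x : G) T with hN
  have hNT : N ≤ T := by
    have := iInf_le (fun x : ↥(X₁ ⊔ X₂) => cj (x : G) T) 1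
    simpa [cj_one] using this
  have hNn : ∀ y ∈ X₁ ⊔ X₂, y ∈ normalizer (N : Set G) := by
    have h1 : ∀ y ∈ X₁ ⊔ X₂, cj y N ≤ N := by
      intro y hy
      refine le_iInf fun x => ?_
      rw [cj_le_iff, cj_cj]
      exact iInf_le (fun x : ↥(X₁ ⊔ X₂) => cj (x : G) T) ⟨y⁻¹ * x, mul_mem (inv_mem hy) x.2⟩
    intro y hy
    rw [mem_normalizer_iff_cj]
    refine le_antisymm (h1 y hy) ?_
    have := cj_mono y (h1 y⁻¹ (inv_mem hy))
    rwa [cj_cj_inv] at this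
  have hAN : A ≤ N := le_iInf fun x => key x x.2
  exact hAN.trans (h.core N hNT (fun y hy => hNn y ((le_sup_left : X₁ ≤ X₁ ⊔ X₂) hy))
    fun y hy => hNn y ((le_sup_right : X₂ ≤ X₁ ⊔ X₂) hy))

/-- **the gallery** -/
theorem gallery {A A' : Subgroup G} (hA : A ∈ AA) (hT : A ≤ T) (hT' : A' ≤ T) :
    ∃ x ∈ X₁ ⊔ X₂, A ≤ cj x T ∧ A' ≤ cj x T ∧
      ((¬ A ≤ cj x K₁ ∨ ¬ A' ≤ cj x K₁) ∨ ¬ A ≤ cj x K₂ ∨ ¬ A' ≤ cj x K₂) := by
  by_contra hcon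
  push Not at hcon
  refine h.AAU A hA (le_sup_left.trans (h.walk (A := A ⊔ A') (fun x hx hx' => ?_) (sup_le hT hT')))
  obtain ⟨h1, h2⟩ := hcon x hx (le_sup_left.trans hx') (le_sup_right.trans hx')
  exact ⟨sup_le h1.1 h1.2, sup_le h2.1 h2.2⟩

/-- local version of `c_eq` -/
theorem c_eq_loc {K : Subgroup G} {κ : Type*} {W ρ : κ → Subgroup G} (hp : Pan T K U AA W ρ) {B B' : Subgroup G}
    (hB : B ∈ AA) (hB' : B' ∈ AA) (hT : B ≤ T) (hT' : B' ≤ T)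
    (hax : U ⊓ centralizer (B : Set G) = U ⊓ centralizer (B' : Set G)) (hK : ¬ B ≤ K) : ⁅U, B⁆ = ⁅U, B'⁆ := by
  obtain ⟨i, hi⟩ := hp.ex B hB hT hK
  have hi' : ¬ B' ≤ centralizer (W i : Set G) := by
    intro h1
    apply hi
    have h2 : W i ≤ U ⊓ centralizer (B' : Set G) := le_inf (hp.WU i) (le_centralizer_iff.1 h1)
    rw [← hax] at h2
    exact le_centralizer_iff.1 (h2.trans inf_le_right)
  rw [hp.mv B hB hT i hi, hp.mv B' hB' hT' i hi']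

/-- **same axis ⟹ same `c(A)`** -/
theorem c_eq {A A' : Subgroup G} (hA : A ∈ AA) (hA' : A' ∈ AA) (hT : A ≤ T) (hT' : A' ≤ T)
    (hax : U ⊓ centralizer (A : Set G) = U ⊓ centralizer (A' : Set G)) : ⁅U, A⁆ = ⁅U, A'⁆ := by
  obtain ⟨x, hx, h1, h1', h2⟩ := h.gallery hA hT hT'
  have hx' : x⁻¹ ∈ X₁ ⊔ X₂ := inv_mem hx
  have hxU := h.nU hx'
  have h3 : cj x⁻¹ A ≤ T := by
    have := cj_mono x⁻¹ h1
    rwa [cj_inv_cj] at this
  have h3' : cj x⁻¹ A' ≤ T := by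
    have := cj_mono x⁻¹ h1'
    rwa [cj_inv_cj] at this
  have k := h.AAc A hA x⁻¹ hx'
  have k' := h.AAc A' hA' x⁻¹ hx'
  have hax' : U ⊓ centralizer ((cj x⁻¹ A : Subgroup G) : Set G) =
      U ⊓ centralizer ((cj x⁻¹ A' : Subgroup G) : Set G) := by
    rw [ax_cj hxU, ax_cj hxU, hax]
  have hne : ∀ {E K : Subgroup G}, ¬ E ≤ cj x K → ¬ cj x⁻¹ E ≤ K := by
    intro E K h4 h5
    apply h4
    have := cj_mono x h5
    rwa [cj_cj_inv] at this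
  have key : ⁅U, cj x⁻¹ A⁆ = ⁅U, cj x⁻¹ A'⁆ := by
    rcases h2 with (h2 | h2) | h2 | h2
    · exact h.c_eq_loc h.p₁ k k' h3 h3' hax' (hne h2)
    · exact (h.c_eq_loc h.p₁ k' k h3' h3 hax'.symm (hne h2)).symm
    · exact h.c_eq_loc h.p₂ k k' h3 h3' hax' (hne h2)
    · exact (h.c_eq_loc h.p₂ k' k h3' h3 hax'.symm (hne h2)).symm
  rw [c_cj hxU, c_cj hxU] at key
  have := congrArg (cj x) key
  rwa [cj_cj_inv, cj_cj_inv] at this

theorem c_le {A : Subgroup G} (hT : A ≤ T) : ⁅U, A⁆ ≤ U :=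
  le_normalizer_iff_commutator_le_left.1 ((hT.trans h.TH).trans h.nU)

/-- **`A, A' ≤ T` ⟹ `A'` centralises `c(A)`** -/
theorem c_cent [Finite G] {A A' : Subgroup G} (hA : A ∈ AA) (hA' : A' ∈ AA) (hT : A ≤ T) (hT' : A' ≤ T) :
    A' ≤ centralizer ((⁅U, A⁆ : Subgroup G) : Set G) := by
  by_contra hcon
  have hx : ∃ x ∈ ⁅U, A⁆, x ∉ centralizer (A' : Set G) := by
    by_contra hc
    push Not at hc
    exact hcon (le_centralizer_iff.1 hc)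
  obtain ⟨x, hx, hxA'⟩ := hx
  have hxU : x ∈ U := h.c_le hT hx
  -- `A` centralises `[U, A']`
  have h1 : A ≤ centralizer ((⁅U, A'⁆ : Subgroup G) : Set G) := by
    by_contra hc
    have hy : ∃ y ∈ ⁅U, A'⁆, y ∉ centralizer (A : Set G) := by
      by_contra hc'
      push Not at hc'
      exact hc (le_centralizer_iff.1 hc')
    obtain ⟨y, hy, hyA⟩ := hy
    have hyU : y ∈ U := h.c_le hT' hy
    set M : Subgroup G := ⁅U, A⁆ ⊔ ⁅U, A'⁆ with hM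
    have hTU2 : IsPGroup 2 ((T ⊔ U : Subgroup G)) := IsPGroup.to_sup_of_normal_right' h.two h.U2 (h.TH.trans h.nU)
    have hMS : M ≤ T ⊔ U := (sup_le (h.c_le hT) (h.c_le hT')).trans le_sup_right
    have h2 : M ≤ ⁅M, T ⊔ U⁆ := by
      refine sup_le ?_ ?_
      · intro z hz
        obtain ⟨a, ha, e⟩ := h.ful A hA y hyU hyA z hz
        rw [commutator_comm, ← e]
        exact commutator_mem_commutator ((le_sup_left : T ≤ T ⊔ U) (hT ha)) ((le_sup_right : ⁅U, A'⁆ ≤ M) hy)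
      · intro z hz
        obtain ⟨a, ha, e⟩ := h.ful A' hA' x hxU hxA' z hz
        rw [commutator_comm, ← e]
        exact commutator_mem_commutator ((le_sup_left : T ≤ T ⊔ U) (hT' ha)) ((le_sup_left : ⁅U, A⁆ ≤ M) hx)
    have h3 := eq_bot_of_le_commutator hTU2 hMS h2
    have h4 : x = 1 := by
      have : x ∈ M := (le_sup_left : ⁅U, A⁆ ≤ M) hx
      rw [h3, mem_bot] at this
      exact this
    exact hxA' (h4 ▸ one_mem _)
  -- `A'` normalises `C_U(A)`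
  have h2 : ∀ a' ∈ A', cj a' (U ⊓ centralizer (A : Set G)) = U ⊓ centralizer (A : Set G) := by
    have h3 : ∀ a' ∈ A', cj a' (U ⊓ centralizer (A : Set G)) ≤ U ⊓ centralizer (A : Set G) := by
      rintro a' ha' _ ⟨u, hu, rfl⟩
      show a' * u * a'⁻¹ ∈ _
      have h4 : a' * u * a'⁻¹ * u⁻¹ ∈ ⁅U, A'⁆ := by
        rw [commutator_comm]
        exact commutator_mem_commutator ha' hu.1
      have h5 : a' * u * a'⁻¹ * u⁻¹ ∈ U ⊓ centralizer (A : Set G) :=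
        ⟨h.c_le hT' h4, (le_centralizer_iff.1 h1) h4⟩
      have h6 := mul_mem h5 hu
      rwa [inv_mul_cancel_right] at h6
    intro a' ha'
    refine le_antisymm (h3 a' ha') ?_
    have := cj_mono a' (h3 a'⁻¹ (inv_mem ha'))
    rwa [cj_cj_inv] at this
  -- `A'` normalises `[U, A]`
  have h3 : ∀ a' ∈ A', cj a' ⁅U, A⁆ = ⁅U, A⁆ := by
    intro a' ha'
    have hH := h.TH (hT' ha')
    have hn : a' ∈ normalizer (U : Set G) := h.nU hH
    have hS : cj a' A ≤ T := by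
      have := cj_mono a' hT
      rwa [cj_eq_of_mem_normalizer (le_normalizer (hT' ha'))] at this
    have h4 := h.c_eq (h.AAc A hA a' hH) hA hS hT (by rw [ax_cj hn, h2 a' ha'])
    rw [c_cj hn] at h4
    exact h4
  have h4 : ⁅U, A'⁆ ≤ ⁅U, A⁆ := by
    intro z hz
    obtain ⟨a', ha', e⟩ := h.ful A' hA' x hxU hxA' z hz
    rw [← e]
    refine mul_mem ?_ (inv_mem hx)
    rw [← h3 a' ha', mem_cj]
    have e' : a'⁻¹ * (a' * x * a'⁻¹) * a' = x := by group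
    rw [e']
    exact hx
  have h5 : ⁅U, A'⁆ = ⁅U, A⁆ := eq_of_le_of_card_ge h4 (h.card A hA A' hA').le
  apply hcon
  rw [← h5]
  exact h.qd A' hA'

/-! ### `CK U AA K` -/

theorem CK_le {K : Subgroup G} (hK : K ≤ T) : CK U AA K ≤ U :=
  iSup₂_le fun _ hA => h.c_le (hA.2.trans hK)

theorem CK_cent [Finite G] {K : Subgroup G} (hK : K ≤ T) {A' : Subgroup G} (hA' : A' ∈ AA) (hT' : A' ≤ T) :
    A' ≤ centralizer (CK U AA K : Set G) := by
  rw [le_centralizer_iff]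
  exact iSup₂_le fun A hA => le_centralizer_iff.1 (h.c_cent hA.1 hA' (hA.2.trans hK) hT')

theorem CK_norm {X K : Subgroup G} (hX : X ≤ X₁ ⊔ X₂) (hn : X ≤ normalizer (K : Set G)) :
    X ≤ normalizer (CK U AA K : Set G) := by
  have h1 : ∀ x ∈ X, cj x (CK U AA K) ≤ CK U AA K := by
    intro x hx
    rw [cj_le_iff]
    refine iSup₂_le fun A hA => ?_
    rw [← cj_le_iff, ← c_cj (h.nU (hX hx))]
    have h2 : cj x A ≤ K := by
      have := cj_mono x hA.2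
      rwa [cj_eq_of_mem_normalizer (hn hx)] at this
    exact le_iSup₂ (f := fun (A : Subgroup G) (_ : A ∈ AA ∧ A ≤ K) => ⁅U, A⁆) (cj x A)
      ⟨h.AAc A hA.1 x (hX hx), h2⟩
  intro x hx
  rw [mem_normalizer_iff_cj]
  refine le_antisymm (h1 x hx) ?_
  have := cj_mono x (h1 x⁻¹ (inv_mem hx))
  rwa [cj_cj_inv] at this

/-- **`CK ∩ W' = 1`** for an irreducible `X`-invariant `W' ≤ U` which is moved by a member of `T`. -/
theorem CK_inf [Finite G] {X K W' : Subgroup G} (hX : X ≤ X₁ ⊔ X₂) (hK : K ≤ T) (hn : X ≤ normalizer (K : Set G))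
    (hW : X ≤ normalizer (W' : Set G))
    (irr : ∀ Y ≤ W', X ≤ normalizer (Y : Set G) → Y = ⊥ ∨ W' ≤ Y)
    (mv : ∃ A ∈ AA, A ≤ T ∧ ¬ A ≤ centralizer (W' : Set G)) : CK U AA K ⊓ W' = ⊥ := by
  have h1 : X ≤ normalizer ((CK U AA K ⊓ W' : Subgroup G) : Set G) := by
    intro x hx
    rw [mem_normalizer_iff_cj, cj_inf, cj_eq_of_mem_normalizer (h.CK_norm hX hn hx),
      cj_eq_of_mem_normalizer (hW hx)]
  refine (irr _ inf_le_right h1).resolve_right fun h2 => ?_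
  obtain ⟨A, hA, hT, hmv⟩ := mv
  exact hmv (le_centralizer_iff.1 ((h2.trans inf_le_left).trans (le_centralizer_iff.1 (h.CK_cent hK hA hT))))

end Wk

end Cfsg.Agent.Omega.NOThreeL.RWide.ParT
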