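import Cfsg.Agent.Omega.NOThreeL.RWide.PIn

/-!
# `par` over `T`: the interface of the abstract part (helper971 #26838, helper294 #26826)

`X₁ = P_j`, `X₂ = P` over the 2-group `T` (Sylow in `H = X₁ ⊔ X₂`), `K₁ = C_T(V) = O₂(X₁)`, `K₂ = O₂(X₂)`, `V` the natural
module of `X₁` with line `R`, `F = C_R(T)`, `U = ⟨F ^ H⟩` elementary abelian, `Z₀ = ∏ F_b` (`b ≠ j`) central in `H`,
`⟨F ^ X₂⟩ ≤ (⨆ W) C₂`; the index set `κ` is the set of atoms of `T` on `⟨F ^ X₂⟩`: full root groups of the natural blocks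
resp. transpositions of the symmetric blocks; `ρ i = [U, atom i]`, `W i` is moved by the atom `i` only.
`AA` : the 2-subgroups `A` of `H` with `[U, A] ≠ 1`, `|A : C_A(U)| |C_U(A)|` maximal, then `|A : C_A(U)|` minimal.
-/

set_option autoImplicit false

namespace Cfsg.Agent.Omega.NOThreeL.RWide.ParT

open Subgroup Cfsg Cfsg.Agent.ZN.ChoiceBase
open scoped commutatorElement

universe u v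

/-- **The interface.** -/
structure Fm {G : Type u} [Group G] {κ : Type v} (T X₁ X₂ K₁ K₂ U V R F Z₀ C₂ : Subgroup G) (W ρ : κ → Subgroup G)
    (AA : Set (Subgroup G)) (q : ℕ) : Prop where
  two : IsPGroup 2 T
  TX₁ : T ≤ X₁
  TX₂ : T ≤ X₂
  /-- `T` is Sylow in `H` (use `two_sub` below) -/
  syl : ¬ 2 ∣ T.relIndex (X₁ ⊔ X₂)
  KT₁ : K₁ ≤ T
  KT₂ : K₂ ≤ T
  nK₁ : X₁ ≤ normalizer (K₁ : Set G)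
  nK₂ : X₂ ≤ normalizer (K₂ : Set G)
  Uel : IsElementaryAbelian 2 U
  nU₁ : X₁ ≤ normalizer (U : Set G)
  nU₂ : X₂ ≤ normalizer (U : Set G)
  /-- `U = ⟨F ^ H⟩` -/
  gen : U ≤ ⨆ h : (X₁ ⊔ X₂ : Subgroup G), cj (h : G) F
  -- `X₁` on `V`
  FR : F ≤ R
  RV : R ≤ V
  VU : V ≤ U
  TF : T ≤ centralizer (F : Set G)
  TR : T ≤ normalizer (R : Set G)
  nV : X₁ ≤ normalizer (V : Set G)
  cK₁ : K₁ ≤ centralizer (V : Set G)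
  mK₁ : T ⊓ centralizer (V : Set G) ≤ K₁
  /-- `X₁` is transitive on `V - 1` -/
  tr₁ : ∀ f ∈ F, f ≠ 1 → ∀ v ∈ V, v ≠ 1 → ∃ x ∈ X₁, x * f * x⁻¹ = v
  /-- `V = ⟨[f, x]⟩` for `1 ≠ f ∈ F` -/
  irr₁ : ∀ f ∈ F, f ≠ 1 → ∀ M : Subgroup G, (∀ x ∈ X₁, x * f * x⁻¹ * f⁻¹ ∈ M) → V ≤ M
  /-- some conjugate of `R` meets `R` trivially -/
  opp : ∃ x ∈ X₁, R ⊓ cj x R = ⊥ ∧ V ≤ R ⊔ cj x R
  /-- `N_(X₁)(T)` is transitive on `F - 1` -/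
  trF : ∀ f ∈ F, f ≠ 1 → ∀ f' ∈ F, f' ≠ 1 → ∃ n ∈ X₁ ⊓ normalizer (T : Set G), n * f * n⁻¹ = f'
  cardR : Nat.card R = q
  zT : U ⊓ centralizer (T : Set G) ≤ F ⊔ Z₀
  cZ : X₁ ⊔ X₂ ≤ centralizer (Z₀ : Set G)
  /-- some offender of `T` moves `V` and centralises the lines of the `W i` -/
  off : ∃ A₀ ≤ T, ¬ A₀ ≤ centralizer (V : Set G) ∧ A₀ ≤ centralizer ((⨆ i, ρ i : Subgroup G) : Set G)
  -- `X₂`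
  mvF : ¬ X₂ ≤ centralizer (F : Set G)
  /-- `X₂` is a minimal parabolic over `T` -/
  min : ∀ N : Subgroup G, N ≤ X₂ → X₂ ≤ normalizer (N : Set G) → N ⊓ T ≤ K₂ ∨ X₂ ≤ N ⊔ T
  cK₂ : K₂ ≤ centralizer ((⨆ i, W i : Subgroup G) : Set G)
  mK₂ : T ⊓ centralizer ((⨆ i, W i : Subgroup G) : Set G) ≤ K₂
  WU : (⨆ i, W i) ≤ U
  nW : X₂ ≤ normalizer ((⨆ i, W i : Subgroup G) : Set G)
  C₂U : C₂ ≤ U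
  cC₂ : X₂ ≤ centralizer (C₂ : Set G)
  FW : F ≤ (⨆ i, W i) ⊔ C₂
  ρW : ∀ i, ρ i ≤ W i
  WT : (⨆ i, W i) ⊓ centralizer (T : Set G) ≤ ⨆ i, ρ i
  WX : (⨆ i, W i) ⊓ centralizer (X₂ : Set G) = ⊥
  ρne : ∀ i, ρ i ≠ ⊥
  indρ : ∀ i, ρ i ⊓ (⨆ k : {k // k ≠ i}, ρ k) = ⊥
  Tρ : ∀ t ∈ T, ∀ i, ∃ k, cj t (ρ i) = ρ k
  trT : ∀ i k, ∃ t ∈ T, cj t (ρ i) = ρ k
  /-- one atom: `W i` is the natural module of `X₂` -/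
  one : ∀ i, (∀ k, k = i) → Nat.card (W i) = q ^ 2 ∧ ∀ f ∈ ρ i, f ≠ 1 → ∀ w ∈ W i, w ≠ 1 → ∃ x ∈ X₂, x * f * x⁻¹ = w
  -- the family
  AAne : ∃ A, A ∈ AA
  AAc : ∀ A ∈ AA, ∀ h ∈ X₁ ⊔ X₂, cj h A ∈ AA
  AAT : ∀ A ∈ AA, ∃ h ∈ X₁ ⊔ X₂, cj h A ≤ T
  AAU : ∀ A ∈ AA, ¬ A ≤ centralizer (U : Set G)
  cA : ∀ A ∈ AA, ⁅U, A⁆ ≤ U ⊓ centralizer (A : Set G)
  cardc : ∀ A ∈ AA, Nat.card (⁅U, A⁆ : Subgroup G) = q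
  cardA : ∀ A ∈ AA, (centralizer (A : Set G)).relIndex U = q
  full : ∀ A ∈ AA, ∀ u ∈ U, u ∉ centralizer (A : Set G) → ∀ s ∈ (⁅U, A⁆ : Subgroup G), ∃ a ∈ A, a * u * a⁻¹ * u⁻¹ = s
  mv₁ : ∀ A ∈ AA, A ≤ T → ¬ A ≤ K₁ → ⁅U, A⁆ = R ∧ V ⊓ centralizer (A : Set G) = R ∧ U ≤ V ⊔ (U ⊓ centralizer (A : Set G))
  mv₂ : ∀ A ∈ AA, A ≤ T → ¬ A ≤ K₂ → ∃ i, ⁅U, A⁆ = ρ i ∧ W i ⊓ centralizer (A : Set G) = ρ i ∧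
    U ≤ W i ⊔ (U ⊓ centralizer (A : Set G)) ∧ ∀ k, k ≠ i → W k ≤ centralizer (A : Set G)

end Cfsg.Agent.Omega.NOThreeL.RWide.ParT
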