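import Cfsg.Agent.Omega.NOThreeL.RWide.ParT.Axis
import Cfsg.Agent.Omega.NOThreeL.RWide.ParT.Fm

/-!
# THEOREM PAR_T (helper971 #26838), step (1) over the interface `Fm`

`Fm.wk`, `Fm.walk`, **`Fm.axis`**, **`Fm.cc`**, `Fm.ck_le`, `Fm.ck_cent`, `Fm.ck_norm₁`, `Fm.ck_norm₂`, `Fm.ck_inf`.
-/

set_option autoImplicit false
set_option linter.unusedSectionVars false

namespace Cfsg.Agent.Omega.NOThreeL.RWide.ParT

open Subgroup Cfsg Cfsg.Agent.ZN.ChoiceBase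
open scoped commutatorElement

universe u v

/-- a conjugate in a Sylow 2-subgroup -/
theorem exists_cj_le_syl {G : Type u} [Group G] [Finite G] {C T A : Subgroup G} (hT : IsPGroup 2 T)
    (hs : ¬ 2 ∣ T.relIndex C) (hAC : A ≤ C) (hA : IsPGroup 2 A) : ∃ c ∈ C, cj c A ≤ T := by
  have hf : Fact (Nat.Prime 2) := ⟨Nat.prime_two⟩
  have hT' : IsPGroup 2 (T.subgroupOf C) := hT.comap_of_injective _ C.subtype_injective
  have hA' : IsPGroup 2 (A.subgroupOf C) := hA.comap_of_injective _ C.subtype_injective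
  obtain ⟨Q, hQ⟩ := hA'.exists_le_sylow
  obtain ⟨g, hg⟩ := MulAction.exists_smul_eq C Q (hT'.toSylow hs)
  refine ⟨g, g.2, ?_⟩
  rintro _ ⟨x, hx, rfl⟩
  have h1 : (⟨x, hAC hx⟩ : C) ∈ (Q : Subgroup C) := hQ (mem_subgroupOf.mpr hx)
  have h2 : (MulAut.conj g) ⟨x, hAC hx⟩ ∈ ((g • Q : Sylow 2 C) : Subgroup C) := by
    rw [Sylow.smul_def]
    exact Subgroup.smul_mem_pointwise_smul _ (MulAut.conj g) _ h1
  rw [hg] at h2
  exact mem_subgroupOf.mp h2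

/-- two 2-subgroups of `E`: after conjugation by an element of `E` both lie in a 2-subgroup of `E` -/
theorem exists_common {G : Type u} [Group G] [Finite G] {E A A' : Subgroup G} (hAE : A ≤ E) (hAE' : A' ≤ E)
    (hA : IsPGroup 2 A) (hA' : IsPGroup 2 A') :
    ∃ y ∈ E, ∃ Q ≤ E, IsPGroup 2 Q ∧ A ≤ Q ∧ cj y A' ≤ Q := by
  have hf : Fact (Nat.Prime 2) := ⟨Nat.prime_two⟩
  have h1 : IsPGroup 2 (A.subgroupOf E) := hA.comap_of_injective _ E.subtype_injective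
  have h1' : IsPGroup 2 (A'.subgroupOf E) := hA'.comap_of_injective _ E.subtype_injective
  obtain ⟨Q, hQ⟩ := h1.exists_le_sylow
  obtain ⟨Q', hQ'⟩ := h1'.exists_le_sylow
  obtain ⟨g, hg⟩ := MulAction.exists_smul_eq E Q' Q
  refine ⟨g, g.2, (Q : Subgroup E).map E.subtype, ?_, Q.isPGroup'.map _, ?_, ?_⟩
  · rintro _ ⟨x, -, rfl⟩
    exact x.2
  · intro a ha
    exact ⟨⟨a, hAE ha⟩, hQ (mem_subgroupOf.mpr ha), rfl⟩
  · rintro _ ⟨x, hx, rfl⟩
    have h2 : (⟨x, hAE' hx⟩ : E) ∈ (Q' : Subgroup E) := hQ' (mem_subgroupOf.mpr hx)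
    have h3 : (MulAut.conj g) ⟨x, hAE' hx⟩ ∈ ((g • Q' : Sylow 2 E) : Subgroup E) := by
      rw [Sylow.smul_def]
      exact Subgroup.smul_mem_pointwise_smul _ (MulAut.conj g) _ h2
    rw [hg] at h3
    exact ⟨_, h3, rfl⟩

namespace Fm

variable {G : Type u} [Group G] [Finite G] {κ : Type v} {T X₁ X₂ K₁ K₂ U V R F Z₀ C₂ : Subgroup G}
  {W ρ : κ → Subgroup G} {AA : Set (Subgroup G)} {q : ℕ}
  (h : Fm T X₁ X₂ K₁ K₂ U V R F Z₀ C₂ W ρ AA q)
include h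

theorem TleH : T ≤ X₁ ⊔ X₂ := h.TX₁.trans le_sup_left

theorem HnU : X₁ ⊔ X₂ ≤ normalizer (U : Set G) := sup_le h.nU₁ h.nU₂

theorem U_two : IsPGroup 2 U := by
  intro x
  refine ⟨1, ?_⟩
  ext
  simpa using h.Uel.2 x x.2

theorem U_comm {a b : G} (ha : a ∈ U) (hb : b ∈ U) : a * b = b * a := by
  have := h.Uel.1
  exact congrArg Subtype.val (IsMulCommutative.is_comm.comm (⟨a, ha⟩ : U) ⟨b, hb⟩)

theorem core {N : Subgroup G} (hN : N ≤ T) (h1 : X₁ ≤ normalizer (N : Set G)) (h2 : X₂ ≤ normalizer (N : Set G)) :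
    N ≤ centralizer (U : Set G) := by
  rw [le_centralizer_iff]
  refine h.gen.trans (iSup_le fun x => ?_)
  have h3 : F ≤ centralizer (N : Set G) := le_centralizer_iff.1 (hN.trans h.TF)
  have h4 := cj_mono (x : G) h3
  rwa [cj_centralizer, cj_eq_of_mem_normalizer ((sup_le h1 h2) x.2)] at h4

/-- the frame of `Axis.lean` -/
theorem wk : Wk T X₁ X₂ K₁ K₂ U AA (fun _ : Unit => V) (fun _ : Unit => R) W ρ where
  two := h.two
  T₁ := h.TX₁
  T₂ := h.TX₂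
  KT₁ := h.KT₁
  KT₂ := h.KT₂
  nK₁ := h.nK₁
  nK₂ := h.nK₂
  U2 := h.U_two
  nU₁ := h.nU₁
  nU₂ := h.nU₂
  core N hN h1 h2 := h.core hN h1 h2
  AAc := h.AAc
  AAU := h.AAU
  card A hA A' hA' := by rw [h.cardc A hA, h.cardc A' hA']
  ful := h.full
  qd A hA := le_centralizer_iff.1 ((h.cA A hA).trans inf_le_right)
  p₁ :=
    { WU := fun _ => h.VU
      ex := fun A _ hT hK => ⟨(), fun h1 => hK ((le_inf hT h1).trans h.mK₁)⟩
      mv := fun A hA hT _ h1 => (h.mv₁ A hA hT fun h2 => h1 (h2.trans h.cK₁)).1 }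
  p₂ :=
    { WU := fun i => (le_iSup W i).trans h.WU
      ex := by
        intro A _ hT hK
        by_contra hcon
        push Not at hcon
        refine hK ((le_inf hT ?_).trans h.mK₂)
        rw [le_centralizer_iff]
        exact iSup_le fun i => le_centralizer_iff.1 (hcon i)
      mv := by
        intro A hA hT i h1
        obtain ⟨k, h2, -, -, h3⟩ := h.mv₂ A hA hT fun h4 =>
          h1 ((h4.trans h.cK₂).trans (centralizer_le (le_iSup W i)))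
        by_cases e : i = k
        · rw [e]; exact h2
        · exact absurd (le_centralizer_iff.1 (h3 i e)) h1 }

/-- **walking** -/
theorem walk {A : Subgroup G} (hcon : ∀ x ∈ X₁ ⊔ X₂, A ≤ cj x T → A ≤ cj x K₁ ∧ A ≤ cj x K₂) (hT : A ≤ T) :
    A ≤ centralizer (U : Set G) := h.wk.walk hcon hT

/-- members are 2-subgroups of `H` -/
theorem le_H {A : Subgroup G} (hA : A ∈ AA) : A ≤ X₁ ⊔ X₂ := by
  obtain ⟨x, hx, h1⟩ := h.AAT A hA
  have h2 := cj_mono x⁻¹ (h1.trans h.TleH)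
  rw [cj_inv_cj, cj_eq_of_mem_normalizer (le_normalizer (inv_mem hx))] at h2
  exact h2

theorem pgroup {A : Subgroup G} (hA : A ∈ AA) : IsPGroup 2 A := by
  obtain ⟨x, -, h1⟩ := h.AAT A hA
  have h2 : IsPGroup 2 (cj x A) := h.two.to_le h1
  have h3 : IsPGroup 2 (cj x⁻¹ (cj x A)) := h2.map _
  rwa [cj_inv_cj] at h3

/-- **same axis ⟹ same `c(A)`** -/
theorem axis {A A' : Subgroup G} (hA : A ∈ AA) (hA' : A' ∈ AA)
    (hax : U ⊓ centralizer (A : Set G) = U ⊓ centralizer (A' : Set G)) : ⁅U, A⁆ = ⁅U, A'⁆ := by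
  set X : Subgroup G := U ⊓ centralizer (A : Set G) with hX
  have hAE : A ≤ (X₁ ⊔ X₂) ⊓ centralizer (X : Set G) :=
    le_inf (h.le_H hA) (le_centralizer_iff.1 inf_le_right)
  have hAE' : A' ≤ (X₁ ⊔ X₂) ⊓ centralizer (X : Set G) := by
    refine le_inf (h.le_H hA') (le_centralizer_iff.1 ?_)
    rw [hax]
    exact inf_le_right
  obtain ⟨y, hy, Q, hQE, hQ, h1, h2⟩ := exists_common hAE hAE' (h.pgroup hA) (h.pgroup hA')
  have hyX : y ∈ centralizer (X : Set G) := hy.2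
  have hfix : ∀ Y : Subgroup G, Y ≤ X → cj y Y = Y := fun Y hY =>
    cj_eq_of_mem_normalizer (centralizer_le_normalizer _ (centralizer_le hY hyX))
  have hyU := h.HnU hy.1
  have hcA' : ⁅U, A'⁆ ≤ X := by
    rw [hax]
    exact h.cA A' hA'
  have e1 : ⁅U, cj y A'⁆ = ⁅U, A'⁆ := by rw [c_cj hyU, hfix _ hcA']
  have e2 : U ⊓ centralizer ((cj y A' : Subgroup G) : Set G) = X := by
    rw [ax_cj hyU, ← hax, hfix _ le_rfl]
  -- to `T`
  obtain ⟨x, hx, h3⟩ := exists_cj_le_syl h.two h.syl (hQE.trans inf_le_left) hQ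
  have hxU := h.HnU hx
  have h4 := h.wk.c_eq (h.AAc A hA x hx) (h.AAc _ (h.AAc A' hA' y hy.1) x hx) ((cj_mono x h1).trans h3)
    ((cj_mono x h2).trans h3) (by rw [ax_cj hxU, ax_cj hxU, e2])
  rw [c_cj hxU, c_cj hxU, e1] at h4
  have := congrArg (cj x⁻¹) h4
  rwa [cj_inv_cj, cj_inv_cj] at this

/-- **`A, A' ≤ T` ⟹ `A'` centralises `c(A)`** -/
theorem cc {A A' : Subgroup G} (hA : A ∈ AA) (hA' : A' ∈ AA) (hT : A ≤ T) (hT' : A' ≤ T) :
    A' ≤ centralizer ((⁅U, A⁆ : Subgroup G) : Set G) := h.wk.c_cent hA hA' hT hT'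

/-! ### `CK U AA K = ⟨c(A) : A ∈ AA, A ≤ K⟩` -/

theorem ck_le {K : Subgroup G} (hK : K ≤ T) : CK U AA K ≤ U := h.wk.CK_le hK

theorem ck_cent {K : Subgroup G} (hK : K ≤ T) {A' : Subgroup G} (hA' : A' ∈ AA) (hT' : A' ≤ T) :
    A' ≤ centralizer (CK U AA K : Set G) := h.wk.CK_cent hK hA' hT'

theorem ck_norm₁ : X₁ ≤ normalizer (CK U AA K₁ : Set G) := h.wk.CK_norm le_sup_left h.nK₁

theorem ck_norm₂ : X₂ ≤ normalizer (CK U AA K₂ : Set G) := h.wk.CK_norm le_sup_right h.nK₂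

theorem ck_inf {X K W' : Subgroup G} (hX : X ≤ X₁ ⊔ X₂) (hK : K ≤ T) (hn : X ≤ normalizer (K : Set G))
    (hW : X ≤ normalizer (W' : Set G))
    (irr : ∀ Y ≤ W', X ≤ normalizer (Y : Set G) → Y = ⊥ ∨ W' ≤ Y)
    (mv : ∃ A ∈ AA, A ≤ T ∧ ¬ A ≤ centralizer (W' : Set G)) : CK U AA K ⊓ W' = ⊥ :=
  h.wk.CK_inf hX hK hn hW irr mv

end Fm

end Cfsg.Agent.Omega.NOThreeL.RWide.ParT
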