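import Cfsg.Agent.Omega.NOThreeL.RWide.ParT.Fm

/-!
# `par` over `T`: case (beta) (helper971 #26838 (3))

All members of the family in `T` lie in `K₁ = O₂(X₁)`: impossible.
-/

set_option autoImplicit false
set_option linter.unusedSectionVars false

namespace Cfsg.Agent.Omega.NOThreeL.RWide.ParT.Beta

open Subgroup Cfsg Cfsg.Agent.ZN.ChoiceBase Cfsg.Agent.Omega.NOThreeL.RWide.ParT
open scoped commutatorElement

universe u v

variable {G : Type u} [Group G]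

/-- Elements of a join of commuting subgroups. -/
theorem mem_sup_of_comm {A B : Subgroup G} (h : ∀ a ∈ A, ∀ b ∈ B, a * b = b * a) {x : G} (hx : x ∈ A ⊔ B) :
    ∃ a ∈ A, ∃ b ∈ B, a * b = x := by
  let K : Subgroup G :=
    { carrier := {x | ∃ a ∈ A, ∃ b ∈ B, a * b = x}
      one_mem' := ⟨1, one_mem A, 1, one_mem B, mul_one 1⟩
      mul_mem' := by
        rintro x y ⟨a, ha, b, hb, rfl⟩ ⟨c, hc, d, hd, rfl⟩
        refine ⟨a * c, mul_mem ha hc, b * d, mul_mem hb hd, ?_⟩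
        calc a * c * (b * d) = a * (c * b) * d := by group
          _ = a * (b * c) * d := by rw [h c hc b hb]
          _ = a * b * (c * d) := by group
      inv_mem' := by
        rintro x ⟨a, ha, b, hb, rfl⟩
        refine ⟨a⁻¹, inv_mem ha, b⁻¹, inv_mem hb, ?_⟩
        rw [h _ (inv_mem ha) _ (inv_mem hb), mul_inv_rev] }
  have h1 : A ≤ K := fun a ha => ⟨a, ha, 1, one_mem B, mul_one a⟩
  have h2 : B ≤ K := fun b hb => ⟨1, one_mem A, b, hb, one_mul b⟩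
  exact sup_le h1 h2 hx

/-- Components. -/
theorem eq_one_of_comp [Finite G] {S : Set (Subgroup G)} {U : Subgroup G} (hU : ∀ x ∈ U, ∀ y ∈ U, x * y = y * x)
    (hS : ∀ σ ∈ S, σ ≤ U) (ind : ∀ σ ∈ S, σ ⊓ sSup (S \ {σ}) = ⊥) {w : G} (hw : w ∈ sSup S)
    (hc : ∀ σ ∈ S, w ∈ sSup (S \ {σ})) : w = 1 := by
  classical
  have key : ∀ A : Finset (Subgroup G), (↑A : Set (Subgroup G)) ⊆ S → w ∈ sSup (↑A : Set (Subgroup G)) → w = 1 := by
    intro A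
    induction A using Finset.induction_on with
    | empty =>
      intro _ h
      simpa using h
    | insert σ A hσ ih =>
      intro hA h
      rw [Finset.coe_insert, sSup_insert] at h
      have hσS : σ ∈ S := hA (by simp)
      have hAS : (↑A : Set (Subgroup G)) ⊆ S := fun τ hτ => hA (by simp [Finset.mem_coe.1 hτ])
      have hAS' : (↑A : Set (Subgroup G)) ⊆ S \ {σ} := fun τ hτ =>
        ⟨hAS hτ, fun h0 => hσ ((Set.mem_singleton_iff.1 h0) ▸ (Finset.mem_coe.1 hτ))⟩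
      have hAU : sSup (↑A : Set (Subgroup G)) ≤ U := sSup_le fun τ hτ => hS τ (hAS hτ)
      obtain ⟨s, hs, a, ha, e⟩ := mem_sup_of_comm (fun x hx y hy => hU x (hS σ hσS hx) y (hAU hy)) h
      have h1 : a ∈ sSup (S \ {σ}) := sSup_le_sSup hAS' ha
      have h2 : s ∈ sSup (S \ {σ}) := by
        have : s = w * a⁻¹ := by rw [← e]; group
        rw [this]
        exact mul_mem (hc σ hσS) (inv_mem h1)
      have h3 : s = 1 := by
        have : s ∈ σ ⊓ sSup (S \ {σ}) := ⟨hs, h2⟩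
        rw [ind σ hσS] at this
        exact Subgroup.mem_bot.1 this
      apply ih hAS
      rw [h3, one_mul] at e
      exact e ▸ ha
  have hfin : S.Finite := Set.toFinite S
  refine key hfin.toFinset (by simp) (by simpa using hw)

/-- A 2-group normalising a 2-group `Y ≠ 1` fixes an element `≠ 1` of `Y`. -/
theorem exists_fix [Finite G] {T Y : Subgroup G} (hT : IsPGroup 2 T) (hY : IsPGroup 2 Y) (hne : Y ≠ ⊥)
    (hn : T ≤ normalizer (Y : Set G)) : ∃ y ∈ Y, y ≠ 1 ∧ y ∈ centralizer (T : Set G) := by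
  have : Fact (Nat.Prime 2) := ⟨Nat.prime_two⟩
  let a : MulAction T Y :=
    { smul := fun t y => ⟨t * y * (t : G)⁻¹, (mem_normalizer_iff.1 (hn t.2) y).1 y.2⟩
      one_smul := fun y => Subtype.ext (by change ((1 : T) : G) * y * ((1 : T) : G)⁻¹ = y; simp)
      mul_smul := fun s t y => Subtype.ext (by
        change ((s * t : T) : G) * y * ((s * t : T) : G)⁻¹ = s * (t * y * (t : G)⁻¹) * (s : G)⁻¹
        rw [Subgroup.coe_mul]; group) }
  have hd : 2 ∣ Nat.card Y := by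
    obtain ⟨n, hn⟩ := IsPGroup.iff_card.1 hY
    rcases Nat.eq_zero_or_pos n with h0 | h0
    · exact absurd (Subgroup.card_eq_one.1 (by rw [hn, h0, pow_zero])) hne
    · rw [hn]; exact dvd_pow_self 2 h0.ne'
  have h1 : (1 : Y) ∈ MulAction.fixedPoints T Y := by
    rw [MulAction.mem_fixedPoints]
    intro t
    exact Subtype.ext (by change (t : G) * ((1 : Y) : G) * (t : G)⁻¹ = ((1 : Y) : G); simp)
  obtain ⟨b, hb, hb1⟩ := hT.exists_fixed_point_of_prime_dvd_card_of_fixed_point Y hd h1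
  refine ⟨b, b.2, fun h0 => hb1 (Subtype.ext h0.symm), mem_centralizer_iff.2 fun t ht => ?_⟩
  have h2 : t * (b : G) * t⁻¹ = b := congrArg Subtype.val ((MulAction.mem_fixedPoints.1 hb) ⟨t, ht⟩)
  calc t * (b : G) = t * b * t⁻¹ * t := by group
    _ = b * t := by rw [h2]

theorem cj_comm {x : G} {U A : Subgroup G} (hx : x ∈ normalizer (U : Set G)) : cj x ⁅U, A⁆ = ⁅U, cj x A⁆ := by
  rw [cj, Subgroup.map_commutator]
  congr 1
  exact cj_eq_of_mem_normalizer hx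

theorem norm_cent {X E : Subgroup G} (h : X ≤ normalizer (E : Set G)) :
    X ≤ normalizer ((centralizer (E : Set G) : Subgroup G) : Set G) := by
  intro x hx
  rw [mem_normalizer_iff_cj, cj_centralizer, cj_eq_of_mem_normalizer (h hx)]

theorem norm_inf {X A B : Subgroup G} (ha : X ≤ normalizer (A : Set G)) (hb : X ≤ normalizer (B : Set G)) :
    X ≤ normalizer ((A ⊓ B : Subgroup G) : Set G) := by
  intro x hx
  rw [mem_normalizer_iff_cj, cj_inf, cj_eq_of_mem_normalizer (ha hx), cj_eq_of_mem_normalizer (hb hx)]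

/-- `cj x` of a supremum. -/
theorem cj_sSup (x : G) (S : Set (Subgroup G)) {M : Subgroup G} (h : ∀ σ ∈ S, cj x σ ≤ M) : cj x (sSup S) ≤ M := by
  rw [cj_le_iff]
  refine sSup_le fun σ hσ => ?_
  rw [← cj_le_iff]
  exact h σ hσ

/-- A set of subgroups closed under the conjugation by `X` has a normalised supremum. -/
theorem norm_sSup {X : Subgroup G} {S : Set (Subgroup G)} (h : ∀ x ∈ X, ∀ σ ∈ S, cj x σ ∈ S) :
    X ≤ normalizer ((sSup S : Subgroup G) : Set G) := by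
  intro x hx
  rw [mem_normalizer_iff_cj]
  apply le_antisymm
  · exact cj_sSup x S fun σ hσ => le_sSup (h x hx σ hσ)
  · refine sSup_le fun σ hσ => ?_
    have h1 := h x⁻¹ (inv_mem hx) σ hσ
    have h2 := cj_mono x (le_sSup h1)
    rwa [cj_cj_inv] at h2

section

variable [Finite G] {κ : Type v} {T X₁ X₂ K₁ K₂ U V R F Z₀ C₂ : Subgroup G} {W ρ : κ → Subgroup G}
  {AA : Set (Subgroup G)} {q : ℕ}

/-- The centre parts of the members in `K₂`. -/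
def UP (U K₂ : Subgroup G) (AA : Set (Subgroup G)) : Subgroup G := sSup {c | ∃ A ∈ AA, A ≤ K₂ ∧ c = ⁅U, A⁆}

theorem Uc (h : Fm T X₁ X₂ K₁ K₂ U V R F Z₀ C₂ W ρ AA q) : ∀ x ∈ U, ∀ y ∈ U, x * y = y * x := by
  intro x hx y hy
  have := h.Uel.1.is_comm.comm ⟨x, hx⟩ ⟨y, hy⟩
  exact congrArg Subtype.val this

theorem UP_le (h : Fm T X₁ X₂ K₁ K₂ U V R F Z₀ C₂ W ρ AA q) : UP U K₂ AA ≤ U := by
  refine sSup_le ?_
  rintro c ⟨A, hA, -, rfl⟩
  exact (h.cA A hA).trans inf_le_left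

theorem UP_norm (h : Fm T X₁ X₂ K₁ K₂ U V R F Z₀ C₂ W ρ AA q) :
    X₂ ≤ normalizer ((UP U K₂ AA : Subgroup G) : Set G) := by
  refine norm_sSup ?_
  rintro x hx c ⟨A, hA, hK, rfl⟩
  refine ⟨cj x A, h.AAc A hA x (mem_sup_right hx), ?_, cj_comm (h.nU₂ hx)⟩
  have := cj_mono x hK
  rwa [cj_eq_of_mem_normalizer (h.nK₂ hx)] at this

theorem UP_cent (h1 : ∀ A ∈ AA, A ≤ T → ∀ A' ∈ AA, A' ≤ T → ⁅U, A⁆ ≤ centralizer (A' : Set G)) (hKT : K₂ ≤ T)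
    {A' : Subgroup G} (hA' : A' ∈ AA) (hT : A' ≤ T) : UP U K₂ AA ≤ centralizer (A' : Set G) := by
  refine sSup_le ?_
  rintro c ⟨A, hA, hK, rfl⟩
  exact h1 A hA (hK.trans hKT) A' hA' hT

/-- Gallery: some member of `T` is not in `K₁ ⊓ K₂`. -/
theorem gallery (h : Fm T X₁ X₂ K₁ K₂ U V R F Z₀ C₂ W ρ AA q) : ∃ A ∈ AA, A ≤ T ∧ ¬ (A ≤ K₁ ∧ A ≤ K₂) := by
  by_contra hno
  push Not at hno
  obtain ⟨A, hA⟩ := h.AAne
  obtain ⟨g, hg, hgT⟩ := h.AAT A hA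
  set J : Subgroup G := sSup {A | A ∈ AA ∧ A ≤ T} with hJ
  have hN₁ : X₁ ≤ normalizer (J : Set G) := by
    refine norm_sSup ?_
    rintro x hx B ⟨hB, hBT⟩
    refine ⟨h.AAc B hB x (mem_sup_left hx), ?_⟩
    have := cj_mono x (hno B hB hBT).1
    rw [cj_eq_of_mem_normalizer (h.nK₁ hx)] at this
    exact this.trans h.KT₁
  have hN₂ : X₂ ≤ normalizer (J : Set G) := by
    refine norm_sSup ?_
    rintro x hx B ⟨hB, hBT⟩
    refine ⟨h.AAc B hB x (mem_sup_right hx), ?_⟩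
    have := cj_mono x (hno B hB hBT).2
    rw [cj_eq_of_mem_normalizer (h.nK₂ hx)] at this
    exact this.trans h.KT₂
  have hN : X₁ ⊔ X₂ ≤ normalizer (J : Set G) := sup_le hN₁ hN₂
  have hJT : J ≤ T := sSup_le fun B hB => hB.2
  have hUJ : U ≤ centralizer (J : Set G) := by
    refine h.gen.trans (iSup_le fun x => ?_)
    have h1 : F ≤ centralizer (J : Set G) := by
      rw [le_centralizer_iff]
      exact hJT.trans h.TF
    have h2 := cj_mono (x : G) h1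
    rwa [cj_centralizer, cj_eq_of_mem_normalizer (hN x.2)] at h2
  have hB : cj g A ∈ AA := h.AAc A hA g hg
  refine h.AAU _ hB ?_
  have h3 : cj g A ≤ J := le_sSup ⟨hB, hgT⟩
  rw [le_centralizer_iff] at hUJ
  exact h3.trans hUJ

/-- `W ∩ U_P = 1` if some member of `T` is not in `K₂`. -/
theorem inf_UP (h : Fm T X₁ X₂ K₁ K₂ U V R F Z₀ C₂ W ρ AA q)
    (h1 : ∀ A ∈ AA, A ≤ T → ∀ A' ∈ AA, A' ≤ T → ⁅U, A⁆ ≤ centralizer (A' : Set G))
    {A₁ : Subgroup G} (hA₁ : A₁ ∈ AA) (hT : A₁ ≤ T) (hn : ¬ A₁ ≤ K₂) : (⨆ i, W i) ⊓ UP U K₂ AA = ⊥ := by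
  by_contra hne
  set E : Subgroup G := (⨆ i, W i) ⊓ UP U K₂ AA with hE
  have hEN : X₂ ≤ normalizer (E : Set G) := norm_inf h.nW (UP_norm h)
  have hE2 : IsPGroup 2 E := by
    intro x
    refine ⟨1, Subtype.ext ?_⟩
    have := h.Uel.2 x (h.WU x.2.1)
    simpa using this
  obtain ⟨e, he, he1, heT⟩ := exists_fix h.two hE2 hne (h.TX₂.trans hEN)
  have hN1 : X₂ ⊓ centralizer (E : Set G) ≤ X₂ := inf_le_left
  have hN2 : X₂ ≤ normalizer ((X₂ ⊓ centralizer (E : Set G) : Subgroup G) : Set G) :=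
    norm_inf le_normalizer (norm_cent hEN)
  have hAE : A₁ ≤ centralizer (E : Set G) := by
    rw [le_centralizer_iff]
    exact inf_le_right.trans (UP_cent h1 h.KT₂ hA₁ hT)
  rcases h.min _ hN1 hN2 with h2 | h2
  · exact hn (le_trans (le_inf (le_inf (hT.trans h.TX₂) hAE) hT) h2)
  · have h3 : X₂ ≤ centralizer ({e} : Set G) := by
      refine h2.trans (sup_le (inf_le_right.trans (centralizer_le (by simpa using he))) ?_)
      intro t ht
      rw [mem_centralizer_iff]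
      intro y hy
      rw [Set.mem_singleton_iff.1 hy]
      exact ((mem_centralizer_iff.1 heT) t ht).symm
    have h4 : e ∈ (⨆ i, W i) ⊓ centralizer (X₂ : Set G) := by
      refine ⟨he.1, mem_centralizer_iff.2 fun x hx => ?_⟩
      exact ((mem_centralizer_iff.1 (h3 hx)) e rfl).symm
    rw [h.WX] at h4
    exact he1 (Subgroup.mem_bot.1 h4)

/-- The `X₁`-conjugates of the lines. -/
def Sg (X₁ : Subgroup G) (ρ : κ → Subgroup G) : Set (Subgroup G) := {σ | ∃ x ∈ X₁, ∃ i, σ = cj x (ρ i)}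

theorem mem_Sg (X₁ : Subgroup G) (ρ : κ → Subgroup G) (i : κ) : ρ i ∈ Sg X₁ ρ := ⟨1, one_mem _, i, (cj_one _).symm⟩

theorem cj_mem_Sg {X₁ : Subgroup G} {ρ : κ → Subgroup G} {x : G} (hx : x ∈ X₁) {σ : Subgroup G} (hσ : σ ∈ Sg X₁ ρ) :
    cj x σ ∈ Sg X₁ ρ := by
  obtain ⟨y, hy, i, rfl⟩ := hσ
  exact ⟨x * y, mul_mem hx hy, i, cj_cj _ _ _⟩

/-- **Case (beta): all members of `T` lie in `K₁`: impossible.** (`h1` = (1) of #26838, `FZ` : `F` and `Z₀` commute.) -/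
theorem false_of (h : Fm T X₁ X₂ K₁ K₂ U V R F Z₀ C₂ W ρ AA q)
    (h1 : ∀ A ∈ AA, A ≤ T → ∀ A' ∈ AA, A' ≤ T → ⁅U, A⁆ ≤ centralizer (A' : Set G))
    (FZ : ∀ f ∈ F, ∀ z ∈ Z₀, f * z = z * f)
    (hβ : ∀ A ∈ AA, A ≤ T → A ≤ K₁) : False := by
  have hcU := Uc h
  -- a member outside `K₂`
  obtain ⟨A₁, hA₁, hA₁T, hA₁n⟩ := gallery h
  have hA₁K : ¬ A₁ ≤ K₂ := fun h0 => hA₁n ⟨hβ _ hA₁ hA₁T, h0⟩
  have hWP := inf_UP h h1 hA₁ hA₁T hA₁K
  obtain ⟨i₀, hi₀, -⟩ := h.mv₂ A₁ hA₁ hA₁T hA₁K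
  have hTK₂ : T ≤ normalizer (K₂ : Set G) := h.TX₂.trans h.nK₂
  have hρW : ∀ i, ρ i ≤ ⨆ i, W i := fun i => (h.ρW i).trans (le_iSup W i)
  have hρs : (⨆ i, ρ i) ≤ ⨆ i, W i := iSup_le hρW
  -- every line is `[U, A]` for a member `A ≤ T` outside `K₂`
  have hline : ∀ i, ∃ A ∈ AA, A ≤ T ∧ ⁅U, A⁆ = ρ i := by
    intro i
    obtain ⟨t, ht, e⟩ := h.trT i₀ i
    refine ⟨cj t A₁, h.AAc _ hA₁ t (mem_sup_left (h.TX₁ ht)), ?_, ?_⟩
    · have := cj_mono t hA₁T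
      rwa [cj_eq_of_mem_normalizer (le_normalizer ht)] at this
    · rw [← cj_comm (h.nU₁ (h.TX₁ ht)), hi₀, e]
  -- members of `Sg`
  have hSg : ∀ σ ∈ Sg X₁ ρ, (∃ k, σ = ρ k) ∨ σ ≤ UP U K₂ AA := by
    rintro σ ⟨x, hx, i, rfl⟩
    obtain ⟨A, hA, hAT, e⟩ := hline i
    have hB : cj x A ∈ AA := h.AAc _ hA x (mem_sup_left hx)
    have hBK : cj x A ≤ K₁ := by
      have := cj_mono x (hβ _ hA hAT)
      rwa [cj_eq_of_mem_normalizer (h.nK₁ hx)] at this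
    have hc : ⁅U, cj x A⁆ = cj x (ρ i) := by rw [← cj_comm (h.nU₁ hx), e]
    by_cases hK : cj x A ≤ K₂
    · right
      rw [← hc]
      exact le_sSup ⟨_, hB, hK, rfl⟩
    · left
      obtain ⟨k, hk, -⟩ := h.mv₂ _ hB (hBK.trans h.KT₁) hK
      exact ⟨k, by rw [← hc, hk]⟩
  have hSU : ∀ σ ∈ Sg X₁ ρ, σ ≤ U := by
    intro σ hσ
    rcases hSg σ hσ with ⟨k, rfl⟩ | h0
    · exact (hρW k).trans h.WU
    · exact h0.trans (UP_le h)
  -- independence at a line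
  have hind0 : ∀ i, ρ i ⊓ sSup (Sg X₁ ρ \ {ρ i}) = ⊥ := by
    intro i
    rw [eq_bot_iff]
    rintro y ⟨hy, hy'⟩
    have h2 : sSup (Sg X₁ ρ \ {ρ i}) ≤ (⨆ k : {k // k ≠ i}, ρ k) ⊔ UP U K₂ AA := by
      refine sSup_le ?_
      rintro τ ⟨hτ, hτn⟩
      rcases hSg τ hτ with ⟨k, rfl⟩ | h0
      · refine le_trans ?_ le_sup_left
        have hk : k ≠ i := fun e => hτn (by rw [e]; rfl)
        exact le_iSup (fun k : {k // k ≠ i} => ρ k) ⟨k, hk⟩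
      · exact h0.trans le_sup_right
    have h3 : (⨆ k : {k // k ≠ i}, ρ k) ≤ ⨆ i, W i := iSup_le fun k => hρW k
    obtain ⟨a, ha, u, hu, e⟩ := mem_sup_of_comm (fun x hx y hy => hcU x (h.WU (h3 hx)) y (UP_le h hy)) (h2 hy')
    have h4 : u ∈ (⨆ i, W i) ⊓ UP U K₂ AA := by
      refine ⟨?_, hu⟩
      have : u = a⁻¹ * y := by rw [← e]; group
      rw [this]
      exact Subgroup.mul_mem _ (Subgroup.inv_mem _ (h3 ha)) (hρW i hy)
    rw [hWP] at h4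
    have h5 : u = 1 := Subgroup.mem_bot.1 h4
    rw [h5, mul_one] at e
    have h6 : y ∈ ρ i ⊓ (⨆ k : {k // k ≠ i}, ρ k) := ⟨hy, e ▸ ha⟩
    rw [h.indρ i] at h6
    exact h6
  have hcjd : ∀ x ∈ X₁, ∀ σ : Subgroup G, cj x (sSup (Sg X₁ ρ \ {σ})) ≤ sSup (Sg X₁ ρ \ {cj x σ}) := by
    intro x hx σ
    refine cj_sSup x _ ?_
    rintro τ ⟨hτ, hτn⟩
    refine le_sSup ⟨cj_mem_Sg hx hτ, fun e => hτn ?_⟩
    have : cj x τ = cj x σ := e
    rw [Set.mem_singleton_iff, ← cj_inv_cj x τ, this, cj_inv_cj]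
  have hind : ∀ σ ∈ Sg X₁ ρ, σ ⊓ sSup (Sg X₁ ρ \ {σ}) = ⊥ := by
    rintro σ ⟨x, hx, i, rfl⟩
    rw [eq_bot_iff]
    have h2 : cj x⁻¹ (cj x (ρ i) ⊓ sSup (Sg X₁ ρ \ {cj x (ρ i)})) ≤ ⊥ := by
      rw [cj_inf, cj_inv_cj]
      have := hcjd x⁻¹ (inv_mem hx) (cj x (ρ i))
      rw [cj_inv_cj] at this
      exact (inf_le_inf_left _ this).trans (hind0 i).le
    have h3 := cj_mono x h2
    rw [cj_cj_inv] at h3
    refine h3.trans ?_
    rw [cj, Subgroup.map_bot]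
  -- the module `M`
  set M : Subgroup G := sSup (Sg X₁ ρ) with hM
  have hMN : X₁ ≤ normalizer (M : Set G) := norm_sSup fun x hx σ hσ => cj_mem_Sg hx hσ
  have hMU : M ≤ U := sSup_le hSU
  have hρM : (⨆ i, ρ i) ≤ M := iSup_le fun i => le_sSup (mem_Sg X₁ ρ i)
  set M₂ : Subgroup G := sSup (Sg X₁ ρ \ Set.range ρ) with hM₂
  have hM₂P : M₂ ≤ UP U K₂ AA := by
    refine sSup_le ?_
    rintro τ ⟨hτ, hτn⟩
    rcases hSg τ hτ with ⟨k, rfl⟩ | h0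
    · exact absurd ⟨k, rfl⟩ hτn
    · exact h0
  have hM12 : M ≤ (⨆ i, ρ i) ⊔ M₂ := by
    refine sSup_le fun τ hτ => ?_
    by_cases h0 : τ ∈ Set.range ρ
    · obtain ⟨k, rfl⟩ := h0
      exact (le_iSup ρ k).trans le_sup_left
    · exact (le_sSup ⟨hτ, h0⟩ : τ ≤ M₂).trans le_sup_right
  -- `V ≤ M`
  have hVM : V ≤ M := by
    obtain ⟨x₂, hx₂, hx₂F⟩ : ∃ x ∈ X₂, x ∉ centralizer (F : Set G) := by
      by_contra hno
      push Not at hno
      exact h.mvF hno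
    obtain ⟨z, hz, hzx⟩ : ∃ z ∈ F, z * x₂ ≠ x₂ * z := by
      by_contra hno
      push Not at hno
      exact hx₂F (mem_centralizer_iff.2 hno)
    obtain ⟨z₁, hz₁, z₂, hz₂, e⟩ := mem_sup_of_comm (fun a ha b hb => hcU a (h.WU ha) b (h.C₂U hb)) (h.FW hz)
    have hz₂T : ∀ t ∈ X₂, t * z₂ = z₂ * t := fun t ht => ((mem_centralizer_iff.1 (h.cC₂ ht)) z₂ hz₂).symm
    have hz₁e : z₁ = z * z₂⁻¹ := by rw [← e]; group
    have hz₁T : z₁ ∈ centralizer (T : Set G) := by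
      rw [hz₁e]
      refine mul_mem (mem_centralizer_iff.2 fun t ht => ?_) (inv_mem (mem_centralizer_iff.2 fun t ht => ?_))
      · exact ((mem_centralizer_iff.1 (h.TF ht)) z hz).symm
      · exact hz₂T t (h.TX₂ ht)
    have hz₁x : z₁ * x₂ ≠ x₂ * z₁ := by
      intro h0
      apply hzx
      calc z * x₂ = z₁ * (z₂ * x₂) := by rw [← e]; group
        _ = z₁ * (x₂ * z₂) := by rw [hz₂T x₂ hx₂]
        _ = z₁ * x₂ * z₂ := by group
        _ = x₂ * (z₁ * z₂) := by rw [h0]; group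
        _ = x₂ * z := by rw [e]
    have hz₁ρ : z₁ ∈ ⨆ i, ρ i := h.WT ⟨hz₁, hz₁T⟩
    obtain ⟨f, hf, z₀, hz₀, e'⟩ := mem_sup_of_comm FZ (h.zT ⟨h.WU hz₁, hz₁T⟩)
    have hz₀c : ∀ x ∈ X₁ ⊔ X₂, x * z₀ = z₀ * x := fun x hx => ((mem_centralizer_iff.1 (h.cZ hx)) z₀ hz₀).symm
    have hf1 : f ≠ 1 := by
      rintro rfl
      rw [one_mul] at e'
      exact hz₁x (by rw [← e']; exact (hz₀c x₂ (mem_sup_right hx₂)).symm)
    refine h.irr₁ f hf hf1 M fun x hx => ?_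
    have h3 : z₀ * x⁻¹ = x⁻¹ * z₀ := by
      have := hz₀c x (mem_sup_left hx)
      calc z₀ * x⁻¹ = x⁻¹ * (x * z₀) * x⁻¹ := by group
        _ = x⁻¹ * (z₀ * x) * x⁻¹ := by rw [this]
        _ = x⁻¹ * z₀ := by group
    have h2 : x * f * x⁻¹ * f⁻¹ = (x * z₁ * x⁻¹) * z₁⁻¹ := by
      rw [← e']
      calc x * f * x⁻¹ * f⁻¹ = x * f * (x⁻¹ * z₀) * z₀⁻¹ * f⁻¹ := by group
        _ = x * f * (z₀ * x⁻¹) * z₀⁻¹ * f⁻¹ := by rw [h3]
        _ = x * (f * z₀) * x⁻¹ * (f * z₀)⁻¹ := by group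
    rw [h2]
    exact mul_mem ((mem_normalizer_iff.1 (hMN hx) z₁).1 (hρM hz₁ρ)) (inv_mem (hρM hz₁ρ))
  -- `C_M(X₁) = 1`
  have hM1 : ∀ w ∈ M, (∀ x ∈ X₁, x * w = w * x) → w = 1 := by
    intro w hw hwx
    have hwT : w ∈ centralizer (T : Set G) := mem_centralizer_iff.2 fun t ht => hwx t (h.TX₁ ht)
    obtain ⟨f, hf, z₀, hz₀, e⟩ := mem_sup_of_comm FZ (h.zT ⟨hMU hw, hwT⟩)
    have hz₀c : ∀ x ∈ X₁ ⊔ X₂, x * z₀ = z₀ * x := fun x hx => ((mem_centralizer_iff.1 (h.cZ hx)) z₀ hz₀).symm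
    have hf1 : f = 1 := by
      by_contra hf1
      have h2 : V ≤ ⊥ := h.irr₁ f hf hf1 ⊥ fun x hx => by
        have h3 : f = w * z₀⁻¹ := by rw [← e]; group
        have h6 := hz₀c x (mem_sup_left hx)
        have h7 : x * z₀⁻¹ = z₀⁻¹ * x := by
          calc x * z₀⁻¹ = z₀⁻¹ * (z₀ * x) * z₀⁻¹ := by group
            _ = z₀⁻¹ * (x * z₀) * z₀⁻¹ := by rw [h6]
            _ = z₀⁻¹ * x := by group
        have h4 : x * f = f * x := by
          rw [h3, ← mul_assoc, hwx x hx, mul_assoc, h7, mul_assoc]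
        rw [Subgroup.mem_bot, h4]
        group
      exact hf1 (Subgroup.mem_bot.1 (h2 (h.RV (h.FR hf))))
    rw [hf1, one_mul] at e
    have hw2 : ∀ x ∈ X₂, x * w = w * x := fun x hx => by rw [← e]; exact hz₀c x (mem_sup_right hx)
    obtain ⟨w₁, hw₁, w₂, hw₂, e₂⟩ := mem_sup_of_comm
      (fun a ha b hb => hcU a (h.WU (hρs ha)) b (UP_le h (hM₂P hb))) (hM12 hw)
    have hw₁1 : w₁ = 1 := by
      have h3 : w₁ ∈ (⨆ i, W i) ⊓ centralizer (X₂ : Set G) := by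
        refine ⟨hρs hw₁, mem_centralizer_iff.2 fun x hx => ?_⟩
        have h6 : x * (w₁ * w₂) * x⁻¹ = w₁ * w₂ := by rw [e₂, hw2 x hx]; group
        have h5 : w₁⁻¹ * (x * w₁ * x⁻¹) = w₂ * (x * w₂ * x⁻¹)⁻¹ := by
          calc w₁⁻¹ * (x * w₁ * x⁻¹) = w₁⁻¹ * (x * (w₁ * w₂) * x⁻¹) * (x * w₂ * x⁻¹)⁻¹ := by group
            _ = w₁⁻¹ * (w₁ * w₂) * (x * w₂ * x⁻¹)⁻¹ := by rw [h6]
            _ = w₂ * (x * w₂ * x⁻¹)⁻¹ := by group
        have h4 : w₁⁻¹ * (x * w₁ * x⁻¹) ∈ (⨆ i, W i) ⊓ UP U K₂ AA := by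
          refine ⟨Subgroup.mul_mem _ (Subgroup.inv_mem _ (hρs hw₁))
            ((mem_normalizer_iff.1 (h.nW hx) w₁).1 (hρs hw₁)), ?_⟩
          rw [h5]
          exact Subgroup.mul_mem _ (hM₂P hw₂)
            (Subgroup.inv_mem _ ((mem_normalizer_iff.1 (UP_norm h hx) w₂).1 (hM₂P hw₂)))
        rw [hWP] at h4
        have h7 := Subgroup.mem_bot.1 h4
        calc x * w₁ = w₁ * (w₁⁻¹ * (x * w₁ * x⁻¹)) * x := by group
          _ = w₁ * x := by rw [h7, mul_one]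
      rw [h.WX] at h3
      exact Subgroup.mem_bot.1 h3
    rw [hw₁1, one_mul] at e₂
    have hw₃ : w ∈ M₂ := e₂ ▸ hw₂
    refine eq_one_of_comp hcU hSU hind hw ?_
    rintro σ ⟨x, hx, i, rfl⟩
    have h3 : M₂ ≤ sSup (Sg X₁ ρ \ {ρ i}) := by
      refine sSup_le_sSup ?_
      rintro τ ⟨hτ, hτn⟩
      exact ⟨hτ, fun e => hτn ⟨i, (Set.mem_singleton_iff.1 e).symm⟩⟩
    refine hcjd x hx (ρ i) ?_
    refine ⟨w, h3 hw₃, ?_⟩
    change x * w * x⁻¹ = w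
    rw [hwx x hx]
    group
  -- `C_M(T) ≤ F`
  have hMF : ∀ w ∈ M, w ∈ centralizer (T : Set G) → w ∈ F := by
    intro w hw hwT
    obtain ⟨f, hf, z₀, hz₀, e⟩ := mem_sup_of_comm FZ (h.zT ⟨hMU hw, hwT⟩)
    have hz₀c : ∀ x ∈ X₁, x * z₀ = z₀ * x := fun x hx =>
      ((mem_centralizer_iff.1 (h.cZ (mem_sup_left hx))) z₀ hz₀).symm
    have hz₀M : z₀ ∈ M := by
      have : z₀ = f⁻¹ * w := by rw [← e]; group
      rw [this]
      exact mul_mem (inv_mem (hVM (h.RV (h.FR hf)))) hw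
    have := hM1 z₀ hz₀M hz₀c
    rw [this, mul_one] at e
    exact e ▸ hf
  -- the lines are `X₁`-closed
  by_cases hS : Sg X₁ ρ ⊆ Set.range ρ
  · obtain ⟨A₀, -, hA₀, hA₀'⟩ := h.off
    apply hA₀
    refine hA₀'.trans (centralizer_le ?_)
    refine hVM.trans (sSup_le fun σ hσ => ?_)
    obtain ⟨k, rfl⟩ := hS hσ
    exact le_iSup ρ k
  · obtain ⟨σ₀, hσ₀, hσ₀n⟩ := Set.not_subset.1 hS
    have hU2 : ∀ Y : Subgroup G, Y ≤ U → IsPGroup 2 Y := by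
      intro Y hY x
      refine ⟨1, Subtype.ext ?_⟩
      have := h.Uel.2 x (hY x.2)
      simpa using this
    have hTρ : T ≤ normalizer ((⨆ i, ρ i : Subgroup G) : Set G) := by
      have h2 : T ≤ normalizer ((sSup (Set.range ρ) : Subgroup G) : Set G) := norm_sSup (by
        rintro t ht σ ⟨i, rfl⟩
        obtain ⟨k, hk⟩ := h.Tρ t ht i
        exact ⟨k, hk.symm⟩)
      rwa [sSup_range] at h2
    have hTM : T ≤ normalizer (M₂ : Set G) := norm_sSup (by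
      rintro t ht σ ⟨hσ, hσn⟩
      refine ⟨cj_mem_Sg (h.TX₁ ht) hσ, ?_⟩
      rintro ⟨k, hk⟩
      apply hσn
      obtain ⟨k', hk'⟩ := h.Tρ t⁻¹ (inv_mem ht) k
      refine ⟨k', ?_⟩
      rw [← hk', hk, cj_inv_cj])
    have hρ0 : (⨆ i, ρ i) ≠ ⊥ := by
      intro h0
      exact h.ρne i₀ (le_bot_iff.1 (h0 ▸ le_iSup ρ i₀))
    have hM0 : M₂ ≠ ⊥ := by
      intro h0
      have h2 : σ₀ ≤ ⊥ := h0 ▸ (le_sSup ⟨hσ₀, hσ₀n⟩ : σ₀ ≤ M₂)
      obtain ⟨x, hx, i, rfl⟩ := hσ₀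
      apply h.ρne i
      have h3 := cj_mono x⁻¹ h2
      rw [cj_inv_cj] at h3
      refine le_bot_iff.1 (h3.trans ?_)
      rw [cj, Subgroup.map_bot]
    have hint : ∀ y, y ∈ (⨆ i, ρ i) → y ∈ M₂ → y = 1 := by
      intro y hy hy'
      have h2 : y ∈ (⨆ i, W i) ⊓ UP U K₂ AA := ⟨hρs hy, hM₂P hy'⟩
      rw [hWP] at h2
      exact Subgroup.mem_bot.1 h2
    have hM₂M : M₂ ≤ M := sSup_le_sSup fun τ hτ => hτ.1
    obtain ⟨f₁, hf₁, hf₁1, hf₁T⟩ := exists_fix h.two (hU2 _ (hρM.trans hMU)) hρ0 hTρ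
    obtain ⟨f₂, hf₂, hf₂1, hf₂T⟩ := exists_fix h.two (hU2 _ (hM₂M.trans hMU)) hM0 hTM
    have hf₁F : f₁ ∈ F := hMF f₁ (hρM hf₁) hf₁T
    have hf₂F : f₂ ∈ F := hMF f₂ (hM₂M hf₂) hf₂T
    have h12 : f₁ * f₂ ≠ 1 := by
      intro h0
      apply hf₁1
      apply hint f₁ hf₁
      have : f₁ = f₂⁻¹ := eq_inv_of_mul_eq_one_left h0
      rw [this]
      exact inv_mem hf₂
    obtain ⟨n, hn, hnf⟩ := h.trF f₁ hf₁F hf₁1 (f₁ * f₂) (mul_mem hf₁F hf₂F) h12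
    have hncj : ∀ {S : Subgroup G}, cj n (⨆ i, ρ i) ≤ S → f₁ * f₂ ∈ S := by
      intro S hS
      rw [← hnf]
      exact hS ⟨f₁, hf₁, rfl⟩
    have hnsup : ∀ {S : Subgroup G}, (∀ i, cj n (ρ i) ≤ S) → cj n (⨆ i, ρ i) ≤ S := by
      intro S hS
      rw [cj_le_iff]
      refine iSup_le fun i => ?_
      rw [← cj_le_iff]
      exact hS i
    by_cases hk : ∃ i k, cj n (ρ i) = ρ k
    · obtain ⟨i, k, hk⟩ := hk
      have h3 : f₁ * f₂ ∈ ⨆ i, ρ i := by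
        refine hncj (hnsup fun i' => ?_)
        obtain ⟨t, ht, e⟩ := h.trT i i'
        have ht' : n * t * n⁻¹ ∈ T := (mem_normalizer_iff.1 hn.2 t).1 ht
        obtain ⟨k', hk'⟩ := h.Tρ _ ht' k
        have h4 : cj n (ρ i') = ρ k' := by
          rw [← e, ← hk', ← hk, cj_cj, cj_cj]
          congr 1
          group
        rw [h4]
        exact le_iSup ρ k'
      apply hf₂1
      refine hint f₂ ?_ hf₂
      have : f₂ = f₁⁻¹ * (f₁ * f₂) := by group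
      rw [this]
      exact Subgroup.mul_mem _ (Subgroup.inv_mem _ hf₁) h3
    · push Not at hk
      have h3 : f₁ * f₂ ∈ M₂ := by
        refine hncj (hnsup fun i' => ?_)
        refine le_sSup ⟨cj_mem_Sg hn.1 (mem_Sg X₁ ρ i'), ?_⟩
        rintro ⟨k', hk'⟩
        exact hk i' k' hk'.symm
      apply hf₁1
      refine hint f₁ hf₁ ?_
      have : f₁ = (f₁ * f₂) * f₂⁻¹ := by group
      rw [this]
      exact mul_mem h3 (inv_mem hf₂)

end

end Cfsg.Agent.Omega.NOThreeL.RWide.ParT.Beta
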