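import Cfsg.Agent.ZN.ChoiceBase

/-!
# Box R, `parT`, case (beta): the members outside `O₂(P)` centralise `V_j` (bb #27369, = (G) of #26381)

`U` abelian, normalised by `P`, `W ≤ U` normalised by `P` and centralised by `Q = O₂(P)`; every `E ∈ 𝓔` satisfies
`U = W C_U(E)` and centralises `V ≤ U`; `P` is generated by `T` and the `P`-conjugates of the members of `𝓔`;
`A₀ ≤ ⟨𝓔⟩ Q` and `F ≤ [V, A₀]`.  **Then `P` centralises `F`** (`fix_of`): `X₀ = [V, Q]` is normalised by `P`, so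
centralised by all conjugates of members, and contains `[V, A₀]`.
-/

set_option autoImplicit false

namespace Cfsg.Agent.Omega.NOThreeL.RWide.ParT.BetaG

open Subgroup Cfsg Cfsg.Agent.ZN
open scoped commutatorElement
open Cfsg.Agent.ZN.ChoiceBase (cj cj_mono cj_centralizer cj_eq_of_mem_normalizer mem_cj mem_normalizer_iff_cj)

universe u

variable {G : Type u} [Group G]

theorem comm_le {V Q : Subgroup G} (QV : Q ≤ normalizer (V : Set G)) : ⁅V, Q⁆ ≤ V := by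
  rw [commutator_le]
  intro v hv o ho
  have h1 : o * v⁻¹ * o⁻¹ ∈ V := (mem_normalizer_iff.1 (QV ho) _).1 (inv_mem hv)
  have e : ⁅v, o⁆ = v * (o * v⁻¹ * o⁻¹) := by rw [commutatorElement_def]; group
  rw [e]
  exact mul_mem hv h1

/-- a conjugate of a member acts trivially on `U/W` -/
theorem act {P U W E : Subgroup G} (PU : P ≤ normalizer (U : Set G)) (Uc : U ≤ centralizer (U : Set G)) (WU : W ≤ U)
    (PW : P ≤ normalizer (W : Set G)) (EP : E ≤ P) (one : U ≤ W ⊔ (U ⊓ centralizer (E : Set G))) {p : G} (hp : p ∈ P)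
    {y : G} (hy : y ∈ cj p E) {u : G} (hu : u ∈ U) : y * u * y⁻¹ * u⁻¹ ∈ W := by
  obtain ⟨e, he, rfl⟩ := hy
  have e0 : (MulAut.conj p).toMonoidHom e = p * e * p⁻¹ := by simp
  rw [e0]
  have hu' : p⁻¹ * u * p ∈ U := by
    have := (mem_normalizer_iff.1 (inv_mem (PU hp)) u).1 hu
    rwa [inv_inv] at this
  have hn : W ≤ normalizer ((U ⊓ centralizer (E : Set G) : Subgroup G) : Set G) :=
    (WU.trans (Uc.trans (centralizer_le (inf_le_left : U ⊓ centralizer (E : Set G) ≤ U)))).trans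
      (centralizer_le_normalizer _)
  have h1 : p⁻¹ * u * p ∈ ((W ⊔ (U ⊓ centralizer (E : Set G)) : Subgroup G) : Set G) := one hu'
  rw [coe_mul_of_left_le_normalizer_right W (U ⊓ centralizer (E : Set G)) hn] at h1
  obtain ⟨w, hw, c, hc, hwc⟩ := Set.mem_mul.mp h1
  have hce : e * c = c * e := mem_centralizer_iff.1 hc.2 e he
  have h2 : e * w * e⁻¹ * w⁻¹ ∈ W :=
    mul_mem ((mem_normalizer_iff.1 (PW (EP he)) w).1 hw) (inv_mem hw)
  have h3 := (mem_normalizer_iff.1 (PW hp) _).1 h2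
  have e1 : p * e * p⁻¹ * u * (p * e * p⁻¹)⁻¹ * u⁻¹ = p * (e * w * e⁻¹ * w⁻¹) * p⁻¹ := by
    have hu2 : u = p * (w * c) * p⁻¹ := by rw [hwc]; group
    rw [hu2]
    calc p * e * p⁻¹ * (p * (w * c) * p⁻¹) * (p * e * p⁻¹)⁻¹ * (p * (w * c) * p⁻¹)⁻¹
        = p * (e * w * (c * e⁻¹) * c⁻¹ * w⁻¹) * p⁻¹ := by group
      _ = p * (e * w * (e⁻¹ * c) * c⁻¹ * w⁻¹) * p⁻¹ := by
          have : c * e⁻¹ = e⁻¹ * c := by
            have h4 : e⁻¹ * (e * c) * e⁻¹ = e⁻¹ * (c * e) * e⁻¹ := by rw [hce]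
            calc c * e⁻¹ = e⁻¹ * (e * c) * e⁻¹ := by group
              _ = e⁻¹ * (c * e) * e⁻¹ := h4
              _ = e⁻¹ * c := by group
          rw [this]
      _ = p * (e * w * e⁻¹ * w⁻¹) * p⁻¹ := by group
  rw [e1]
  exact h3

/-- **case (beta)** -/
theorem fix_of [Finite G] {P T U W V F A₀ Q : Subgroup G} {𝓔 : Set (Subgroup G)} (Uc : U ≤ centralizer (U : Set G))
    (PU : P ≤ normalizer (U : Set G)) (WU : W ≤ U) (VU : V ≤ U) (PW : P ≤ normalizer (W : Set G))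
    (PQ : P ≤ normalizer (Q : Set G)) (QW : Q ≤ centralizer (W : Set G)) (QV : Q ≤ normalizer (V : Set G))
    (EP : ∀ E ∈ 𝓔, E ≤ P) (one : ∀ E ∈ 𝓔, U ≤ W ⊔ (U ⊓ centralizer (E : Set G)))
    (EV : ∀ E ∈ 𝓔, E ≤ centralizer (V : Set G))
    (gen : ∀ X : Subgroup G, T ≤ X → (∀ E ∈ 𝓔, ∀ p ∈ P, cj p E ≤ X) → P ≤ X)
    (TP : T ≤ P) (TV : T ≤ normalizer (V : Set G)) (TF : T ≤ centralizer (F : Set G))
    (hA : A₀ ≤ sSup 𝓔 ⊔ Q) (hF : F ≤ ⁅V, A₀⁆) : P ≤ centralizer (F : Set G) := by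
  have hXV : ⁅V, Q⁆ ≤ V := comm_le QV
  -- `P` normalises `X₀`
  have hN : P ≤ normalizer ((⁅V, Q⁆ : Subgroup G) : Set G) := by
    refine gen _ ?_ ?_
    · intro t ht
      have h1 : cj t ⁅V, Q⁆ = ⁅cj t V, cj t Q⁆ := map_commutator V Q _
      rw [mem_normalizer_iff_cj, h1, cj_eq_of_mem_normalizer (TV ht), cj_eq_of_mem_normalizer (PQ (TP ht))]
    · intro E hE p hp y hy
      have hyP : y ∈ P := by
        obtain ⟨e, he, rfl⟩ := hy
        exact mul_mem (mul_mem hp (EP E hE he)) (inv_mem hp)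
      refine ChoiceBase.mem_normalizer_of_cj_le ?_
      rw [cj, map_le_iff_le_comap, commutator_le]
      intro v hv o ho
      rw [mem_comap]
      have e0 : (MulAut.conj y).toMonoidHom ⁅v, o⁆ = y * ⁅v, o⁆ * y⁻¹ := rfl
      rw [e0]
      set w := y * v * y⁻¹ * v⁻¹ with hw
      have hwW : w ∈ W := act PU Uc WU PW (EP E hE) (one E hE) hp hy (VU hv)
      have ho' : y * o * y⁻¹ ∈ Q := (mem_normalizer_iff.1 (PQ hyP) o).1 ho
      set o' := y * o * y⁻¹ with ho'def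
      have h2 : ⁅v, o'⁆ ∈ ⁅V, Q⁆ := commutator_mem_commutator hv ho'
      have h3 : w * ⁅v, o'⁆ = ⁅v, o'⁆ * w := by
        have := mem_centralizer_iff.1 (Uc (WU hwW)) _ (VU (hXV h2))
        exact this.symm
      have h4 : o' * w = w * o' := (mem_centralizer_iff.1 (QW ho') w hwW).symm
      have h5 : w⁻¹ * o'⁻¹ = o'⁻¹ * w⁻¹ := by
        rw [← mul_inv_rev, h4, mul_inv_rev]
      have e1 : y * ⁅v, o⁆ * y⁻¹ = ⁅v, o'⁆ := by
        calc y * ⁅v, o⁆ * y⁻¹ = (w * v) * o' * (v⁻¹ * (w⁻¹ * o'⁻¹)) := by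
              rw [commutatorElement_def, hw, ho'def]; group
          _ = (w * v) * o' * (v⁻¹ * (o'⁻¹ * w⁻¹)) := by rw [h5]
          _ = (w * ⁅v, o'⁆) * w⁻¹ := by rw [commutatorElement_def]; group
          _ = (⁅v, o'⁆ * w) * w⁻¹ := by rw [h3]
          _ = ⁅v, o'⁆ := by group
      rw [e1]
      exact h2
  -- all conjugates centralise `X₀`
  have hC : ∀ E ∈ 𝓔, ∀ p ∈ P, cj p E ≤ centralizer ((⁅V, Q⁆ : Subgroup G) : Set G) := by
    intro E hE p hp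
    have h1 := cj_mono p ((EV E hE).trans (centralizer_le hXV))
    rwa [cj_centralizer, cj_eq_of_mem_normalizer (hN hp)] at h1
  -- `[V, A₀] ≤ X₀`
  have hVA : ⁅V, A₀⁆ ≤ ⁅V, Q⁆ := by
    rw [commutator_le]
    intro v hv a ha
    have hEP : sSup 𝓔 ≤ P := sSup_le EP
    have h1 : a ∈ ((sSup 𝓔 ⊔ Q : Subgroup G) : Set G) := hA ha
    rw [coe_mul_of_left_le_normalizer_right (sSup 𝓔) Q (hEP.trans PQ)] at h1
    obtain ⟨j, hj, o, ho, rfl⟩ := Set.mem_mul.mp h1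
    have hjV : j ∈ centralizer (V : Set G) := (sSup_le EV) hj
    have h2 : ⁅v, o⁆ ∈ ⁅V, Q⁆ := commutator_mem_commutator hv ho
    have h3 : v * j = j * v := mem_centralizer_iff.1 hjV v hv
    have h4 : ⁅v, o⁆ * j = j * ⁅v, o⁆ := mem_centralizer_iff.1 hjV _ (hXV h2)
    have e : ⁅v, j * o⁆ = ⁅v, o⁆ := by
      calc ⁅v, j * o⁆ = (v * j) * o * v⁻¹ * o⁻¹ * j⁻¹ := by rw [commutatorElement_def]; group
        _ = (j * v) * o * v⁻¹ * o⁻¹ * j⁻¹ := by rw [h3]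
        _ = (j * ⁅v, o⁆) * j⁻¹ := by rw [commutatorElement_def]; group
        _ = (⁅v, o⁆ * j) * j⁻¹ := by rw [h4]
        _ = ⁅v, o⁆ := by group
    rw [e]
    exact h2
  exact gen _ TF fun E hE p hp => (hC E hE p hp).trans (centralizer_le (hF.trans hVA))

end Cfsg.Agent.Omega.NOThreeL.RWide.ParT.BetaG
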