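import Cfsg.Agent.Omega.NOThreeL.RWide.ParT.Axis

/-!
# THEOREM PAR_T: LEMMA X (helper971 #26838 (5))

`T` Sylow in `H`, `F ≤ R` centralised by `T`, `AA` an `H`-invariant family with `[U, A] = R` for all members `A ≤ T`,
`V = R R^x`, `|V| = |W| = q²`, `R ≤ W ≤ U`, every `1 ≠ y ∈ W` is `H`-conjugate into `F`: then `W = V`.
-/

set_option autoImplicit false
set_option linter.unusedSectionVars false

namespace Cfsg.Agent.Omega.NOThreeL.RWide.ParT

open Subgroup Cfsg Cfsg.Agent.ZN.ChoiceBase Cfsg.Agent.Omega.FFThm Cfsg.Agent.Omega.NO1.BestOff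

universe u

/-- a conjugate in a Sylow 2-subgroup -/
theorem exists_cj_le_of_syl {G : Type u} [Group G] [Finite G] {C T A : Subgroup G} (hT : IsPGroup 2 T)
    (hs : ¬ 2 ∣ T.relIndex C) (hAC : A ≤ C) (hA : IsPGroup 2 A) : ∃ c ∈ C, cj c A ≤ T := by
  have hf : Fact (Nat.Prime 2) := ⟨Nat.prime_two⟩
  have hT' : IsPGroup 2 (T.subgroupOf C) := hT.comap_of_injective _ C.subtype_injective
  have hA' : IsPGroup 2 (A.subgroupOf C) := hA.comap_of_injective _ C.subtype_injective
  obtain ⟨Q, hQ⟩ := hA'.exists_le_sylow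
  obtain ⟨g, hg⟩ := MulAction.exists_smul_eq C Q (hT'.toSylow hs)
  refine ⟨g, g.2, ?_⟩
  rintro _ ⟨x, hx, rfl⟩
  have h1 : (⟨x, hAC hx⟩ : C) ∈ (Q : Subgroup C) := hQ (mem_subgroupOf.mpr hx)
  have h2 : (MulAut.conj g) ⟨x, hAC hx⟩ ∈ ((g • Q : Sylow 2 C) : Subgroup C) := by
    rw [Sylow.smul_def]
    exact Subgroup.smul_mem_pointwise_smul _ (MulAut.conj g) _ h1
  rw [hg] at h2
  exact mem_subgroupOf.mp h2

/-- **LEMMA X** -/
theorem lemX {G : Type u} [Group G] [Finite G] {H T U V R F W : Subgroup G} {AA : Set (Subgroup G)} {q : ℕ}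
    (two : IsPGroup 2 T) (syl : ¬ 2 ∣ T.relIndex H) (TH : T ≤ H) (TF : T ≤ centralizer (F : Set G)) (FR : F ≤ R)
    (c : ∀ A' ∈ AA, A' ≤ T → ⁅U, A'⁆ = R) (AAc : ∀ A' ∈ AA, ∀ h ∈ H, cj h A' ∈ AA)
    (HU : H ≤ normalizer (U : Set G)) {A : Subgroup G} (hA : A ∈ AA) (hT : A ≤ T)
    (hi : (centralizer (A : Set G)).relIndex U ≤ q) {x : G} (hx : x ∈ H) (hV : V ≤ R ⊔ cj x R)
    (cV : Nat.card V = q ^ 2) (cR : Nat.card R = q) (WU : W ≤ U) (RW : R ≤ W) (cW : Nat.card W = q ^ 2)
    (tr : ∀ y ∈ W, y ≠ 1 → ∃ f ∈ F, ∃ g ∈ H, g * f * g⁻¹ = y) : W = V := by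
  have hTn : ∀ {h : G}, h ∈ H → cj h H = H := fun hh => cj_eq_of_mem_normalizer (le_normalizer hh)
  -- `C_W(A^x) ≤ R^x`
  have key : W ⊓ centralizer ((cj x A : Subgroup G) : Set G) ≤ cj x R := by
    intro y hy
    by_cases hy1 : y = 1
    · rw [hy1]; exact one_mem _
    obtain ⟨f, hf, g, hg, e⟩ := tr y hy.1 hy1
    -- `T^g ≤ C_H(y)` Sylow
    have hTg : cj g T ≤ H ⊓ centralizer ({y} : Set G) := by
      refine le_inf ?_ ?_
      · have := cj_mono g TH
        rwa [hTn hg] at this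
      · rintro _ ⟨t, ht, rfl⟩
        rw [mem_centralizer_singleton_iff, ← e]
        have h1 : f * t = t * f := mem_centralizer_iff.1 (TF ht) f hf
        show g * t * g⁻¹ * (g * f * g⁻¹) = g * f * g⁻¹ * (g * t * g⁻¹)
        calc g * t * g⁻¹ * (g * f * g⁻¹) = g * (t * f) * g⁻¹ := by group
          _ = g * (f * t) * g⁻¹ := by rw [h1]
          _ = _ := by group
    have hs : ¬ 2 ∣ (cj g T).relIndex (H ⊓ centralizer ({y} : Set G)) := by
      have h1 : (cj g T).relIndex H = T.relIndex H := by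
        nth_rw 1 [← hTn hg]
        rw [relIndex_cj]
      intro h2
      apply syl
      rw [← h1]
      exact h2.trans (Dvd.intro _ (relIndex_mul_relIndex _ _ _ hTg inf_le_left))
    have hAx : cj x A ≤ H ⊓ centralizer ({y} : Set G) := by
      refine le_inf ?_ ?_
      · have := cj_mono x (hT.trans TH)
        rwa [hTn hx] at this
      · intro z hz
        rw [mem_centralizer_singleton_iff]
        exact mem_centralizer_iff.1 hy.2 z hz
    have two' : IsPGroup 2 (cj g T) := two.map _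
    have hAp : IsPGroup 2 (cj x A) := (two.to_le hT).map _
    obtain ⟨d, hd, h3⟩ := exists_cj_le_of_syl two' hs hAx hAp
    have hdy : d * y = y * d := mem_centralizer_singleton_iff.1 hd.2
    have h4 : cj (g⁻¹ * (d * x)) A ≤ T := by
      have := cj_mono g⁻¹ h3
      rwa [cj_inv_cj, cj_cj, cj_cj, mul_assoc] at this
    have hmem : g⁻¹ * (d * x) ∈ H := mul_mem (inv_mem hg) (mul_mem hd.1 hx)
    have h5 := c _ (AAc A hA _ hmem) h4
    rw [c_cj (HU hmem), c A hA hT] at h5
    -- `R^(dx) = R^g`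
    have h6 : cj (d * x) R = cj g R := by
      have := congrArg (cj g) h5
      rwa [cj_cj, mul_inv_cancel_left] at this
    have h7 : y ∈ cj (d * x) R := by
      rw [h6, ← e]
      exact ⟨f, FR hf, rfl⟩
    rw [← cj_cj, mem_cj] at h7
    have h8 : d⁻¹ * y * d = y := by
      rw [mul_assoc, ← hdy, inv_mul_cancel_left]
    rwa [h8] at h7
  -- orders
  have hq : 0 < q := by rw [← cR]; exact Nat.card_pos
  have h1 : (centralizer ((cj x A : Subgroup G) : Set G)).relIndex U ≤ q := by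
    rw [← cj_centralizer]
    nth_rw 1 [← cj_eq_of_mem_normalizer (HU hx)]
    rw [relIndex_cj]
    exact hi
  have h2 : (centralizer ((cj x A : Subgroup G) : Set G)).relIndex W ≤ q :=
    (relIndex_le_of_le_right WU (rne _ _)).trans h1
  have h3 : q ≤ Nat.card ↥(W ⊓ centralizer ((cj x A : Subgroup G) : Set G)) := by
    have h4 : (centralizer ((cj x A : Subgroup G) : Set G)).relIndex W *
        Nat.card ↥(W ⊓ centralizer ((cj x A : Subgroup G) : Set G)) = Nat.card W := by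
      rw [inf_comm, ← inf_relIndex_right]
      exact rmc inf_le_right
    rw [cW] at h4
    by_contra hlt
    push Not at hlt
    have h5 : (centralizer ((cj x A : Subgroup G) : Set G)).relIndex W *
        Nat.card ↥(W ⊓ centralizer ((cj x A : Subgroup G) : Set G)) < q ^ 2 := by
      calc _ ≤ q * Nat.card ↥(W ⊓ centralizer ((cj x A : Subgroup G) : Set G)) := Nat.mul_le_mul_right _ h2
        _ < q * q := Nat.mul_lt_mul_of_pos_left hlt hq
        _ = q ^ 2 := by ring
    exact absurd h4 h5.ne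
  have hcj : Nat.card (cj x R) = q := by rw [card_cj, cR]
  have h4 : W ⊓ centralizer ((cj x A : Subgroup G) : Set G) = cj x R :=
    eq_of_le_of_card_ge key (by rw [hcj]; exact h3)
  have h5 : V ≤ W := hV.trans (sup_le RW (h4 ▸ inf_le_left))
  exact (eq_of_le_of_card_ge h5 (by rw [cV, cW])).symm

end Cfsg.Agent.Omega.NOThreeL.RWide.ParT
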