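import Cfsg.Agent.Omega.NOThreeL.RWide.ParT.Spl
import Cfsg.Agent.Omega.NOThreeL.RWide.ParT.AlphaS
import Cfsg.Agent.Omega.NOThreeL.RWide.ParT.LemX

/-!
# `par` over `T` (helper294 #26826 (2)): the cases (i-b) and (i-a)

* `Fe.caseA` : some member `E ≤ K₂` of the family moves `V` ⟹ `X₂ ≤ N(R)`;
* `Fe.caseB` : no such member, some member `E ≤ T` moves `V`, `X₂` has the natural module `W` with line `R` ⟹ `W = V`.
-/

set_option autoImplicit false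

namespace Cfsg.Agent.Omega.NOThreeL.RWide.ParT

open Subgroup Cfsg Cfsg.Agent.ZN.ChoiceBase
open scoped commutatorElement Pointwise

universe u

variable {G : Type u} [Group G]

/-- The frame: `X₁ = P_j`, `X₂ = P`, `K_i = O₂(X_i)`, `V` natural for `X₁` with line `R`, `U = ⟨F ^ H⟩`. -/
structure Fe (T X₁ X₂ K₁ K₂ U V R F Z₀ : Subgroup G) (q : ℕ) : Prop where
  two : IsPGroup 2 T
  TX₁ : T ≤ X₁
  TX₂ : T ≤ X₂
  syl : ¬ 2 ∣ T.relIndex (X₁ ⊔ X₂)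
  KT₁ : K₁ ≤ T
  KT₂ : K₂ ≤ T
  nK₁ : X₁ ≤ normalizer (K₁ : Set G)
  nK₂ : X₂ ≤ normalizer (K₂ : Set G)
  ab : ∀ a ∈ U, ∀ b ∈ U, a * b = b * a
  sq : ∀ a ∈ U, a ^ 2 = 1
  UT : U ≤ T
  nU₁ : X₁ ≤ normalizer (U : Set G)
  nU₂ : X₂ ≤ normalizer (U : Set G)
  gen : U ≤ ⨆ h : (X₁ ⊔ X₂ : Subgroup G), cj (h : G) F
  FR : F ≤ R
  RV : R ≤ V
  VU : V ≤ U
  TF : T ≤ centralizer (F : Set G)
  TR : T ≤ normalizer (R : Set G)
  nV : X₁ ≤ normalizer (V : Set G)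
  cK₁ : K₁ ≤ centralizer (V : Set G)
  mK₁ : T ⊓ centralizer (V : Set G) ≤ K₁
  opp : ∃ x ∈ X₁, R ⊓ cj x R = ⊥ ∧ V ≤ R ⊔ cj x R
  cardR : Nat.card R = q
  Fne : F ≠ ⊥
  zT : U ⊓ centralizer (T : Set G) ≤ F ⊔ Z₀
  cZ : X₁ ⊔ X₂ ≤ centralizer (Z₀ : Set G)
  /-- `T|V` is (root group).(fields): an elementary abelian exact offender is the full root group -/
  offV : ∀ E ≤ T, (∀ a ∈ E, a ^ 2 ∈ centralizer (V : Set G)) →
    (∀ a ∈ E, ∀ b ∈ E, a * b * a⁻¹ * b⁻¹ ∈ centralizer (V : Set G)) →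
    (centralizer (V : Set G)).relIndex E ≤ (centralizer (E : Set G)).relIndex V ∧
    ((centralizer (V : Set G)).relIndex E = (centralizer (E : Set G)).relIndex V → ¬ E ≤ centralizer (V : Set G) →
      V ⊓ centralizer (E : Set G) = R ∧ (centralizer (E : Set G)).relIndex V = q ∧
      ∀ v ∈ V, v ∉ R → (∀ e ∈ E, e * v * e⁻¹ * v⁻¹ ∈ R) ∧ ∀ s ∈ R, ∃ e ∈ E, e * v * e⁻¹ * v⁻¹ = s)
  /-- two opposite root groups generate -/
  gen₁ : ∀ x ∈ X₁, R ⊓ cj x R = ⊥ → ∀ E ≤ T, V ⊓ centralizer (E : Set G) = R →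
    (centralizer (E : Set G)).relIndex V = q →
    (∀ v ∈ V, v ∉ R → (∀ e ∈ E, e * v * e⁻¹ * v⁻¹ ∈ R) ∧ ∀ s ∈ R, ∃ e ∈ E, e * v * e⁻¹ * v⁻¹ = s) →
    ∀ y ∈ X₁, cj y E ≤ (E ⊔ cj x E) ⊔ centralizer (V : Set G)

/-- `X₂` has one natural block `W` with line `R`. -/
structure Wb (H T X₂ K₂ U R F W : Subgroup G) (q : ℕ) : Prop where
  WU : W ≤ U
  RW : R ≤ W
  nW : X₂ ≤ normalizer (W : Set G)
  cW : Nat.card W = q ^ 2
  trW : ∀ f ∈ F, f ≠ 1 → ∀ w ∈ W, w ≠ 1 → ∃ x ∈ X₂, x * f * x⁻¹ = w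
  cK₂ : K₂ ≤ centralizer (W : Set G)
  mK₂ : T ⊓ centralizer (W : Set G) ≤ K₂
  mv₂ : ∀ E : Subgroup G, IsFFm H U E → E ≤ T → ¬ E ≤ K₂ → R ≤ ⁅U, E⁆

namespace Fe

variable {T X₁ X₂ K₁ K₂ U V R F Z₀ : Subgroup G} {q : ℕ} (h : Fe T X₁ X₂ K₁ K₂ U V R F Z₀ q)
include h

theorem Rne : R ≠ ⊥ := fun h1 => h.Fne (le_bot_iff.1 (h1 ▸ h.FR))

theorem HU : X₁ ⊔ X₂ ≤ normalizer (U : Set G) := sup_le h.nU₁ h.nU₂

theorem q2 [Finite G] : 2 ≤ q := by
  rw [← h.cardR]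
  have h1 : Nat.card R ≠ 1 := fun h2 => h.Rne (Subgroup.card_eq_one.1 h2)
  have h2 : 0 < Nat.card R := Nat.card_pos
  omega

/-- CUT at `V` -/
theorem cutV [Finite G] {E : Subgroup G} (hE : IsFFm (X₁ ⊔ X₂) U E) (hT : E ≤ T)
    (hm : ¬ E ≤ centralizer (V : Set G)) :
    ff U E = Nat.card U ∧ (centralizer (E : Set G)).relIndex U = q ∧ V ⊓ centralizer (E : Set G) = R ∧
    (centralizer (E : Set G)).relIndex V = q ∧
    (∀ v ∈ V, v ∉ R → (∀ e ∈ E, e * v * e⁻¹ * v⁻¹ ∈ R) ∧ ∀ s ∈ R, ∃ e ∈ E, e * v * e⁻¹ * v⁻¹ = s) ∧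
    (∀ u ∈ U, ∀ e ∈ E, e * u * e⁻¹ * u⁻¹ ∈ R) ∧ ⁅U, E⁆ = R := by
  have hCC : centralizer (U : Set G) ≤ centralizer (V : Set G) := centralizer_le h.VU
  obtain ⟨o1, o2⟩ := h.offV E hT (fun a ha => hCC (hE.sq a ha)) (fun a ha b hb => hCC (hE.com a ha b hb))
  rcases hE.cut h.ab h.VU o1 with h1 | ⟨h1, h2, h3, h4⟩
  · exact absurd h1 hm
  obtain ⟨a1, a2, a3⟩ := o2 h3 hm
  have hVn : V ≤ normalizer ((U ⊓ centralizer (E : Set G) : Subgroup G) : Set G) := by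
    intro c hc
    refine centralizer_le_normalizer _ (mem_centralizer_iff.2 fun y hy => ?_)
    exact h.ab y hy.1 c (h.VU hc)
  have com : ∀ u ∈ U, ∀ e ∈ E, e * u * e⁻¹ * u⁻¹ ∈ R := by
    intro u hu e he
    have h5 : u ∈ (V : Set G) * ((U ⊓ centralizer (E : Set G) : Subgroup G) : Set G) := by
      rw [← Subgroup.coe_mul_of_left_le_normalizer_right _ _ hVn]
      exact h2 hu
    obtain ⟨v, hv, c, hc, hvc⟩ := h5
    have hvc' : v * c = u := hvc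
    have hce : e * c = c * e := mem_centralizer_iff.1 hc.2 e he
    have e1 : e * u * e⁻¹ * u⁻¹ = e * v * e⁻¹ * v⁻¹ := by
      rw [← hvc']
      calc e * (v * c) * e⁻¹ * (v * c)⁻¹ = e * v * (c * e⁻¹) * c⁻¹ * v⁻¹ := by group
        _ = e * v * (e⁻¹ * c) * c⁻¹ * v⁻¹ := by
            have : c * e⁻¹ = e⁻¹ * c := by
              have h7 : e⁻¹ * (e * c) * e⁻¹ = e⁻¹ * (c * e) * e⁻¹ := by rw [hce]
              simpa [mul_assoc] using h7
            rw [this]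
        _ = _ := by group
    rw [e1]
    by_cases hvR : v ∈ R
    · rw [← a1] at hvR
      have h6 : e * v = v * e := mem_centralizer_iff.1 hvR.2 e he
      rw [h6]
      have : v * e * e⁻¹ * v⁻¹ = 1 := by group
      rw [this]; exact one_mem _
    · exact (a3 v hv hvR).1 e he
  refine ⟨h4, ?_, a1, a2, a3, com, ?_⟩
  · -- index
    have hVC : V ⊔ (U ⊓ centralizer (E : Set G)) = U := le_antisymm (sup_le h.VU inf_le_left) h2
    have hn : U ⊓ centralizer (E : Set G) ≤ normalizer (V : Set G) := by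
      intro c hc
      refine centralizer_le_normalizer _ (mem_centralizer_iff.2 fun y hy => ?_)
      exact h.ab y (h.VU hy) c hc.1
    have b1 := card_sup_mul' hn
    have b0 : V ⊓ (U ⊓ centralizer (E : Set G)) = R := by
      rw [← inf_assoc, inf_eq_left.2 h.VU, a1]
    rw [hVC, b0] at b1
    have b2 := card_mul_relIndex' (H := centralizer (E : Set G) ⊓ V) (K := V) inf_le_right
    rw [inf_relIndex_right, a2, inf_comm, a1] at b2
    have b3 := card_mul_relIndex' (H := centralizer (E : Set G) ⊓ U) (K := U) inf_le_right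
    rw [inf_relIndex_right, inf_comm] at b3
    rw [← b2, ← b3] at b1
    have p1 : 0 < Nat.card R := Nat.card_pos
    have p2 : 0 < Nat.card (U ⊓ centralizer (E : Set G) : Subgroup G) := Nat.card_pos
    have b4 : (Nat.card (U ⊓ centralizer (E : Set G) : Subgroup G) * Nat.card R) * (centralizer (E : Set G)).relIndex U =
        (Nat.card (U ⊓ centralizer (E : Set G) : Subgroup G) * Nat.card R) * q := by
      calc _ = Nat.card (U ⊓ centralizer (E : Set G) : Subgroup G) * (centralizer (E : Set G)).relIndex U * Nat.card R := by ring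
        _ = _ := b1
        _ = _ := by ring
    exact Nat.eq_of_mul_eq_mul_left (Nat.mul_pos p2 p1) b4
  · apply le_antisymm
    · rw [Subgroup.commutator_le]
      intro u hu e he
      have h5 := inv_mem (com u hu e he)
      have e1 : (e * u * e⁻¹ * u⁻¹)⁻¹ = ⁅u, e⁆ := by rw [commutatorElement_def]; group
      rwa [e1] at h5
    · have hne : ¬ V ≤ R := by
        intro h5
        have h6 : R = V := le_antisymm h.RV h5
        have b2 := card_mul_relIndex' (H := centralizer (E : Set G) ⊓ V) (K := V) inf_le_right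
        rw [inf_relIndex_right, a2, inf_comm, a1, h6] at b2
        have p1 : 0 < Nat.card V := Nat.card_pos
        have := h.q2
        nlinarith
      obtain ⟨v, hv, hvR⟩ := SetLike.not_le_iff_exists.1 hne
      intro s hs
      obtain ⟨e, he, hes⟩ := (a3 v hv hvR).2 s hs
      rw [← hes, commutator_comm]
      have e1 : e * v * e⁻¹ * v⁻¹ = ⁅e, v⁆ := by rw [commutatorElement_def]
      rw [e1]
      exact Subgroup.commutator_mem_commutator he (h.VU hv)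

/-- the frame of (S) -/
theorem sp [Finite G] {E : Subgroup G} (hE : IsFFm (X₁ ⊔ X₂) U E) (hT : E ≤ T)
    (hm : ¬ E ≤ centralizer (V : Set G)) : ∃ x ∈ X₁, Sp (X₁ ⊔ X₂) X₁ U V R E x q := by
  obtain ⟨a1, a2, a3, a4, a5, a6, _⟩ := h.cutV hE hT hm
  obtain ⟨x, hx, o1, o2⟩ := h.opp
  refine ⟨x, hx, ?_⟩
  have hRE : R ≤ centralizer (E : Set G) := by rw [← a3]; exact inf_le_right
  exact
    { ffm := hE
      ab := h.ab
      sq := h.sq
      XH := le_sup_left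
      XU := h.nU₁
      XV := h.nV
      VU := h.VU
      RV := h.RV
      cR := h.cardR
      Rne := h.Rne
      EX := hT.trans h.TX₁
      ffE := a1
      idx := a2.le
      com := a6
      RE := hRE
      cent := a3.le
      full := fun v hv hvR => (a5 v hv hvR).2
      xX := hx
      opp := o1
      VRR := o2
      gen := h.gen₁ x hx o1 E hT a3 a4 a5 }

/-- **(i-b)** -/
theorem caseA [Finite G] (hA : ∃ E ∈ FFm (X₁ ⊔ X₂) U, E ≤ K₂ ∧ ¬ E ≤ centralizer (V : Set G)) :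
    X₂ ≤ normalizer (R : Set G) := by
  obtain ⟨E, hE, hK, hm⟩ := hA
  obtain ⟨x, hx, sp⟩ := h.sp hE (hK.trans h.KT₂) hm
  obtain ⟨s1, s2, s3, s4⟩ := sp.spl
  refine Alpha.alphaS (T := T) (X₂ := X₂) (K₁ := K₁) (K₂ := K₂) (U := U) (V := V) (R := R) (F := F) (Z₀ := Z₀)
    (C := U ⊓ centralizer ((LE X₁ E : Subgroup G) : Set G)) (E := E) (AA := FFm (X₁ ⊔ X₂) U)
    h.two h.TX₂ h.KT₂ h.nK₂ h.ab h.UT h.nU₂ h.RV h.VU h.TR h.zT (h.FR.trans h.RV)
    (le_centralizer_iff.1 (le_sup_right.trans h.cZ)) s1 ?_ (s4 K₁ (h.KT₁.trans h.TX₁) h.cK₁) ?_ ?_ hE hK ?_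
  · refine le_inf inf_le_left (inf_le_right.trans (le_centralizer_iff.1 ?_))
    exact (LE_le (hK.trans (h.KT₂.trans h.TX₁))).trans (le_sup_left.trans h.cZ)
  · intro A hA x hx
    exact IsFFm.cj hA (le_sup_right (a := X₁) hx) (h.nU₂ hx)
  · intro A hA hT hK
    exact (h.cutV hA hT fun h1 => hK ((le_inf hT h1).trans h.mK₁)).2.2.2.2.2.2
  · exact fun h1 => hm (h1.trans h.cK₁)

/-- `N ≤ T` normal in `H` centralises `U` -/
theorem core {N : Subgroup G} (hT : N ≤ T) (h1 : X₁ ≤ normalizer (N : Set G)) (h2 : X₂ ≤ normalizer (N : Set G)) :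
    N ≤ centralizer (U : Set G) := by
  rw [le_centralizer_iff]
  refine h.gen.trans (iSup_le fun g => ?_)
  have h3 : (g : G) ∈ normalizer (N : Set G) := (sup_le h1 h2) g.2
  have h4 := cj_mono (g : G) (le_centralizer_iff.1 (hT.trans h.TF))
  rwa [cj_centralizer, cj_eq_of_mem_normalizer h3] at h4

/-- **(i-a)** -/
theorem caseB [Finite G] {W : Subgroup G} (hA : ∀ E ∈ FFm (X₁ ⊔ X₂) U, E ≤ K₂ → E ≤ centralizer (V : Set G))
    (hB : ∃ E ∈ FFm (X₁ ⊔ X₂) U, E ≤ T ∧ ¬ E ≤ centralizer (V : Set G))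
    (w : Wb (X₁ ⊔ X₂) T X₂ K₂ U R F W q) : W = V ∧ X₂ ≤ normalizer (V : Set G) ∧ K₁ = K₂ := by
  obtain ⟨E, hE, hT, hm⟩ := hB
  obtain ⟨x, hx, sp⟩ := h.sp hE hT hm
  obtain ⟨s1, s2, s3, s4⟩ := sp.spl
  have hK₁ := s4 K₁ (h.KT₁.trans h.TX₁) h.cK₁
  -- members centralising `V`
  have st1 : ∀ A ∈ FFm (X₁ ⊔ X₂) U, A ≤ K₁ → A ≤ K₂ := by
    intro A hA' hK
    by_contra hc
    have h1 := w.mv₂ A hA' (hK.trans h.KT₁) hc
    have h2 : R ≤ V ⊓ (U ⊓ centralizer ((LE X₁ E : Subgroup G) : Set G)) :=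
      le_inf h.RV (h1.trans ((commutator_mono le_rfl hK).trans hK₁))
    rw [s1] at h2
    exact h.Rne (le_bot_iff.1 h2)
  have st2 : ∀ A ∈ FFm (X₁ ⊔ X₂) U, A ≤ K₂ → A ≤ K₁ := fun A hA' hK =>
    (le_inf (hK.trans h.KT₂) (hA A hA' hK)).trans h.mK₁
  set M : Subgroup G := sSup {A | A ∈ FFm (X₁ ⊔ X₂) U ∧ A ≤ K₁} with hM
  have hMT : M ≤ T := sSup_le fun A hA' => hA'.2.trans h.KT₁
  have hn : ∀ X K : Subgroup G, X ≤ X₁ ⊔ X₂ → X ≤ normalizer (K : Set G) →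
      (∀ A ∈ FFm (X₁ ⊔ X₂) U, A ≤ K₁ → A ≤ K) → (∀ A ∈ FFm (X₁ ⊔ X₂) U, A ≤ K → A ≤ K₁) →
      X ≤ normalizer (M : Set G) := by
    intro X K hXH hXK h1 h2
    have h3 : ∀ g ∈ X, cj g M ≤ M := by
      intro g hg
      rw [hM, sSup_eq_iSup', cj_iSup]
      refine iSup_le fun A => ?_
      have hA1 := A.2.1
      have hA2 := h1 _ A.2.1 A.2.2
      have h4 : cj g (A : Subgroup G) ∈ FFm (X₁ ⊔ X₂) U := IsFFm.cj hA1 (hXH hg) (h.HU (hXH hg))
      have h5 : cj g (A : Subgroup G) ≤ K := by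
        have := cj_mono g hA2
        rwa [cj_eq_of_mem_normalizer (hXK hg)] at this
      exact le_iSup (fun A : {A | A ∈ FFm (X₁ ⊔ X₂) U ∧ A ≤ K₁} => (A : Subgroup G)) ⟨cj g A, h4, h2 _ h4 h5⟩
    intro g hg
    rw [mem_normalizer_iff_cj]
    refine le_antisymm (h3 g hg) ?_
    have := cj_mono g (h3 g⁻¹ (inv_mem hg))
    rwa [cj_cj_inv] at this
  have hMC : M ≤ centralizer (U : Set G) := h.core hMT
    (hn X₁ K₁ le_sup_left h.nK₁ (fun _ _ h => h) (fun _ _ h => h)) (hn X₂ K₂ le_sup_right h.nK₂ st1 st2)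
  have st3 : ∀ A ∈ FFm (X₁ ⊔ X₂) U, A ≤ T → ¬ A ≤ centralizer (V : Set G) := by
    intro A hA' hAT hAV
    apply hA'.mv
    have h1 : A ≤ K₁ := (le_inf hAT hAV).trans h.mK₁
    exact (le_sSup (show A ∈ {A | A ∈ FFm (X₁ ⊔ X₂) U ∧ A ≤ K₁} from ⟨hA', h1⟩)).trans hMC
  obtain ⟨y, hy, o1, o2⟩ := h.opp
  have hRy : cj y R ≤ V := by
    have := cj_mono y h.RV
    rwa [cj_eq_of_mem_normalizer (h.nV hy)] at this
  have cV : Nat.card V = q ^ 2 := by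
    have hn : cj y R ≤ normalizer (R : Set G) := by
      intro c hc
      refine centralizer_le_normalizer _ (mem_centralizer_iff.2 fun z hz => ?_)
      exact h.ab z (h.VU (h.RV hz)) c (h.VU (hRy hc))
    have h1 := card_sup_mul' hn
    rw [o1, card_bot, mul_one, card_cj, h.cardR] at h1
    rw [pow_two, ← h1, le_antisymm o2 (sup_le h.RV hRy)]
  obtain ⟨f, hf, hf1⟩ := ex_ne h.Fne
  have hWV : W = V := lemX (H := X₁ ⊔ X₂) (T := T) (U := U) (V := V) (R := R) (F := F) (W := W)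
    (AA := FFm (X₁ ⊔ X₂) U) (q := q) h.two h.syl (h.TX₁.trans le_sup_left) h.TF h.FR
    (fun A hA' hAT => (h.cutV hA' hAT (st3 A hA' hAT)).2.2.2.2.2.2)
    (fun A hA' g hg => IsFFm.cj hA' hg (h.HU hg)) h.HU hE hT (h.cutV hE hT hm).2.1.le
    (le_sup_left (b := X₂) hy) o2 cV h.cardR w.WU w.RW w.cW
    (fun z hz hz1 => by
      obtain ⟨g, hg, e⟩ := w.trW f hf hf1 z hz hz1
      exact ⟨f, hf, g, le_sup_right (a := X₁) hg, e⟩)
  refine ⟨hWV, hWV ▸ w.nW, ?_⟩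
  apply le_antisymm
  · refine le_trans (le_inf h.KT₁ ?_) w.mK₂
    rw [hWV]; exact h.cK₁
  · refine le_trans (le_inf h.KT₂ ?_) h.mK₁
    rw [← hWV]; exact w.cK₂

end Fe

end Cfsg.Agent.Omega.NOThreeL.RWide.ParT
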