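import Cfsg.Agent.Omega.NOThreeL.RWide.ParT.Axis

/-!
# `parT`, case (C): all members of the family in `T` centralise `V` (helper244, bb OMEGA #27251)

`T ≤ X₁, X₂` (`X₁ = P_j`, `X₂ = P`), `K_i = O₂(X_i) ≤ T`, `U` an abelian group normalised by `H = ⟨X₁, X₂⟩`, `AA` an
`H`-invariant family of subgroups moving `U`, `c(A) = [U, A]`, **all members of `T` lie in `K₁`**. The module `⟨F ^ X₂⟩` may be
nonsplit and of symmetric type: the only facts on the panel `X₂` are `loc` (same axis ⟹ same `c`), `cardK` and `big`.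

* `Cs.c_eq` : members of `T` with the same axis have the same `c(A)`;
* `Cs.cent` : `A ≤ T`, `A ≰ K₂`, `B ≤ K₂` ⟹ `A` centralises `c(B)`;
* **`Cs.false_of`** : `X₂` centralises `F`.
-/

set_option autoImplicit false
set_option linter.unusedSectionVars false

namespace Cfsg.Agent.Omega.NOThreeL.RWide.ParT.CaseC

open Subgroup Cfsg Cfsg.Agent.ZN.ChoiceBase
open scoped commutatorElement

universe u

variable {G : Type u} [Group G]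

/-- The frame of case (C). -/
structure Cs (T X₁ X₂ K₁ K₂ U M₂ : Subgroup G) (AA : Set (Subgroup G)) : Prop where
  T₁ : T ≤ X₁
  T₂ : T ≤ X₂
  KT₁ : K₁ ≤ T
  KT₂ : K₂ ≤ T
  nK₁ : X₁ ≤ normalizer (K₁ : Set G)
  nK₂ : X₂ ≤ normalizer (K₂ : Set G)
  Uab : ∀ u ∈ U, ∀ v ∈ U, u * v = v * u
  nU₁ : X₁ ≤ normalizer (U : Set G)
  nU₂ : X₂ ≤ normalizer (U : Set G)
  core : ∀ N ≤ T, X₁ ≤ normalizer (N : Set G) → X₂ ≤ normalizer (N : Set G) → N ≤ centralizer (U : Set G)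
  AAc : ∀ A ∈ AA, ∀ x ∈ X₁ ⊔ X₂, cj x A ∈ AA
  AAU : ∀ A ∈ AA, ¬ A ≤ centralizer (U : Set G)
  /-- case (C) -/
  hC : ∀ A ∈ AA, A ≤ T → A ≤ K₁
  -- the panel `X₂`; `M₂ = ⟨F ^ X₂⟩`
  nM : X₂ ≤ normalizer (M₂ : Set G)
  K₂M : K₂ ≤ centralizer (M₂ : Set G)
  cM : ∀ A ∈ AA, A ≤ T → ¬ A ≤ K₂ → ⁅U, A⁆ ≤ M₂
  /-- same axis, same `c` -/
  loc : ∀ A ∈ AA, ∀ A' ∈ AA, A ≤ T → A' ≤ T → ¬ A ≤ K₂ →
    U ⊓ centralizer (A : Set G) = U ⊓ centralizer (A' : Set G) → ⁅U, A⁆ = ⁅U, A'⁆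
  cardK : ∀ A ∈ AA, ∀ A' ∈ AA, A ≤ T → A' ≤ T → ¬ A ≤ K₂ → ¬ A' ≤ K₂ →
    Nat.card (⁅U, A⁆ : Subgroup G) = Nat.card (⁅U, A'⁆ : Subgroup G)
  qd : ∀ A ∈ AA, A ≤ T → ¬ A ≤ K₂ → A ≤ centralizer ((⁅U, A⁆ : Subgroup G) : Set G)
  /-- `M ≤ U` invariant under the conjugates of `A` under `X₂` and moved by `A` contains `[U, A]` -/
  big : ∀ A ∈ AA, A ≤ T → ¬ A ≤ K₂ → ∀ M ≤ U, (∀ y ∈ X₂, cj y A ≤ normalizer (M : Set G)) →
    ¬ A ≤ centralizer (M : Set G) → ⁅U, A⁆ ≤ M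

namespace Cs

variable {T X₁ X₂ K₁ K₂ U M₂ : Subgroup G} {AA : Set (Subgroup G)} (h : Cs T X₁ X₂ K₁ K₂ U M₂ AA)
include h

theorem nU : X₁ ⊔ X₂ ≤ normalizer (U : Set G) := sup_le h.nU₁ h.nU₂

theorem TH : T ≤ X₁ ⊔ X₂ := h.T₁.trans le_sup_left

theorem c_le {A : Subgroup G} (hT : A ≤ T) : ⁅U, A⁆ ≤ U :=
  le_normalizer_iff_commutator_le_left.1 ((hT.trans h.TH).trans h.nU)

/-- **the gallery** -/
theorem gallery {A A' : Subgroup G} (hA : A ∈ AA) (hA' : A' ∈ AA) (hT : A ≤ T) (hT' : A' ≤ T) :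
    ∃ x ∈ X₁ ⊔ X₂, A ≤ cj x T ∧ A' ≤ cj x T ∧ (¬ A ≤ cj x K₂ ∨ ¬ A' ≤ cj x K₂) := by
  by_contra hcon
  push Not at hcon
  have hK₁ : ∀ E ∈ AA, ∀ x ∈ X₁ ⊔ X₂, E ≤ cj x T → E ≤ cj x K₁ := by
    intro E hE x hx hET
    have h1 : cj x⁻¹ E ≤ T := by
      have := cj_mono x⁻¹ hET
      rwa [cj_inv_cj] at this
    have h2 := cj_mono x (h.hC _ (h.AAc E hE x⁻¹ (inv_mem hx)) h1)
    rwa [cj_cj_inv] at h2
  have s₁ : ∀ E : Subgroup G, ∀ x, E ≤ cj x K₁ → ∀ y ∈ X₁, E ≤ cj (x * y) T := by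
    intro E x hE y hy
    refine hE.trans ?_
    rw [← cj_cj]
    refine cj_mono x ?_
    have := cj_mono y h.KT₁
    rwa [cj_eq_of_mem_normalizer (h.nK₁ hy)] at this
  have s₂ : ∀ E : Subgroup G, ∀ x, E ≤ cj x K₂ → ∀ y ∈ X₂, E ≤ cj (x * y) T := by
    intro E x hE y hy
    refine hE.trans ?_
    rw [← cj_cj]
    refine cj_mono x ?_
    have := cj_mono y h.KT₂
    rwa [cj_eq_of_mem_normalizer (h.nK₂ hy)] at this
  have key : ∀ x ∈ X₁ ⊔ X₂, A ≤ cj x T ∧ A' ≤ cj x T := by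
    intro x hx
    rw [sup_eq_closure] at hx
    induction hx using closure_induction_right with
    | one => rw [cj_one]; exact ⟨hT, hT'⟩
    | mul_right x hx y hy ih =>
      rw [← sup_eq_closure] at hx
      obtain ⟨h1, h2⟩ := hcon x hx ih.1 ih.2
      rcases hy with hy | hy
      · exact ⟨s₁ A x (hK₁ A hA x hx ih.1) y hy, s₁ A' x (hK₁ A' hA' x hx ih.2) y hy⟩
      · exact ⟨s₂ A x h1 y hy, s₂ A' x h2 y hy⟩
    | mul_inv_cancel x hx y hy ih =>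
      rw [← sup_eq_closure] at hx
      obtain ⟨h1, h2⟩ := hcon x hx ih.1 ih.2
      rcases hy with hy | hy
      · exact ⟨s₁ A x (hK₁ A hA x hx ih.1) _ (inv_mem hy), s₁ A' x (hK₁ A' hA' x hx ih.2) _ (inv_mem hy)⟩
      · exact ⟨s₂ A x h1 _ (inv_mem hy), s₂ A' x h2 _ (inv_mem hy)⟩
  -- the core
  set N : Subgroup G := ⨅ x : ↥(X₁ ⊔ X₂), cj (x : G) T with hN
  have hNT : N ≤ T := by
    have := iInf_le (fun x : ↥(X₁ ⊔ X₂) => cj (x : G) T) 1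
    simpa [cj_one] using this
  have hNn : ∀ y ∈ X₁ ⊔ X₂, y ∈ normalizer (N : Set G) := by
    have h1 : ∀ y ∈ X₁ ⊔ X₂, cj y N ≤ N := by
      intro y hy
      refine le_iInf fun x => ?_
      rw [cj_le_iff, cj_cj]
      exact iInf_le (fun x : ↥(X₁ ⊔ X₂) => cj (x : G) T) ⟨y⁻¹ * x, mul_mem (inv_mem hy) x.2⟩
    intro y hy
    rw [mem_normalizer_iff_cj]
    refine le_antisymm (h1 y hy) ?_
    have := cj_mono y (h1 y⁻¹ (inv_mem hy))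
    rwa [cj_cj_inv] at this
  have hAN : A ≤ N := le_iInf fun x => (key x x.2).1
  exact h.AAU A hA (hAN.trans (h.core N hNT (fun y hy => hNn y ((le_sup_left : X₁ ≤ X₁ ⊔ X₂) hy))
    fun y hy => hNn y ((le_sup_right : X₂ ≤ X₁ ⊔ X₂) hy)))

theorem back {A K : Subgroup G} {x : G} (h1 : ¬ A ≤ cj x K) : ¬ cj x⁻¹ A ≤ K := by
  intro h2
  apply h1
  have := cj_mono x h2
  rwa [cj_cj_inv] at this

/-- **same axis ⟹ same `c(A)`** -/
theorem c_eq {A A' : Subgroup G} (hA : A ∈ AA) (hA' : A' ∈ AA) (hT : A ≤ T) (hT' : A' ≤ T)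
    (hax : U ⊓ centralizer (A : Set G) = U ⊓ centralizer (A' : Set G)) : ⁅U, A⁆ = ⁅U, A'⁆ := by
  obtain ⟨x, hx, h1, h1', h2⟩ := h.gallery hA hA' hT hT'
  have hx' : x⁻¹ ∈ X₁ ⊔ X₂ := inv_mem hx
  have hxU := h.nU hx'
  have h3 : cj x⁻¹ A ≤ T := by
    have := cj_mono x⁻¹ h1
    rwa [cj_inv_cj] at this
  have h3' : cj x⁻¹ A' ≤ T := by
    have := cj_mono x⁻¹ h1'
    rwa [cj_inv_cj] at this
  have k := h.AAc A hA x⁻¹ hx'
  have k' := h.AAc A' hA' x⁻¹ hx'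
  have hax' : U ⊓ centralizer ((cj x⁻¹ A : Subgroup G) : Set G) =
      U ⊓ centralizer ((cj x⁻¹ A' : Subgroup G) : Set G) := by
    rw [ax_cj hxU, ax_cj hxU, hax]
  have key : ⁅U, cj x⁻¹ A⁆ = ⁅U, cj x⁻¹ A'⁆ := by
    rcases h2 with h2 | h2
    · exact h.loc _ k _ k' h3 h3' (h.back h2) hax'
    · exact (h.loc _ k' _ k h3' h3 (h.back h2) hax'.symm).symm
  rw [c_cj hxU, c_cj hxU] at key
  have := congrArg (cj x) key
  rwa [cj_cj_inv, cj_cj_inv] at this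

theorem card_cj (x : G) (M : Subgroup G) : Nat.card (cj x M : Subgroup G) = Nat.card M :=
  (Nat.card_congr (M.equivMapOfInjective (MulAut.conj x).toMonoidHom (MulAut.conj x).injective).toEquiv).symm

theorem card_eq {A B : Subgroup G} (hA : A ∈ AA) (hT : A ≤ T) (hK : ¬ A ≤ K₂) (hB : B ∈ AA) (hBT : B ≤ T) :
    Nat.card (⁅U, B⁆ : Subgroup G) = Nat.card (⁅U, A⁆ : Subgroup G) := by
  obtain ⟨x, hx, h1, -, h2⟩ := h.gallery hB hB hBT hBT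
  have h2' : ¬ B ≤ cj x K₂ := by tauto
  have hx' : x⁻¹ ∈ X₁ ⊔ X₂ := inv_mem hx
  have h3 : cj x⁻¹ B ≤ T := by
    have := cj_mono x⁻¹ h1
    rwa [cj_inv_cj] at this
  have h4 := h.cardK _ (h.AAc B hB x⁻¹ hx') A hA h3 hT (h.back h2') hK
  rw [c_cj (h.nU hx'), h.card_cj] at h4
  exact h4

/-- **(b2)** -/
theorem cent [Finite G] {A B : Subgroup G} (hA : A ∈ AA) (hT : A ≤ T) (hK : ¬ A ≤ K₂) (hB : B ∈ AA) (hBK : B ≤ K₂) :
    A ≤ centralizer ((⁅U, B⁆ : Subgroup G) : Set G) := by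
  have hBT : B ≤ T := hBK.trans h.KT₂
  have hBM : M₂ ≤ centralizer (B : Set G) := le_centralizer_iff.1 (hBK.trans h.K₂M)
  have h1 : ∀ y ∈ X₂, cj y A ≤ normalizer ((⁅U, B⁆ : Subgroup G) : Set G) := by
    intro y hy
    have hyU : y ∈ normalizer (U : Set G) := h.nU₂ hy
    have hAX : cj y A ≤ X₂ := by
      have := cj_mono y (hT.trans h.T₂)
      rwa [cj_eq_of_mem_normalizer (le_normalizer hy)] at this
    have hcM : ⁅U, cj y A⁆ ≤ M₂ := by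
      rw [c_cj hyU]
      have := cj_mono y (h.cM A hA hT hK)
      rwa [cj_eq_of_mem_normalizer (h.nM hy)] at this
    have h3 : ∀ k ∈ cj y A, cj k (U ⊓ centralizer (B : Set G)) ≤ U ⊓ centralizer (B : Set G) := by
      rintro k hk _ ⟨u, hu, rfl⟩
      show k * u * k⁻¹ ∈ _
      have h4 : k * u * k⁻¹ * u⁻¹ ∈ ⁅U, cj y A⁆ := by
        rw [commutator_comm]
        exact commutator_mem_commutator hk hu.1
      have h5 : k * u * k⁻¹ ∈ U := (mem_normalizer_iff.1 (h.nU₂ (hAX hk)) u).1 hu.1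
      refine ⟨h5, ?_⟩
      have h6 := mul_mem (hBM (hcM h4)) hu.2
      rwa [inv_mul_cancel_right] at h6
    intro k hk
    have hkX : k ∈ X₂ := hAX hk
    have hkH : k ∈ X₁ ⊔ X₂ := (le_sup_right : X₂ ≤ X₁ ⊔ X₂) hkX
    have h6 : cj k (U ⊓ centralizer (B : Set G)) = U ⊓ centralizer (B : Set G) := by
      refine le_antisymm (h3 k hk) ?_
      have := cj_mono k (h3 k⁻¹ (inv_mem hk))
      rwa [cj_cj_inv] at this
    have h7 : cj k B ≤ T := by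
      have := cj_mono k hBK
      rw [cj_eq_of_mem_normalizer (h.nK₂ hkX)] at this
      exact this.trans h.KT₂
    have h8 := h.c_eq (h.AAc B hB k hkH) hB h7 hBT (by rw [ax_cj (h.nU hkH), h6])
    rw [c_cj (h.nU hkH)] at h8
    exact mem_normalizer_iff_cj.2 h8
  by_contra hcon
  have h2 := h.big A hA hT hK ⁅U, B⁆ (h.c_le hBT) h1 hcon
  have h3 : ⁅U, A⁆ = ⁅U, B⁆ := eq_of_le_of_card_ge h2 (h.card_eq hA hT hK hB hBT).le
  apply hcon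
  rw [← h3]
  exact h.qd A hA hT hK

theorem CK_norm' {X K : Subgroup G} (hX : X ≤ X₁ ⊔ X₂) (hn : X ≤ normalizer (K : Set G)) :
    X ≤ normalizer (CK U AA K : Set G) := by
  have h1 : ∀ x ∈ X, cj x (CK U AA K) ≤ CK U AA K := by
    intro x hx
    rw [cj_le_iff]
    refine iSup₂_le fun A hA => ?_
    rw [← cj_le_iff, ← c_cj (h.nU (hX hx))]
    have h2 : cj x A ≤ K := by
      have := cj_mono x hA.2
      rwa [cj_eq_of_mem_normalizer (hn hx)] at this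
    exact le_iSup₂ (f := fun (A : Subgroup G) (_ : A ∈ AA ∧ A ≤ K) => ⁅U, A⁆) (cj x A)
      ⟨h.AAc A hA.1 x (hX hx), h2⟩
  intro x hx
  rw [mem_normalizer_iff_cj]
  refine le_antisymm (h1 x hx) ?_
  have := cj_mono x (h1 x⁻¹ (inv_mem hx))
  rwa [cj_cj_inv] at this

end Cs

/-- `⟨[U, A] : A ∈ AA, A ≤ T, A ≰ K⟩` -/
def Wc (U : Subgroup G) (AA : Set (Subgroup G)) (T K : Subgroup G) : Subgroup G :=
  ⨆ (A : Subgroup G) (_ : A ∈ AA ∧ A ≤ T ∧ ¬ A ≤ K), ⁅U, A⁆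

/-- **Case (C)**: `X₂` centralises `F`. -/
theorem Cs.false_of [Finite G] {T X₁ X₂ K₁ K₂ U M₂ V F Z₀ A₀ : Subgroup G} {AA : Set (Subgroup G)}
    (h : Cs T X₁ X₂ K₁ K₂ U M₂ AA) (AAne : ∃ A ∈ AA, A ≤ T)
    (min : ∀ N : Subgroup G, N ≤ X₂ → X₂ ≤ normalizer (N : Set G) → N ⊓ T ≤ K₂ ∨ X₂ ≤ N ⊔ T)
    (irr₁ : ∀ f ∈ F, f ≠ 1 → ∀ M : Subgroup G, (∀ x ∈ X₁, x * f * x⁻¹ * f⁻¹ ∈ M) → V ≤ M)
    (zT : U ⊓ centralizer (T : Set G) ≤ F ⊔ Z₀) (cZ : X₁ ⊔ X₂ ≤ centralizer (Z₀ : Set G))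
    (FT : F ≤ T) (TF : T ≤ centralizer (F : Set G))
    (dec : ∀ z ∈ F, ∃ c ∈ centralizer (X₂ : Set G), z * c ∈ Wc U AA T K₂)
    (A₀T : A₀ ≤ T) (A₀W : A₀ ≤ centralizer (Wc U AA T K₂ : Set G)) (A₀F : F ≤ ⁅V, A₀⁆) :
    X₂ ≤ centralizer (F : Set G) := by
  by_contra hX
  -- a member which is not in `K₂`
  obtain ⟨A, hA, hT, hK⟩ : ∃ A ∈ AA, A ≤ T ∧ ¬ A ≤ K₂ := by
    obtain ⟨B, hB, hBT⟩ := AAne
    obtain ⟨x, hx, h1, -, h2⟩ := h.gallery hB hB hBT hBT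
    have h2' : ¬ B ≤ cj x K₂ := by tauto
    refine ⟨cj x⁻¹ B, h.AAc B hB _ (inv_mem hx), ?_, h.back h2'⟩
    have := cj_mono x⁻¹ h1
    rwa [cj_inv_cj] at this
  set P₂ : Subgroup G := CK U AA K₂ with hP₂
  have hP₂n : X₂ ≤ normalizer (P₂ : Set G) := h.CK_norm' le_sup_right h.nK₂
  have hAP : A ≤ centralizer (P₂ : Set G) := by
    rw [le_centralizer_iff]
    exact iSup₂_le fun B hB => le_centralizer_iff.1 (h.cent hA hT hK hB.1 hB.2)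
  have hgen : X₂ ≤ (X₂ ⊓ centralizer (P₂ : Set G)) ⊔ T := by
    have h1 : X₂ ≤ normalizer ((X₂ ⊓ centralizer (P₂ : Set G) : Subgroup G) : Set G) := by
      intro x hx
      rw [mem_normalizer_iff_cj, cj_inf, cj_centralizer, cj_eq_of_mem_normalizer (hP₂n hx),
        cj_eq_of_mem_normalizer (le_normalizer hx)]
    rcases min _ inf_le_left h1 with h2 | h2
    · exact absurd ((le_inf (le_inf (hT.trans h.T₂) hAP) hT).trans h2) hK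
    · exact h2
  -- it suffices that `F ≤ P₂`
  have hcon0 : ¬ F ≤ P₂ := fun hF =>
    hX (hgen.trans (sup_le (inf_le_right.trans (centralizer_le hF)) TF))
  -- some `z ∈ F` is moved by `X₂`
  · obtain ⟨z, hz, hzX⟩ : ∃ z ∈ F, z ∉ centralizer (X₂ : Set G) := by
      by_contra hc
      push Not at hc
      exact hX (le_centralizer_iff.1 hc)
    obtain ⟨c, hc, hzc⟩ := dec z hz
    set Yc : Subgroup G := CK U AA T with hYc
    have hWU : Wc U AA T K₂ ≤ U := iSup₂_le fun B hB => h.c_le hB.2.1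
    have hWY : Wc U AA T K₂ ≤ Yc :=
      iSup₂_le fun B hB => le_iSup₂ (f := fun (B : Subgroup G) (_ : B ∈ AA ∧ B ≤ T) => ⁅U, B⁆) B ⟨hB.1, hB.2.1⟩
    have hYn : X₁ ≤ normalizer (Yc : Set G) := by
      have h1 : Yc = CK U AA K₁ := by
        refine le_antisymm ?_ ?_
        · exact iSup₂_le fun B hB =>
            le_iSup₂ (f := fun (B : Subgroup G) (_ : B ∈ AA ∧ B ≤ K₁) => ⁅U, B⁆) B ⟨hB.1, h.hC B hB.1 hB.2⟩
        · exact iSup₂_le fun B hB =>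
            le_iSup₂ (f := fun (B : Subgroup G) (_ : B ∈ AA ∧ B ≤ T) => ⁅U, B⁆) B ⟨hB.1, hB.2.trans h.KT₁⟩
      rw [h1]
      exact h.CK_norm' le_sup_left h.nK₁
    have hcT : c ∈ centralizer (T : Set G) := centralizer_le h.T₂ hc
    have hzT : z * c ∈ U ⊓ centralizer (T : Set G) :=
      ⟨hWU hzc, mul_mem (le_centralizer_iff.1 TF hz) hcT⟩
    have hcomm : ∀ x ∈ F, ∀ y ∈ Z₀, x * y = y * x := fun x hx y hy =>
      (mem_centralizer_iff.1 (cZ (h.TH (FT hx))) y hy).symm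
    obtain ⟨f, hf, z₀, hz₀, e⟩ := PermB.mem_sup_comm hcomm (zT hzT)
    have hf1 : f ≠ 1 := by
      rintro rfl
      apply hzX
      rw [one_mul] at e
      have h1 : z₀ ∈ centralizer (X₂ : Set G) :=
        le_centralizer_iff.1 ((le_sup_right : X₂ ≤ X₁ ⊔ X₂).trans cZ) hz₀
      have h2 : z = z₀ * c⁻¹ := by rw [← e]; group
      rw [h2]
      exact mul_mem h1 (inv_mem hc)
    have hV : V ≤ Yc := by
      refine irr₁ f hf hf1 Yc fun x hx => ?_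
      have h1 : z₀ * x = x * z₀ := mem_centralizer_iff.1 (cZ ((le_sup_left : X₁ ≤ X₁ ⊔ X₂) hx)) z₀ hz₀
      have h2 : x * f * x⁻¹ * f⁻¹ = (x * (z * c) * x⁻¹) * (z * c)⁻¹ := by
        rw [e]
        have h3 : z₀ * x⁻¹ = x⁻¹ * z₀ := by
          have : x⁻¹ * (z₀ * x) * x⁻¹ = x⁻¹ * (x * z₀) * x⁻¹ := by rw [h1]
          simpa [mul_assoc] using this.symm
        calc x * f * x⁻¹ * f⁻¹ = x * f * (x⁻¹ * z₀) * z₀⁻¹ * f⁻¹ := by group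
          _ = x * f * (z₀ * x⁻¹) * z₀⁻¹ * f⁻¹ := by rw [h3]
          _ = (x * (f * z₀) * x⁻¹) * (f * z₀)⁻¹ := by group
      rw [h2]
      have h4 := hWY hzc
      exact mul_mem ((mem_normalizer_iff.1 (hYn hx) _).1 h4) (inv_mem h4)
    have hYW : Yc ≤ Wc U AA T K₂ ⊔ P₂ := by
      refine iSup₂_le fun B hB => ?_
      by_cases hBK : B ≤ K₂
      · exact (le_iSup₂ (f := fun (B : Subgroup G) (_ : B ∈ AA ∧ B ≤ K₂) => ⁅U, B⁆) B ⟨hB.1, hBK⟩).trans le_sup_right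
      · exact (le_iSup₂ (f := fun (B : Subgroup G) (_ : B ∈ AA ∧ B ≤ T ∧ ¬ B ≤ K₂) => ⁅U, B⁆) B
          ⟨hB.1, hB.2, hBK⟩).trans le_sup_left
    have hP₂U : P₂ ≤ U := iSup₂_le fun B hB => h.c_le (hB.2.trans h.KT₂)
    apply hcon0
    refine A₀F.trans ?_
    rw [commutator_le]
    intro v hv a ha
    obtain ⟨w, hw, u, hu, rfl⟩ := PermB.mem_sup_comm
      (fun x hx y hy => h.Uab x (hWU hx) y (hP₂U hy)) (hYW (hV hv))
    have haw : a * w⁻¹ * a⁻¹ = w⁻¹ := by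
      have h1 := mem_centralizer_iff.1 (A₀W ha) w hw
      have h2 : a * w * a⁻¹ = w := by rw [← h1]; group
      calc a * w⁻¹ * a⁻¹ = (a * w * a⁻¹)⁻¹ := by group
        _ = w⁻¹ := by rw [h2]
    have hau : u * (a * u⁻¹ * a⁻¹) ∈ P₂ :=
      mul_mem hu ((mem_normalizer_iff.1 (hP₂n (h.T₂ (A₀T ha))) _).1 (inv_mem hu))
    have h3 : ⁅w * u, a⁆ = w * (u * (a * u⁻¹ * a⁻¹)) * w⁻¹ := by
      rw [commutatorElement_def]
      calc w * u * a * (w * u)⁻¹ * a⁻¹ = w * (u * (a * u⁻¹ * a⁻¹)) * (a * w⁻¹ * a⁻¹) := by group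
        _ = _ := by rw [haw]
    rw [h3, h.Uab w (hWU hw) _ (hP₂U hau), mul_inv_cancel_right]
    exact hau

end Cfsg.Agent.Omega.NOThreeL.RWide.ParT.CaseC
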