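import Cfsg.Agent.Omega.NOThreeL.RWide.TAct

/-!
# THEOREM PAR_T (helper971 #26838), step (6): the end of case (alpha)

Over `Tf S V N l`; `T = TT S N`, `F b = C_(l b)(T)`, `D = C_G(Ω₁Z(T))`, `O = O₂(D)`, `X_j = YY F j`.

* `Tf.syl_YY`, `Tf.fix_of` : `T` is Sylow in `X_j`; `N_(X_j)(T)` fixes all blocks;
* `Tf.mem_all_of` : `P ≤ X_j`, `P ≤ N_G(B)` normalises all blocks;
* `Tf.J_le` : `N_G(J(O)) ≤ N_G(R)`;
* `Tf.norm_of_R` : `P ∈ 𝒫(T)`, `P ≤ X_j ∩ N_G(R)` moves `F j`: `P` normalises all blocks;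
* **`Tf.end_alpha`** : `P ∈ 𝒫(T)`, `P ≤ X_j ∩ N_G(l j)` moves `F j`: `P` normalises all blocks.
-/

set_option autoImplicit false
set_option linter.unusedSectionVars false

namespace Cfsg.Agent.Omega.NOThreeL.RWide.TAct

open Subgroup Cfsg Cfsg.Agent.Omega.MinPar
open Cfsg.Agent.ZN (zc o2 jj)
open Cfsg.Agent.ZN.ChoiceBase (cj cj_mono cj_inf cj_centralizer cj_eq_of_mem_normalizer mem_cj mem_normalizer_iff_cj
  cj_cj_inv cj_inv_cj cj_cj cj_one mem_zc isPGroup_cj card_cj AA jj_eq jj_le jj_eq_of_jj_le jj_cj normalizer_le_of_cj)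
open Cfsg.Agent.MinSimple.MinParabolic (IsMinPar le_of_forall)
open Cfsg.Agent.MinSimple.VModule (zc_le normalizer_le_normalizer_zc le_centralizer_zc le_normalizer_o2 o2_isPGroup
  le_o2 o2_le o2_le_of_sylow)
open Cfsg.Agent.Omega.NoFF.Basic (comm_symm)
open Cfsg.Agent.Omega.EDel.ThmU (sylow_of_two)

universe u v

variable {G : Type u} [Group G] {ι : Type v}

/-- `O₂(C_G(Ω₁Z(T)))` -/
abbrev OT [Finite G] (T : Subgroup G) : Subgroup G := o2 (centralizer (zc T : Set G))

namespace Tf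

variable [Finite G] [Finite ι] [Nonempty ι] {S : Sylow 2 G} {V : Subgroup G} {N l : ι → Subgroup G} (h : Tf S V N l)
include h

theorem hTF (i : ι) : TT (S : Subgroup G) N ≤ centralizer (FF (S : Subgroup G) N l i : Set G) :=
  comm_symm inf_le_right

theorem T_le_YY (j : ι) : TT (S : Subgroup G) N ≤ YY (FF (S : Subgroup G) N l) j := le_YY fun i _ => h.hTF i

/-- a permutation of the blocks by an element of `X_j` is trivial -/
theorem perm_eq {j : ι} {x : G} (hx : x ∈ YY (FF (S : Subgroup G) N l) j) {σ : Equiv.Perm ι}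
    (hσ : ∀ b, cj x (N b) = N (σ b)) (b : ι) : σ b = b := by
  have h1 : ∀ b, b ≠ j → σ b = b := by
    intro b hb
    by_contra hne
    apply h.ne b
    rw [eq_bot_iff, ← TBits.dis_of h.ind b (σ b) (Ne.symm hne)]
    refine le_inf (h.F_le_N b) ?_
    have h2 := cj_mono x (h.F_le_N b)
    rwa [cj_eq_of_mem_normalizer (centralizer_le_normalizer _ (YY_le_cent hb hx)), hσ b] at h2
  by_cases hb : b = j
  · subst hb
    by_contra hne
    exact hne (σ.injective (h1 _ hne))
  · exact h1 b hb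

/-- `N_(X_j)(T)` fixes all the lines and blocks -/
theorem fix_of {j : ι} {x : G} (hx : x ∈ YY (FF (S : Subgroup G) N l) j)
    (hxT : x ∈ normalizer (TT (S : Subgroup G) N : Set G)) (b : ι) :
    cj x (FF (S : Subgroup G) N l b) = FF (S : Subgroup G) N l b ∧ cj x (N b) = N b ∧ cj x (l b) = l b := by
  obtain ⟨σ, hσ⟩ := h.NT' x hxT
  have h1 := h.perm_eq hx (fun b => (hσ b).2.1) b
  have h2 := hσ b
  rwa [h1] at h2

/-- `T` is Sylow in `X_j` -/
theorem syl_YY (j : ι) : ¬ 2 ∣ (TT (S : Subgroup G) N).relIndex (YY (FF (S : Subgroup G) N l) j) :=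
  sylow_of_two h.T2 (h.T_le_YY j) fun g hg h2 => h.ker g hg.2 h2 fun i => (h.fix_of hg.1 hg.2 i).1

theorem syl_sub {j : ι} {P : Subgroup G} (hTP : TT (S : Subgroup G) N ≤ P)
    (hP : P ≤ YY (FF (S : Subgroup G) N l) j) : ¬ 2 ∣ (TT (S : Subgroup G) N).relIndex P := fun h1 => by
  apply h.syl_YY j
  rw [← relIndex_mul_relIndex _ P _ hTP hP]
  exact h1.mul_right _

/-- a subgroup of `X_j ∩ N_G(B)` normalises all blocks -/
theorem mem_all_of {j : ι} {P : Subgroup G} (hP : P ≤ YY (FF (S : Subgroup G) N l) j)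
    (hPB : P ≤ normalizer (BB (S : Subgroup G) l : Set G)) (b : ι) :
    P ≤ normalizer (N b : Set G) ∧ P ≤ normalizer (l b : Set G) := by
  have key : ∀ p ∈ P, cj p (l b) = l b ∧ cj p (N b) = N b := by
    intro p hp
    obtain ⟨σ, hσ⟩ := h.exists_perm (hPB hp) (h.B_le (hPB hp))
    have h1 := h.perm_eq (hP hp) (fun b => (hσ b).2) b
    have h2 := hσ b
    rwa [h1] at h2
  exact ⟨fun p hp => mem_normalizer_iff_cj.2 (key p hp).2, fun p hp => mem_normalizer_iff_cj.2 (key p hp).1⟩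

/-- `P ∈ 𝒫(T)` in `X_j ∩ N_G(R)` which moves `F j` normalises `B` -/
theorem le_nB {j : ι} {P : Subgroup G} (hP : IsMinPar (TT (S : Subgroup G) N) P)
    (hPX : P ≤ YY (FF (S : Subgroup G) N l) j) (hPR : P ≤ normalizer ((⨆ b, l b : Subgroup G) : Set G))
    (hm : ¬ P ≤ centralizer (FF (S : Subgroup G) N l j : Set G)) :
    P ≤ normalizer (BB (S : Subgroup G) l : Set G) := by
  have hs := h.syl_sub hP.le hPX
  have hC : P ≤ normalizer ((centralizer ((⨆ b, l b : Subgroup G) : Set G) : Subgroup G) : Set G) := by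
    intro g hg
    rw [mem_normalizer_iff_cj, cj_centralizer, cj_eq_of_mem_normalizer (hPR hg)]
  have hn : P ≤ normalizer ((P ⊓ centralizer ((⨆ b, l b : Subgroup G) : Set G) : Subgroup G) : Set G) := by
    intro g hg
    rw [mem_normalizer_iff_cj, cj_inf, cj_eq_of_mem_normalizer (Subgroup.le_normalizer hg),
      cj_eq_of_mem_normalizer (hC hg)]
  rcases hP.sup_eq_or_inf_le h.T2 hs inf_le_left hn with h1 | h1
  · exfalso
    apply hm
    rw [← h1]
    refine sup_le (inf_le_right.trans (centralizer_le ?_)) (h.hTF j)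
    exact (h.F_le_l j).trans (le_iSup l j)
  · have h2 : BB (S : Subgroup G) l = o2 P ⊓ centralizer ((⨆ b, l b : Subgroup G) : Set G) := by
      apply le_antisymm
      · refine le_inf (le_trans ?_ h1) inf_le_right
        exact le_inf h.BT (le_inf (h.BT.trans hP.le) inf_le_right)
      · refine le_inf ((inf_le_left.trans (o2_le_of_sylow h.T2 hs)).trans inf_le_left) inf_le_right
    rw [h2]
    intro g hg
    rw [mem_normalizer_iff_cj, cj_inf, cj_eq_of_mem_normalizer (le_normalizer_o2 _ hg),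
      cj_eq_of_mem_normalizer (hC hg)]

/-- `P ∈ 𝒫(T)` in `X_j ∩ N_G(R)` which moves `F j` normalises all blocks -/
theorem norm_of_R {j : ι} {P : Subgroup G} (hP : IsMinPar (TT (S : Subgroup G) N) P)
    (hPX : P ≤ YY (FF (S : Subgroup G) N l) j) (hPR : P ≤ normalizer ((⨆ b, l b : Subgroup G) : Set G))
    (hm : ¬ P ≤ centralizer (FF (S : Subgroup G) N l j : Set G)) (b : ι) : P ≤ normalizer (N b : Set G) :=
  (h.mem_all_of hPX (h.le_nB hP hPX hPR hm) b).1

omit [Finite ι] [Nonempty ι] in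
/-- `Ω₁Z(S) ≤ Ω₁Z(T)` -/
theorem Z_le_zcT : zc (S : Subgroup G) ≤ zc (TT (S : Subgroup G) N) := by
  intro x hx
  obtain ⟨hxS, hx2, hxc⟩ := mem_zc.1 hx
  exact mem_zc.2 ⟨h.BT (h.RB (h.ZR hx)), hx2, fun y hy => hxc y hy.1⟩

omit [Finite ι] in
/-- `J(O) ≠ 1` -/
theorem J_ne : jj (OT (TT (S : Subgroup G) N)) ≠ ⊥ := by
  refine Cfsg.Agent.Omega.ESym.CoreS.jj_ne_bot (o2_isPGroup _) fun e => ?_
  apply h.ne (Classical.arbitrary ι)
  rw [eq_bot_iff, ← e]
  refine (h.F_le _).trans (le_o2 (fun x hx => ?_) (h.T2.to_le (zc_le _)) ?_)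
  · rw [mem_centralizer_iff]
    exact fun y hy => ((mem_zc.1 hx).2.2 y (zc_le _ hy))
  · exact (centralizer_le_normalizer _)

omit [Finite ι] [Nonempty ι] in
/-- `S` normalises `J(O)` -/
theorem S_norm_J : (S : Subgroup G) ≤ normalizer (jj (OT (TT (S : Subgroup G) N)) : Set G) := by
  intro s hs
  have h1 : cj s (zc (TT (S : Subgroup G) N)) = zc (TT (S : Subgroup G) N) :=
    cj_eq_of_mem_normalizer (normalizer_le_normalizer_zc _ (h.ST hs))
  have h2 : s ∈ normalizer ((centralizer (zc (TT (S : Subgroup G) N) : Set G) : Subgroup G) : Set G) := by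
    rw [mem_normalizer_iff_cj, cj_centralizer, h1]
  have h3 := Cfsg.Agent.Omega.normalizer_le_normalizer_o2' _ h2
  exact normalizer_le_of_cj (F := jj) jj_cj _ h3

/-- **`N_G(J(O)) ≤ N_G(R)`** -/
theorem J_le (AJ : jj (OT (TT (S : Subgroup G) N)) ≤ centralizer ((⨆ b, l b : Subgroup G) : Set G))
    (CJ : V ⊓ centralizer (jj (OT (TT (S : Subgroup G) N)) : Set G) ≤ ⨆ b, l b)
    (I1s : centralizer (zc (S : Subgroup G) : Set G) ≤ normalizer ((⨆ b, l b : Subgroup G) : Set G)) :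
    normalizer (jj (OT (TT (S : Subgroup G) N)) : Set G) ≤ normalizer ((⨆ b, l b : Subgroup G) : Set G) := by
  refine le_of_forall h.S_norm_J ?_ fun R hR hRN => ?_
  · exact inf_le_right.trans (h.nS_nB.trans h.nB_nR)
  · rcases h.par R (h.isPar_of hR ((o2_isPGroup _).to_le (jj_le _)) h.J_ne hRN) with h1 | h1
    · exact h1.trans I1s
    · intro r hr
      have e : (⨆ b, l b) = V ⊓ centralizer (jj (OT (TT (S : Subgroup G) N)) : Set G) :=
        le_antisymm (le_inf h.RV (comm_symm AJ)) CJ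
      rw [mem_normalizer_iff_cj, e, cj_inf, cj_eq_of_mem_normalizer (h1 hr), cj_centralizer,
        cj_eq_of_mem_normalizer (hRN hr)]

/-- `P ≤ X_j ∩ N_G(l j)` normalises `J(O)` -/
theorem le_nJ (AJ : jj (OT (TT (S : Subgroup G) N)) ≤ centralizer ((⨆ b, l b : Subgroup G) : Set G))
    (pl : ∀ c ∈ centralizer (zc (S : Subgroup G) : Set G), ∀ b, ∃ b', cj c (l b) = l b') {j : ι}
    {P : Subgroup G} (hPX : P ≤ YY (FF (S : Subgroup G) N l) j) (hPl : P ≤ normalizer (l j : Set G)) :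
    P ≤ normalizer (jj (OT (TT (S : Subgroup G) N)) : Set G) := by
  set T := TT (S : Subgroup G) N with hT
  set D := centralizer (zc T : Set G) with hD
  set D' : Subgroup G := centralizer (l j : Set G) ⊓ YY (FF (S : Subgroup G) N l) j with hD'
  -- `D` centralises the `F b`
  have hDF : ∀ b, D ≤ centralizer (FF (S : Subgroup G) N l b : Set G) := fun b => centralizer_le (h.F_le b)
  have hDY : D ≤ YY (FF (S : Subgroup G) N l) j := le_YY fun b _ => hDF b
  have hD'D : D' ≤ D := by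
    have h1 : zc T ≤ centralizer (D' : Set G) := h.zcT.trans (iSup_le fun b => by
      by_cases hb : b = j
      · rw [hb]
        exact comm_symm ((inf_le_left : D' ≤ _).trans (centralizer_le (h.F_le_l j)))
      · exact comm_symm ((inf_le_right : D' ≤ _).trans (YY_le_cent hb)))
    exact comm_symm h1
  -- `D` normalises `l j`
  have hDl : D ≤ normalizer (l j : Set G) := by
    intro d hd
    obtain ⟨b, hb⟩ := pl d (centralizer_le h.Z_le_zcT hd) j
    have h1 : b = j := by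
      by_contra hne
      apply h.ne j
      rw [eq_bot_iff, ← TBits.dis_of h.ind j b (Ne.symm hne)]
      refine le_inf (h.F_le_N j) ?_
      have h2 := cj_mono d (h.F_le_l j)
      rw [cj_eq_of_mem_normalizer (centralizer_le_normalizer _ (hDF j hd)), hb] at h2
      exact h2.trans (h.lN b)
    rw [h1] at hb
    exact mem_normalizer_iff_cj.2 hb
  have hDn : D ≤ normalizer (D' : Set G) := by
    intro d hd
    rw [mem_normalizer_iff_cj, hD', cj_inf, cj_centralizer, cj_eq_of_mem_normalizer (hDl hd),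
      cj_eq_of_mem_normalizer (Subgroup.le_normalizer (hDY hd))]
  have hPn : P ≤ normalizer (D' : Set G) := by
    intro d hd
    rw [mem_normalizer_iff_cj, hD', cj_inf, cj_centralizer, cj_eq_of_mem_normalizer (hPl hd),
      cj_eq_of_mem_normalizer (Subgroup.le_normalizer (hPX hd))]
  -- `O₂(D') ≤ O`, `J(O) ≤ O₂(D')`
  have h1 : o2 D' ≤ OT T :=
    le_o2 ((o2_le _).trans hD'D) (o2_isPGroup _) fun d hd =>
      Cfsg.Agent.Omega.normalizer_le_normalizer_o2' _ (hDn hd)
  have h2 : jj (OT T) ≤ o2 D' := by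
    have h3 : jj (OT T) ≤ D' := le_inf (AJ.trans (centralizer_le (le_iSup l j)))
      (((jj_le _).trans (o2_le _)).trans hDY)
    have h4 : (OT T ⊓ D' : Subgroup G) ≤ o2 D' := by
      refine le_o2 inf_le_right ((o2_isPGroup _).to_le inf_le_left) fun d hd => ?_
      rw [mem_normalizer_iff_cj, cj_inf, cj_eq_of_mem_normalizer (le_normalizer_o2 _ (hD'D hd)),
        cj_eq_of_mem_normalizer (Subgroup.le_normalizer hd)]
    exact (le_inf (jj_le _) h3).trans h4
  have h5 : jj (o2 D') = jj (OT T) := jj_eq_of_jj_le h2 h1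
  rw [← h5]
  intro p hp
  exact normalizer_le_of_cj (F := jj) jj_cj _ (Cfsg.Agent.Omega.normalizer_le_normalizer_o2' _ (hPn hp))

/-- **The end of case (alpha).** -/
theorem end_alpha (AJ : jj (OT (TT (S : Subgroup G) N)) ≤ centralizer ((⨆ b, l b : Subgroup G) : Set G))
    (CJ : V ⊓ centralizer (jj (OT (TT (S : Subgroup G) N)) : Set G) ≤ ⨆ b, l b)
    (pl : ∀ c ∈ centralizer (zc (S : Subgroup G) : Set G), ∀ b, ∃ b', cj c (l b) = l b') {j : ι}
    {P : Subgroup G} (hP : IsMinPar (TT (S : Subgroup G) N) P) (hPX : P ≤ YY (FF (S : Subgroup G) N l) j)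
    (hPl : P ≤ normalizer (l j : Set G)) (hm : ¬ P ≤ centralizer (FF (S : Subgroup G) N l j : Set G)) (b : ι) :
    P ≤ normalizer (N b : Set G) := by
  refine h.norm_of_R hP hPX ((h.le_nJ AJ pl hPX hPl).trans (h.J_le AJ CJ ?_)) hm b
  intro c hc
  refine Cfsg.Agent.ZN.ChoiceBase.mem_normalizer_of_cj_le ?_
  rw [cj, Subgroup.map_iSup]
  refine iSup_le fun b => ?_
  obtain ⟨b', hb'⟩ := pl c hc b
  exact (le_of_eq hb').trans (le_iSup l b')

end Tf

end Cfsg.Agent.Omega.NOThreeL.RWide.TAct
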