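import Cfsg.Agent.Omega.NOThreeL.RWide.PIn

/-!
# `par` over `T` (helper294 #26826): the machine (1), CUT

`ff U E = |E : C_E(U)| |C_U(E)|`; `FFm H U` : the 2-subgroups `E` of `H` with `E / C_E(U)` elementary abelian, `[U, E] ≠ 1`,
`ff U E` maximal and then `|E : C_E(U)|` minimal.
-/

set_option autoImplicit false

namespace Cfsg.Agent.Omega.NOThreeL.RWide.ParT

open Subgroup Cfsg Cfsg.Agent.ZN.ChoiceBase
open scoped commutatorElement

universe u

variable {G : Type u} [Group G]

/-- `|E : C_E(U)| |C_U(E)|` -/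
noncomputable def ff (U E : Subgroup G) : ℕ :=
  (centralizer (U : Set G)).relIndex E * Nat.card (U ⊓ centralizer (E : Set G) : Subgroup G)

/-- a 2-subgroup of `H`, elementary abelian on `U` -/
structure IsE (H U E : Subgroup G) : Prop where
  le : E ≤ H
  two : IsPGroup 2 E
  sq : ∀ a ∈ E, a ^ 2 ∈ centralizer (U : Set G)
  com : ∀ a ∈ E, ∀ b ∈ E, a * b * a⁻¹ * b⁻¹ ∈ centralizer (U : Set G)

/-- the family -/
structure IsFFm (H U E : Subgroup G) : Prop extends IsE H U E where
  mv : ¬ E ≤ centralizer (U : Set G)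
  max : ∀ B : Subgroup G, IsE H U B → ff U B ≤ ff U E
  min : ∀ B : Subgroup G, IsE H U B → ¬ B ≤ centralizer (U : Set G) → ff U B = ff U E →
    (centralizer (U : Set G)).relIndex E ≤ (centralizer (U : Set G)).relIndex B

/-- the family as a set -/
def FFm (H U : Subgroup G) : Set (Subgroup G) := {E | IsFFm H U E}

theorem IsE.mono {H U E E₀ : Subgroup G} (h : IsE H U E) (h0 : E₀ ≤ E) : IsE H U E₀ :=
  ⟨h0.trans h.le, h.two.to_le h0, fun a ha => h.sq a (h0 ha), fun a ha b hb => h.com a (h0 ha) b (h0 hb)⟩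

theorem isE_bot (H U : Subgroup G) : IsE H U ⊥ :=
  ⟨bot_le, IsPGroup.of_bot, fun a ha => by rw [mem_bot.1 ha, one_pow]; exact one_mem _,
    fun a ha b hb => by rw [mem_bot.1 ha, mem_bot.1 hb]; simp⟩

theorem card_mul_relIndex' {H K : Subgroup G} (h : H ≤ K) :
    Nat.card H * H.relIndex K = Nat.card K := by
  rw [Subgroup.relIndex, ← Nat.card_congr (Subgroup.subgroupOfEquivOfLe h).toEquiv]
  exact Subgroup.card_mul_index _

theorem card_sup_mul' {K H : Subgroup G} (h' : H ≤ normalizer (K : Set G)) :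
    Nat.card (K ⊔ H : Subgroup G) * Nat.card (K ⊓ H : Subgroup G) = Nat.card K * Nat.card H := by
  have hKn : (K.subgroupOf (K ⊔ H)).Normal :=
    normal_subgroupOf_of_le_normalizer (sup_le le_normalizer h')
  have h1 := relIndex_sup_left (H.subgroupOf (K ⊔ H)) (K.subgroupOf (K ⊔ H))
  rw [← Subgroup.subgroupOf_sup le_sup_left le_sup_right, Subgroup.subgroupOf_self,
    Subgroup.relIndex_subgroupOf le_sup_right, relIndex_top_right] at h1
  have h2 : Nat.card K * K.relIndex H = Nat.card (K ⊔ H : Subgroup G) := by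
    rw [← h1]
    exact card_mul_relIndex' le_sup_left
  have h3 : Nat.card (K ⊓ H : Subgroup G) * K.relIndex H = Nat.card H := by
    rw [← inf_relIndex_right]
    exact card_mul_relIndex' inf_le_right
  rw [← h2, ← h3]
  ring

theorem relIndex_pos' [Finite G] (H K : Subgroup G) : 0 < H.relIndex K :=
  Nat.pos_of_ne_zero Subgroup.index_ne_zero_of_finite

theorem relIndex_cj [Finite G] (g : G) (H K : Subgroup G) : (cj g H).relIndex (cj g K) = H.relIndex K := by
  have h1 := card_mul_relIndex' (G := G) (H := cj g H ⊓ cj g K) (K := cj g K) inf_le_right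
  have h2 := card_mul_relIndex' (G := G) (H := H ⊓ K) (K := K) inf_le_right
  rw [inf_relIndex_right] at h1 h2
  rw [← cj_inf, card_cj, card_cj, ← h2] at h1
  exact Nat.eq_of_mul_eq_mul_left Nat.card_pos h1

theorem ff_cj [Finite G] (g : G) (U E : Subgroup G) : ff (cj g U) (cj g E) = ff U E := by
  unfold ff
  rw [← cj_centralizer, relIndex_cj, ← cj_centralizer, ← cj_inf, card_cj]

theorem IsE.cj {H U E : Subgroup G} {g : G} (h : IsE H U E) (hH : g ∈ H) (hU : g ∈ normalizer (U : Set G)) :
    IsE H U (cj g E) := by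
  have hc : g ∈ normalizer ((centralizer (U : Set G) : Subgroup G) : Set G) := by
    rw [mem_normalizer_iff_cj, cj_centralizer, cj_eq_of_mem_normalizer hU]
  refine ⟨?_, isPGroup_cj g h.two, ?_, ?_⟩
  · intro x hx
    have h1 := h.le (mem_cj.1 hx)
    have h2 := mul_mem (mul_mem hH h1) (inv_mem hH)
    have e : g * (g⁻¹ * x * g) * g⁻¹ = x := by group
    rwa [e] at h2
  · intro a ha
    have h1 := h.sq _ (mem_cj.1 ha)
    have h2 := (mem_normalizer_iff.1 hc _).1 h1
    have e : g * (g⁻¹ * a * g) ^ 2 * g⁻¹ = a ^ 2 := by rw [pow_two, pow_two]; group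
    rwa [e] at h2
  · intro a ha b hb
    have h1 := h.com _ (mem_cj.1 ha) _ (mem_cj.1 hb)
    have h2 := (mem_normalizer_iff.1 hc _).1 h1
    have e : g * ((g⁻¹ * a * g) * (g⁻¹ * b * g) * (g⁻¹ * a * g)⁻¹ * (g⁻¹ * b * g)⁻¹) * g⁻¹ = a * b * a⁻¹ * b⁻¹ := by
      group
    rwa [e] at h2

theorem IsFFm.cj [Finite G] {H U E : Subgroup G} {g : G} (h : IsFFm H U E) (hH : g ∈ H)
    (hU : g ∈ normalizer (U : Set G)) : IsFFm H U (cj g E) := by
  have eU : ZN.ChoiceBase.cj g U = U := cj_eq_of_mem_normalizer hU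
  have eC : ZN.ChoiceBase.cj g (centralizer (U : Set G)) = centralizer (U : Set G) := by
    rw [cj_centralizer, eU]
  have e1 : ff U (ZN.ChoiceBase.cj g E) = ff U E := by
    conv_lhs => rw [← eU]
    exact ff_cj g U E
  have e2 : (centralizer (U : Set G)).relIndex (ZN.ChoiceBase.cj g E) = (centralizer (U : Set G)).relIndex E := by
    conv_lhs => rw [← eC]
    exact relIndex_cj g _ _
  refine ⟨h.toIsE.cj hH hU, ?_, ?_, ?_⟩
  · intro h1
    apply h.mv
    have h2 := cj_mono g⁻¹ h1
    rw [cj_inv_cj] at h2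
    refine h2.trans ?_
    rw [← eC, cj_inv_cj]
    rw [eC]
  · intro B hB
    rw [e1]; exact h.max B hB
  · intro B hB hm he
    rw [e1] at he
    rw [e2]; exact h.min B hB hm he

theorem ff_of_le {U E : Subgroup G} (h : E ≤ centralizer (U : Set G)) : ff U E = Nat.card U := by
  unfold ff
  rw [relIndex_eq_one.2 h, one_mul, inf_eq_left.2 (le_centralizer_iff.1 h)]

/-- the family is not empty -/
theorem ffm_ne [Finite G] {H U A : Subgroup G} (hA : IsE H U A) (hm : ¬ A ≤ centralizer (U : Set G))
    (hf : Nat.card U ≤ ff U A) : ∃ E, E ∈ FFm H U := by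
  classical
  obtain ⟨B, hB, hBm⟩ := (Set.toFinite {B : Subgroup G | IsE H U B ∧ ¬ B ≤ centralizer (U : Set G)}).exists_maximalFor
    (fun B : Subgroup G => ff U B) _ ⟨A, hA, hm⟩
  have hBm' : ∀ C, IsE H U C → ff U C ≤ ff U B := by
    intro C hC
    by_cases h1 : C ≤ centralizer (U : Set G)
    · rw [ff_of_le h1]
      refine hf.trans ?_
      rcases le_total (ff U A) (ff U B) with h2 | h2
      · exact h2
      · exact hBm ⟨hA, hm⟩ h2
    · rcases le_total (ff U C) (ff U B) with h2 | h2
      · exact h2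
      · exact hBm ⟨hC, h1⟩ h2
  obtain ⟨E, hE, hEm⟩ := (Set.toFinite {E : Subgroup G | IsE H U E ∧ ¬ E ≤ centralizer (U : Set G) ∧
    ff U E = ff U B}).exists_minimalFor (fun E : Subgroup G => (centralizer (U : Set G)).relIndex E) _
      ⟨B, hB.1, hB.2, rfl⟩
  refine ⟨E, hE.1, hE.2.1, fun C hC => ?_, fun C hC hmC he => ?_⟩
  · rw [hE.2.2]; exact hBm' C hC
  · rcases le_total ((centralizer (U : Set G)).relIndex E) ((centralizer (U : Set G)).relIndex C) with h2 | h2
    · exact h2
    · exact hEm ⟨hC, hmC, he.trans hE.2.2⟩ h2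

/-- **CUT** -/
theorem IsFFm.cut [Finite G] {H U E X : Subgroup G} (h : IsFFm H U E) (ab : ∀ a ∈ U, ∀ b ∈ U, a * b = b * a)
    (hX : X ≤ U) (hr : (centralizer (X : Set G)).relIndex E ≤ (centralizer (E : Set G)).relIndex X) :
    E ≤ centralizer (X : Set G) ∨ (E ⊓ centralizer (X : Set G) ≤ centralizer (U : Set G) ∧
      U ≤ X ⊔ (U ⊓ centralizer (E : Set G)) ∧
      (centralizer (X : Set G)).relIndex E = (centralizer (E : Set G)).relIndex X ∧ ff U E = Nat.card U) := by
  set E₀ : Subgroup G := E ⊓ centralizer (X : Set G) with hE₀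
  set CE : Subgroup G := U ⊓ centralizer (E : Set G) with hCE
  have hC : centralizer (U : Set G) ≤ centralizer (X : Set G) := centralizer_le hX
  have hE0 : IsE H U E₀ := h.toIsE.mono inf_le_left
  -- |E : C_E(U)| = |E₀ : C(U)| |E : E₀|
  have i1 : (centralizer (U : Set G)).relIndex E =
      (centralizer (U : Set G)).relIndex E₀ * (centralizer (X : Set G)).relIndex E := by
    have h1 : E ⊓ centralizer (U : Set G) ≤ E₀ := inf_le_inf_left _ hC
    have h2 := relIndex_mul_relIndex (E ⊓ centralizer (U : Set G)) E₀ E h1 inf_le_left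
    rw [inf_relIndex_left, inf_relIndex_left] at h2
    rw [← h2]
    congr 1
    have h3 : E ⊓ centralizer (U : Set G) ⊓ E₀ = centralizer (U : Set G) ⊓ E₀ := by
      apply le_antisymm
      · exact inf_le_inf_right _ inf_le_right
      · exact le_inf (le_inf (inf_le_right.trans inf_le_left) inf_le_left) inf_le_right
    rw [← inf_relIndex_right, h3, inf_relIndex_right]
  -- |X C_U(E)|
  have hn : CE ≤ normalizer (X : Set G) := by
    intro c hc
    refine centralizer_le_normalizer _ (mem_centralizer_iff.2 fun x hx => ?_)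
    exact ab x (hX hx) c hc.1
  have i2 : Nat.card (X ⊔ CE : Subgroup G) = (centralizer (E : Set G)).relIndex X * Nat.card CE := by
    have h1 := card_sup_mul' hn
    have h2 : X ⊓ CE = centralizer (E : Set G) ⊓ X := by
      apply le_antisymm
      · exact le_inf (inf_le_right.trans inf_le_right) inf_le_left
      · exact le_inf inf_le_right (le_inf (inf_le_right.trans hX) inf_le_left)
    rw [h2] at h1
    have h3 := card_mul_relIndex' (H := centralizer (E : Set G) ⊓ X) (K := X) inf_le_right
    rw [inf_relIndex_right] at h3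
    rw [← h3] at h1
    have h4 : 0 < Nat.card (centralizer (E : Set G) ⊓ X : Subgroup G) := Nat.card_pos
    apply Nat.eq_of_mul_eq_mul_right h4
    rw [h1]; ring
  have i3 : X ⊔ CE ≤ U ⊓ centralizer (E₀ : Set G) := by
    refine sup_le (le_inf hX ?_) (le_inf inf_le_left ?_)
    · exact le_centralizer_iff.1 inf_le_right
    · exact inf_le_right.trans (centralizer_le inf_le_left)
  have i4 : Nat.card (X ⊔ CE : Subgroup G) ≤ Nat.card (U ⊓ centralizer (E₀ : Set G) : Subgroup G) :=
    Nat.card_le_card_of_injective _ (Subgroup.inclusion_injective i3)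
  have pU : 0 < (centralizer (U : Set G)).relIndex E₀ := relIndex_pos' _ _
  have pC : 0 < Nat.card CE := Nat.card_pos
  -- f(E₀) ≥ |E₀ : C(U)| |X : C_X(E)| |CE| ≥ f(E)
  have j1 : (centralizer (U : Set G)).relIndex E₀ * Nat.card (X ⊔ CE : Subgroup G) ≤ ff U E₀ :=
    Nat.mul_le_mul_left _ i4
  have j2 : ff U E ≤ (centralizer (U : Set G)).relIndex E₀ * Nat.card (X ⊔ CE : Subgroup G) := by
    unfold ff
    rw [i1, i2, mul_assoc]
    exact Nat.mul_le_mul_left _ (Nat.mul_le_mul_right _ hr)
  have j3 : ff U E₀ ≤ ff U E := h.max _ hE0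
  have j4 : ff U E₀ = ff U E := le_antisymm j3 (j2.trans j1)
  by_cases hE : E₀ ≤ centralizer (U : Set G)
  · right
    have k1 : (centralizer (U : Set G)).relIndex E₀ = 1 := relIndex_eq_one.2 hE
    have k2 : ff U E₀ = Nat.card U := ff_of_le hE
    have k3 : Nat.card (X ⊔ CE : Subgroup G) = Nat.card U := by
      apply le_antisymm
      · exact Nat.card_le_card_of_injective _ (Subgroup.inclusion_injective (sup_le hX inf_le_left))
      · rw [← k2, j4]
        rw [k1, one_mul] at j2
        exact j2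
    refine ⟨hE, ?_, ?_, j4.symm.trans k2⟩
    · have k4 : X ⊔ CE = U := Subgroup.eq_of_le_of_card_ge (sup_le hX inf_le_left) k3.ge
      exact k4.ge
    · have k5 : ff U E = (centralizer (X : Set G)).relIndex E * Nat.card CE := by
        unfold ff; rw [i1, k1, one_mul]
      have k6 : (centralizer (X : Set G)).relIndex E * Nat.card CE = (centralizer (E : Set G)).relIndex X * Nat.card CE := by
        rw [← k5, ← i2, k3, ← j4, k2]
      exact Nat.eq_of_mul_eq_mul_right pC k6
  · left
    have k1 := h.min _ hE0 hE j4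
    rw [i1] at k1
    have k2 : (centralizer (X : Set G)).relIndex E ≤ 1 := by
      by_contra hcon
      push Not at hcon
      have : (centralizer (U : Set G)).relIndex E₀ * 1 < (centralizer (U : Set G)).relIndex E₀ * (centralizer (X : Set G)).relIndex E :=
        Nat.mul_lt_mul_of_pos_left hcon pU
      omega
    have k3 : 0 < (centralizer (X : Set G)).relIndex E := relIndex_pos' _ _
    exact relIndex_eq_one.1 (by omega)

end Cfsg.Agent.Omega.NOThreeL.RWide.ParT
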