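import Cfsg.Agent.Omega.NOThreeL.RWide.ParT.EndA
import Cfsg.Agent.Omega.NOThreeL.RWide.PInO
import Cfsg.Agent.Omega.NOne.LemmaT

/-!
# `par` over `T`: the groups `H` and `U = ⟨(F j) ^ H⟩` over `Tf` (helper971 #26838, helper294 #26826)

`T = TT S N`, `F b = C_(l b)(T)`, `X_j = YY F j`, `Z₀ = ∏ F b` (`b ≠ j`), `T ≤ H ≤ X_j`, `U = XS (F j) H`.

* `Tf.cZ` : `H` centralises `Z₀`;  `Tf.zT` : `U ∩ C_G(T) ≤ F j Z₀`;
* `Tf.XS_le_zc` : `U ≤ Ω₁Z(O₂(X_j))`;  `Tf.UT`, `Tf.UO`, `Tf.Uel` : `U ≤ T`, `U ≤ O₂(C_G(Ω₁Z(T)))`, elementary abelian;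
* `Tf.Ugen`, `Tf.nU`, `Tf.VU`;
* `Tf.K_le`, `Tf.min` : `K = O₂(P) ≤ T`, the dichotomy for `P ∈ 𝒫(T)`;
* `Tf.A_best` : `A ∈ AA(O)` is best on `U`, `|U| ≤ |A : C_A(U)| |C_U(A)|`.
-/

set_option autoImplicit false
set_option linter.unusedSectionVars false

namespace Cfsg.Agent.Omega.NOThreeL.RWide.TAct

open Subgroup Cfsg Cfsg.Agent.Omega.MinPar
open Cfsg.Agent.ZN (zc o2 jj)
open Cfsg.Agent.ZN.ChoiceBase (cj cj_mono cj_inf cj_centralizer cj_eq_of_mem_normalizer mem_cj mem_normalizer_iff_cj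
  cj_cj_inv cj_inv_cj cj_cj cj_one mem_zc isPGroup_cj card_cj AA)
open Cfsg.Agent.MinSimple.MinParabolic (IsMinPar le_of_forall)
open Cfsg.Agent.MinSimple.VModule (zc_le normalizer_le_normalizer_zc le_centralizer_zc le_normalizer_o2 o2_isPGroup
  le_o2 o2_le o2_le_of_sylow)
open Cfsg.Agent.Omega.NoFF.Basic (comm_symm)
open Cfsg.Agent.Omega.NO1.BestOff (Best)
open Cfsg.Agent.Omega.NO3S.EThree.ExactA (eab_iff)

universe u v

variable {G : Type u} [Group G] {ι : Type v}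

/-- `∏ F b` (`b ≠ j`) -/
abbrev Z0 (F : ι → Subgroup G) (j : ι) : Subgroup G := ⨆ b : {b // b ≠ j}, F b

theorem YY_eq (F : ι → Subgroup G) (j : ι) : YY F j = centralizer (Z0 F j : Set G) := by
  refine le_antisymm ?_ (le_YY fun b hb => centralizer_le (le_iSup (fun b : {b // b ≠ j} => F b) ⟨b, hb⟩))
  exact comm_symm (iSup_le fun b => comm_symm (YY_le_cent b.2))

/-- `⨆ F b ≤ F j Z₀` -/
theorem iSup_le_Z0 (F : ι → Subgroup G) (j : ι) : (⨆ b, F b) ≤ F j ⊔ Z0 F j := by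
  refine iSup_le fun b => ?_
  by_cases hb : b = j
  · rw [hb]; exact le_sup_left
  · exact le_trans (le_iSup (fun b : {b // b ≠ j} => F b) ⟨b, hb⟩) le_sup_right

/-- `⟨F ^ H⟩ = ⨆ h : H, F ^ h` -/
theorem XS_gen (F H : Subgroup G) : XS F H ≤ ⨆ h : H, cj (h : G) F :=
  XS_le fun r hr a ha => (le_iSup (fun h : H => cj (h : G) F) ⟨r, hr⟩) ⟨a, ha, rfl⟩

namespace Tf

variable [Finite G] [Finite ι] [Nonempty ι] {S : Sylow 2 G} {V : Subgroup G} {N l : ι → Subgroup G} (h : Tf S V N l)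
include h

/-- `cZ` -/
theorem cZ {j : ι} {H : Subgroup G} (hH : H ≤ YY (FF (S : Subgroup G) N l) j) :
    H ≤ centralizer (Z0 (FF (S : Subgroup G) N l) j : Set G) := hH.trans (YY_eq _ _).le

theorem Z0_le_T (j : ι) : Z0 (FF (S : Subgroup G) N l) j ≤ TT (S : Subgroup G) N :=
  iSup_le fun b => (h.F_le b).trans (zc_le _)

theorem Z0_ne {j : ι} (ex : ∃ b, b ≠ j) : Z0 (FF (S : Subgroup G) N l) j ≠ ⊥ := by
  obtain ⟨b, hb⟩ := ex
  intro e
  apply h.ne b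
  rw [eq_bot_iff, ← e]
  exact le_iSup (fun b : {b // b ≠ j} => FF (S : Subgroup G) N l b) ⟨b, hb⟩

/-- `X_j` has characteristic 2 -/
theorem char2_YY (hc : IsCharacteristicTwoType G) {j : ι} (ex : ∃ b, b ≠ j) :
    YY (FF (S : Subgroup G) N l) j ⊓ centralizer (o2 (YY (FF (S : Subgroup G) N l) j) : Set G) ≤
      o2 (YY (FF (S : Subgroup G) N l) j) := by
  rw [YY_eq]
  exact Cfsg.Agent.Omega.NOne.LemmaT.char2_centralizer hc (h.T2.to_le (h.Z0_le_T j)) (h.Z0_ne ex)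

theorem o2_YY_le (j : ι) : o2 (YY (FF (S : Subgroup G) N l) j) ≤ TT (S : Subgroup G) N :=
  o2_le_of_sylow h.T2 (h.syl_YY j)

/-- `Ω₁Z(T) ≤ X_j` -/
theorem zcT_le_YY (j : ι) : zc (TT (S : Subgroup G) N) ≤ YY (FF (S : Subgroup G) N l) j :=
  (zc_le _).trans (h.T_le_YY j)

omit [Finite ι] [Nonempty ι] in
theorem T_le_C : TT (S : Subgroup G) N ≤ centralizer (zc (TT (S : Subgroup G) N) : Set G) := by
  intro t ht
  rw [mem_centralizer_iff]
  intro x hx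
  exact ((mem_zc.1 hx).2.2 t ht).symm

/-- `Ω₁Z(T) ≤ Ω₁Z(O₂(X_j))` -/
theorem zcT_le_zc (hc : IsCharacteristicTwoType G) {j : ι} (ex : ∃ b, b ≠ j) :
    zc (TT (S : Subgroup G) N) ≤ zc (o2 (YY (FF (S : Subgroup G) N l) j)) := by
  intro x hx
  obtain ⟨-, hx2, hxc⟩ := mem_zc.1 hx
  have h1 : x ∈ centralizer (o2 (YY (FF (S : Subgroup G) N l) j) : Set G) :=
    mem_centralizer_iff.2 fun y hy => hxc y (h.o2_YY_le j hy)
  exact mem_zc.2 ⟨h.char2_YY hc ex ⟨h.zcT_le_YY j hx, h1⟩, hx2, fun y hy => hxc y (h.o2_YY_le j hy)⟩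

/-- `⟨(F j)^H⟩ ≤ Ω₁Z(O₂(X_j))` -/
theorem XS_le_zc (hc : IsCharacteristicTwoType G) {j : ι} (ex : ∃ b, b ≠ j) {H : Subgroup G}
    (hH : H ≤ YY (FF (S : Subgroup G) N l) j) :
    XS (FF (S : Subgroup G) N l j) H ≤ zc (o2 (YY (FF (S : Subgroup G) N l) j)) :=
  XS_le_of ((h.F_le j).trans (h.zcT_le_zc hc ex))
    (hH.trans ((le_normalizer_o2 _).trans (normalizer_le_normalizer_zc _)))

/-- `U ≤ T` -/
theorem UT (hc : IsCharacteristicTwoType G) {j : ι} (ex : ∃ b, b ≠ j) {H : Subgroup G}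
    (hH : H ≤ YY (FF (S : Subgroup G) N l) j) : XS (FF (S : Subgroup G) N l j) H ≤ TT (S : Subgroup G) N :=
  (h.XS_le_zc hc ex hH).trans ((zc_le _).trans (h.o2_YY_le j))

/-- `O₂(X_j) ≤ O` -/
theorem o2_YY_le_O (j : ι) : o2 (YY (FF (S : Subgroup G) N l) j) ≤ OT (TT (S : Subgroup G) N) := by
  refine le_o2 ((h.o2_YY_le j).trans h.T_le_C) (o2_isPGroup _) ?_
  refine le_trans ?_ (le_normalizer_o2 _)
  exact le_YY fun b _ => centralizer_le (h.F_le b)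

/-- `U ≤ O` -/
theorem UO (hc : IsCharacteristicTwoType G) {j : ι} (ex : ∃ b, b ≠ j) {H : Subgroup G}
    (hH : H ≤ YY (FF (S : Subgroup G) N l) j) : XS (FF (S : Subgroup G) N l j) H ≤ OT (TT (S : Subgroup G) N) :=
  (h.XS_le_zc hc ex hH).trans ((zc_le _).trans (h.o2_YY_le_O j))

/-- `U` is elementary abelian -/
theorem Uel (hc : IsCharacteristicTwoType G) {j : ι} (ex : ∃ b, b ≠ j) {H : Subgroup G}
    (hH : H ≤ YY (FF (S : Subgroup G) N l) j) : IsElementaryAbelian 2 (XS (FF (S : Subgroup G) N l j) H) := by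
  refine eab_iff.2 ⟨fun x hx => mem_centralizer_iff.2 fun y hy => ?_, fun x hx => ?_⟩
  · have h1 := mem_zc.1 (h.XS_le_zc hc ex hH hx)
    exact h1.2.2 y (zc_le _ (h.XS_le_zc hc ex hH hy))
  · exact (mem_zc.1 (h.XS_le_zc hc ex hH hx)).2.1

/-- `U ∩ C_G(T) ≤ (F j) Z₀` -/
theorem zT (hc : IsCharacteristicTwoType G) {j : ι} (ex : ∃ b, b ≠ j) {H : Subgroup G}
    (hH : H ≤ YY (FF (S : Subgroup G) N l) j) :
    XS (FF (S : Subgroup G) N l j) H ⊓ centralizer (TT (S : Subgroup G) N : Set G) ≤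
      FF (S : Subgroup G) N l j ⊔ Z0 (FF (S : Subgroup G) N l) j := by
  rintro x ⟨hx, hxc⟩
  have h1 : x ∈ zc (TT (S : Subgroup G) N) :=
    mem_zc.2 ⟨h.UT hc ex hH hx, (mem_zc.1 (h.XS_le_zc hc ex hH hx)).2.1, fun y hy => mem_centralizer_iff.1 hxc y hy⟩
  exact iSup_le_Z0 _ j (h.zcT h1)

omit [Finite G] [Finite ι] [Nonempty ι] h in
/-- `V ≤ U` from `irr₁` -/
theorem VU_of {F V H X : Subgroup G} (hXH : X ≤ H) (hF : F ≠ ⊥)
    (irr : ∀ f ∈ F, f ≠ 1 → ∀ M : Subgroup G, (∀ x ∈ X, x * f * x⁻¹ * f⁻¹ ∈ M) → V ≤ M) : V ≤ XS F H := by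
  rw [Ne, Subgroup.eq_bot_iff_forall] at hF
  push Not at hF
  obtain ⟨f, hf, hf1⟩ := hF
  exact irr f hf hf1 _ fun x hx => mul_mem (conj_mem_XS (hXH hx) hf) (inv_mem (le_XS _ _ hf))

/-! ### a minimal parabolic -/

theorem K_le {j : ι} {P : Subgroup G} (hP : IsMinPar (TT (S : Subgroup G) N) P)
    (hPX : P ≤ YY (FF (S : Subgroup G) N l) j) : o2 P ≤ TT (S : Subgroup G) N :=
  o2_le_of_sylow h.T2 (h.syl_sub hP.le hPX)

/-- `P ∈ 𝒫(T)` -/
theorem min {j : ι} {P : Subgroup G} (hP : IsMinPar (TT (S : Subgroup G) N) P)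
    (hPX : P ≤ YY (FF (S : Subgroup G) N l) j) {M : Subgroup G} (hM : M ≤ P) (hMn : P ≤ normalizer (M : Set G)) :
    M ⊓ TT (S : Subgroup G) N ≤ o2 P ∨ P ≤ M ⊔ TT (S : Subgroup G) N := by
  rcases hP.sup_eq_or_inf_le h.T2 (h.syl_sub hP.le hPX) hM hMn with h1 | h1
  · exact Or.inr h1.ge
  · left
    exact (le_of_eq (inf_comm _ _)).trans h1

/-! ### offenders -/

/-- `A ∈ AA(O)` is best on `U` -/
theorem A_best (hc : IsCharacteristicTwoType G) {j : ι} (ex : ∃ b, b ≠ j) {H A : Subgroup G}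
    (hH : H ≤ YY (FF (S : Subgroup G) N l) j) (hA : A ∈ AA (OT (TT (S : Subgroup G) N))) :
    Best (XS (FF (S : Subgroup G) N l j) H) A := by
  have h1 := eab_iff.1 (h.Uel hc ex hH)
  exact best_of_AA hA (h.UO hc ex hH) (fun u hu v hv => (mem_centralizer_iff.1 (h1.1 hv) u hu))
    fun u hu => by rw [← pow_two]; exact h1.2 u hu

omit [Finite ι] [Nonempty ι] h in
/-- `|U| ≤ |A : C_A(U)| |C_U(A)|` for a best offender -/
theorem card_le_of_best {U A : Subgroup G} (hA : Best U A) :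
    Nat.card U ≤ (centralizer (U : Set G)).relIndex A * Nat.card ↥(U ⊓ centralizer (A : Set G)) := by
  have h1 := hA.max (A ⊓ centralizer (U : Set G)) inf_le_left le_rfl
  have e1 : U ⊓ centralizer ((A ⊓ centralizer (U : Set G) : Subgroup G) : Set G) = U :=
    inf_eq_left.2 (comm_symm inf_le_right)
  rw [e1] at h1
  have h2 : Nat.card ↥(A ⊓ centralizer (U : Set G)) * (centralizer (U : Set G)).relIndex A = Nat.card A := by
    rw [← inf_relIndex_left A (centralizer (U : Set G))]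
    have := relIndex_mul_relIndex (⊥ : Subgroup G) (A ⊓ centralizer (U : Set G)) A bot_le inf_le_left
    rwa [relIndex_bot_left, relIndex_bot_left] at this
  rw [← h2, mul_assoc] at h1
  exact Nat.le_of_mul_le_mul_left h1 Nat.card_pos

theorem card_U_le (hc : IsCharacteristicTwoType G) {j : ι} (ex : ∃ b, b ≠ j) {H A : Subgroup G}
    (hH : H ≤ YY (FF (S : Subgroup G) N l) j) (hA : A ∈ AA (OT (TT (S : Subgroup G) N))) :
    Nat.card ↥(XS (FF (S : Subgroup G) N l j) H) ≤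
      (centralizer (XS (FF (S : Subgroup G) N l j) H : Set G)).relIndex A *
        Nat.card ↥(XS (FF (S : Subgroup G) N l j) H ⊓ centralizer (A : Set G)) :=
  card_le_of_best (h.A_best hc ex hH hA)

theorem A_le_H {H A : Subgroup G} (hTH : TT (S : Subgroup G) N ≤ H) (j : ι)
    (hA : A ∈ AA (OT (TT (S : Subgroup G) N))) : A ≤ TT (S : Subgroup G) N ∧ A ≤ H := by
  have h1 : OT (TT (S : Subgroup G) N) ≤ TT (S : Subgroup G) N := by
    refine o2_le_of_sylow h.T2 fun h2 => h.syl_YY j ?_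
    rw [← relIndex_mul_relIndex _ (centralizer (zc (TT (S : Subgroup G) N) : Set G)) _ h.T_le_C
      (le_YY fun b _ => centralizer_le (h.F_le b))]
    exact h2.mul_right _
  exact ⟨hA.2.1.trans h1, (hA.2.1.trans h1).trans hTH⟩

end Tf

end Cfsg.Agent.Omega.NOThreeL.RWide.TAct
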