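import Cfsg.Agent.Omega.NOThreeL.RWide.ParT.SubK
import Cfsg.Agent.Omega.NOThreeL.RWide.ParT.CaseAB
import Cfsg.Agent.Omega.NOThreeL.RWide.ParA.OneSym
import Cfsg.Agent.Omega.NO3b.EZeroPair

/-!
# `par` over `T`, road M (helper294 #27307): the block of `X₂` in case (B)

* `IsFFm.offX` : a member of the family offends on every `X ≤ U` it moves;
* `Fe.inO` : a member `E ≤ T` which moves `V` and `W₀ = ⟨F ^ X₂⟩`: the input of 661's [O] at `U = Y = W₀`;
* `Fe.wb` : `X₂` has one natural block `W` with line `R` (`Wb`).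
-/

set_option autoImplicit false
set_option linter.unusedSectionVars false

namespace Cfsg.Agent.Omega.NOThreeL.RWide.ParT

open Subgroup Cfsg Cfsg.Agent.ZN Cfsg.Agent.ZN.ChoiceBase Cfsg.Agent.Omega.MinPar
open Cfsg.Agent.ZN.ChoiceSit (Syl)
open Cfsg.Agent.MinSimple.MinParabolic
open Cfsg.Agent.Omega.FFThm (ElemM OffM NoOverM NatKM SymKM ActsSL relIndex_le_iff)
open Cfsg.Agent.Omega.NO3S.SOne.NatD
open Cfsg.Agent.Omega.NOThreeL.SubFF (Sub)
open Cfsg.Agent.Lib.SL2Mat
open ParA SubK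
open scoped commutatorElement Pointwise

universe u

variable {G : Type u} [Group G]

/-- Complements in elementary abelian 2-groups. -/
theorem exists_cpl {Y : Type u} [Group Y] [Finite Y] {U N : Subgroup Y} (hc : ∀ a ∈ U, ∀ b ∈ U, a * b = b * a) (hsq : ∀ a ∈ U, a * a = 1)
    : ∃ B ≤ U, B ⊓ N = ⊥ ∧ ∀ u ∈ U, ∃ b ∈ B, ∃ n ∈ N, u = b * n := by
  classical
  obtain ⟨B, hB⟩ := (Set.toFinite {B : Subgroup Y | B ≤ U ∧ B ⊓ N = ⊥}).exists_maximal
    ⟨⊥, bot_le, bot_inf_eq N⟩
  obtain ⟨⟨hBU, hBN⟩, hmax⟩ := hB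
  refine ⟨B, hBU, hBN, fun u hu => ?_⟩
  by_contra hcon
  push Not at hcon
  have hu0 : u ∉ B := fun h1 => hcon u h1 1 (one_mem _) (mul_one u).symm
  let B' : Subgroup Y :=
    { carrier := {x | x ∈ B ∨ u * x ∈ B}
      mul_mem' := by
        rintro a b (ha | ha) (hb | hb)
        · exact Or.inl (mul_mem ha hb)
        · right
          have e : u * (a * b) = a * (u * b) := by
            rw [← mul_assoc, hc u hu a (hBU ha), mul_assoc]
          rw [e]
          exact mul_mem ha hb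
        · right
          rw [← mul_assoc]
          exact mul_mem ha hb
        · left
          have hbU : b ∈ U := by
            have := mul_mem hu (hBU hb)
            rwa [← mul_assoc, hsq u hu, one_mul] at this
          have haU : a ∈ U := by
            have := mul_mem hu (hBU ha)
            rwa [← mul_assoc, hsq u hu, one_mul] at this
          have e : a * b = u * a * (u * b) := by
            calc a * b = u * u * (a * b) := by rw [hsq u hu, one_mul]
              _ = u * (u * a) * b := by group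
              _ = u * (a * u) * b := by rw [hc u hu a haU]
              _ = _ := by group
          rw [e]
          exact mul_mem ha hb
      one_mem' := Or.inl (one_mem _)
      inv_mem' := by
        rintro a (ha | ha)
        · exact Or.inl (inv_mem ha)
        · right
          have haU : a ∈ U := by
            have := mul_mem hu (hBU ha)
            rwa [← mul_assoc, hsq u hu, one_mul] at this
          have h1 : a⁻¹ = a := inv_eq_of_mul_eq_one_left (hsq a haU)
          rw [h1]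
          exact ha }
  have h1 : B ≤ B' := fun x hx => Or.inl hx
  have h2 : B' ≤ U := by
    rintro x (hx | hx)
    · exact hBU hx
    · have := mul_mem hu (hBU hx)
      rwa [← mul_assoc, hsq u hu, one_mul] at this
  have h3 : B' ⊓ N = ⊥ := by
    rw [eq_bot_iff]
    rintro x ⟨hx, hxN⟩
    rcases hx with hx | hx
    · rw [← hBN]; exact ⟨hx, hxN⟩
    · exfalso
      refine hcon _ hx x⁻¹ (inv_mem hxN) ?_
      group
  have h4 : B' ≤ B := hmax ⟨h2, h3⟩ h1
  exact hu0 (h4 (Or.inr (by rw [hsq u hu]; exact one_mem _)))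

/-- a member of the family offends on every `X ≤ U` it moves -/
theorem IsFFm.offX [Finite G] {H U E X : Subgroup G} (h : IsFFm H U E) (ab : ∀ a ∈ U, ∀ b ∈ U, a * b = b * a)
    (hX : X ≤ U) (hm : ¬ E ≤ centralizer (X : Set G)) : OffM X E := by
  have hC : centralizer (U : Set G) ≤ centralizer (X : Set G) := centralizer_le hX
  refine ⟨⟨fun a ha => hC (h.sq a ha), fun a ha b hb => hC (h.com a ha b hb)⟩, hm, relIndex_le_iff.2 ?_⟩
  by_contra hcon
  push Not at hcon
  rcases h.cut ab hX hcon.le with h1 | ⟨-, -, h3, -⟩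
  · exact hm h1
  · omega

/-- `Y = X C_Y(E)` ⟹ `|X : C_X(E)| = |Y : C_Y(E)|` -/
theorem rel_eq_of_le_sup [Finite G] {X Y E : Subgroup G} (ab : ∀ a ∈ Y, ∀ b ∈ Y, a * b = b * a) (hX : X ≤ Y)
    (h : Y ≤ X ⊔ (Y ⊓ centralizer (E : Set G))) :
    (centralizer (E : Set G)).relIndex X = (centralizer (E : Set G)).relIndex Y := by
  have hn : Y ⊓ centralizer (E : Set G) ≤ normalizer (X : Set G) := by
    intro c hc
    refine centralizer_le_normalizer _ (mem_centralizer_iff.2 fun y hy => ?_)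
    exact ab y (hX hy) c hc.1
  have b1 := card_sup_mul' hn
  rw [le_antisymm (sup_le hX inf_le_left) h, ← inf_assoc, inf_eq_left.2 hX] at b1
  have b2 := card_mul_relIndex' (H := centralizer (E : Set G) ⊓ X) (K := X) inf_le_right
  rw [inf_relIndex_right, inf_comm] at b2
  have b3 := card_mul_relIndex' (H := centralizer (E : Set G) ⊓ Y) (K := Y) inf_le_right
  rw [inf_relIndex_right, inf_comm] at b3
  have p1 : 0 < Nat.card (X ⊓ centralizer (E : Set G) : Subgroup G) := Nat.card_pos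
  have p2 : 0 < Nat.card (Y ⊓ centralizer (E : Set G) : Subgroup G) := Nat.card_pos
  refine Nat.eq_of_mul_eq_mul_left (Nat.mul_pos p1 p2) ?_
  calc Nat.card (X ⊓ centralizer (E : Set G) : Subgroup G) * Nat.card (Y ⊓ centralizer (E : Set G) : Subgroup G) *
        (centralizer (E : Set G)).relIndex X
      = (Nat.card (X ⊓ centralizer (E : Set G) : Subgroup G) * (centralizer (E : Set G)).relIndex X) *
        Nat.card (Y ⊓ centralizer (E : Set G) : Subgroup G) := by ring
    _ = Nat.card Y * Nat.card (X ⊓ centralizer (E : Set G) : Subgroup G) := by rw [b2, ← b1]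
    _ = _ := by rw [← b3]; ring

/-- `[a, u c] = [a, u]` -/
theorem cm_mul {U : Subgroup G} (ab : ∀ a ∈ U, ∀ b ∈ U, a * b = b * a) {a u c : G} (ha : a * u * a⁻¹ ∈ U)
    (hc : c ∈ U) (hac : a * c = c * a) : a * (u * c) * a⁻¹ * (u * c)⁻¹ = a * u * a⁻¹ * u⁻¹ := by
  have h2 : c * (a * u * a⁻¹) = a * u * a⁻¹ * c := ab _ hc _ ha
  calc a * (u * c) * a⁻¹ * (u * c)⁻¹ = a * u * (c * a⁻¹) * c⁻¹ * u⁻¹ := by group
    _ = a * u * (a⁻¹ * c) * c⁻¹ * u⁻¹ := by
        rw [show c * a⁻¹ = a⁻¹ * (a * c) * a⁻¹ by group, hac]; group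
    _ = a * u * a⁻¹ * u⁻¹ := by group

/-- `[e, v]` as a homomorphism onto `R`: its kernel is `C_E(W)` if `|E : C_E(W)| ≤ |R|` -/
theorem cent_of_full [Finite G] {E R W : Subgroup G} {v : G} (RE : R ≤ centralizer (E : Set G)) (hvW : v ∈ W)
    (hR : ∀ e ∈ E, e * v * e⁻¹ * v⁻¹ ∈ R) (ab : ∀ a ∈ R, ∀ b ∈ R, a * b = b * a)
    (sur : ∀ r ∈ R, ∃ e ∈ E, e * v * e⁻¹ * v⁻¹ = r)
    (idx : (centralizer (W : Set G)).relIndex E ≤ Nat.card R) :
    ∀ a ∈ E, a * v = v * a → a ∈ centralizer (W : Set G) := by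
  let φ : E →* R :=
    { toFun := fun e => ⟨e * v * (e : G)⁻¹ * v⁻¹, hR e e.2⟩
      map_one' := Subtype.ext (by simp)
      map_mul' := fun a b => Subtype.ext (by
        show (a * b : G) * v * (a * b : G)⁻¹ * v⁻¹ = a * v * (a : G)⁻¹ * v⁻¹ * (b * v * (b : G)⁻¹ * v⁻¹)
        have h1 : (a : G) * (b * v * (b : G)⁻¹ * v⁻¹) = (b * v * (b : G)⁻¹ * v⁻¹) * a :=
          mem_centralizer_iff.1 (RE (hR b b.2)) a a.2
        calc (a * b : G) * v * (a * b : G)⁻¹ * v⁻¹
            = a * (b * v * (b : G)⁻¹ * v⁻¹) * (v * (a : G)⁻¹ * v⁻¹) := by group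
          _ = (b * v * (b : G)⁻¹ * v⁻¹) * (a * v * (a : G)⁻¹ * v⁻¹) := by rw [h1]; group
          _ = _ := ab _ (hR b b.2) _ (hR a a.2)) }
  have hφ : Function.Surjective φ := by
    rintro ⟨r, hr⟩
    obtain ⟨e, he, h1⟩ := sur r hr
    exact ⟨⟨e, he⟩, Subtype.ext h1⟩
  have h1 : φ.ker.index = Nat.card R := by
    rw [index_ker, MonoidHom.range_eq_top.2 hφ, Nat.card_congr (Subgroup.topEquiv (G := R)).toEquiv]
  have h2 : (centralizer (W : Set G)).subgroupOf E ≤ φ.ker := by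
    intro e he
    rw [MonoidHom.mem_ker]
    refine Subtype.ext ?_
    show (e : G) * v * (e : G)⁻¹ * v⁻¹ = 1
    have h3 : v * (e : G) = e * v := mem_centralizer_iff.1 (mem_subgroupOf.1 he) v hvW
    rw [← h3]; group
  have h3 : (centralizer (W : Set G)).subgroupOf E = φ.ker := by
    refine le_antisymm h2 ?_
    have h4 := relIndex_mul_index h2
    have h5 : ((centralizer (W : Set G)).subgroupOf E).index ≤ φ.ker.index := by rw [h1]; exact idx
    have h6 : 0 < φ.ker.index := Nat.pos_of_ne_zero index_ne_zero_of_finite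
    rw [← relIndex_eq_one]
    have h7 : 0 < ((centralizer (W : Set G)).subgroupOf E).relIndex φ.ker := relIndex_pos' _ _
    by_contra hcon
    have h8 : 2 ≤ ((centralizer (W : Set G)).subgroupOf E).relIndex φ.ker := by omega
    have h9 : 2 * φ.ker.index ≤ ((centralizer (W : Set G)).subgroupOf E).relIndex φ.ker * φ.ker.index :=
      Nat.mul_le_mul_right _ h8
    omega
  intro a ha hav
  have h4 : (⟨a, ha⟩ : E) ∈ φ.ker := by
    rw [MonoidHom.mem_ker]
    refine Subtype.ext ?_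
    show a * v * a⁻¹ * v⁻¹ = 1
    rw [hav]; group
  rw [← h3] at h4
  exact mem_subgroupOf.1 h4

/-- `v ↦ [a, v]` maps `V'` onto `R` if its kernel is in `R` and `|V' : R| ≥ |R|` -/
theorem sur_of_ker [Finite G] {V' R : Subgroup G} {a : G} (ab : ∀ x ∈ V', ∀ y ∈ V', x * y = y * x)
    (hR : ∀ v ∈ V', a * v * a⁻¹ * v⁻¹ ∈ R) (haV : ∀ v ∈ V', a * v * a⁻¹ ∈ V')
    (ker : ∀ v ∈ V', a * v = v * a → v ∈ R) (idx : Nat.card R ≤ R.relIndex V') :
    ∀ r ∈ R, ∃ v ∈ V', a * v * a⁻¹ * v⁻¹ = r := by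
  let φ : V' →* R :=
    { toFun := fun v => ⟨a * v * a⁻¹ * (v : G)⁻¹, hR v v.2⟩
      map_one' := Subtype.ext (by simp)
      map_mul' := fun x y => Subtype.ext (by
        show a * (x * y : G) * a⁻¹ * (x * y : G)⁻¹ = a * x * a⁻¹ * (x : G)⁻¹ * (a * y * a⁻¹ * (y : G)⁻¹)
        have h1 : (x : G)⁻¹ * (a * y * a⁻¹) = (a * y * a⁻¹) * (x : G)⁻¹ :=
          ab _ (inv_mem x.2) _ (haV y y.2)
        have h2 : (y : G)⁻¹ * (x : G)⁻¹ = (x : G)⁻¹ * (y : G)⁻¹ := ab _ (inv_mem y.2) _ (inv_mem x.2)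
        calc a * (x * y : G) * a⁻¹ * (x * y : G)⁻¹ = a * x * a⁻¹ * (a * y * a⁻¹) * ((y : G)⁻¹ * (x : G)⁻¹) := by group
          _ = a * x * a⁻¹ * ((a * y * a⁻¹) * (x : G)⁻¹) * (y : G)⁻¹ := by rw [h2]; group
          _ = _ := by rw [← h1]; group) }
  have h1 : φ.ker ≤ R.subgroupOf V' := by
    intro v hv
    rw [MonoidHom.mem_ker] at hv
    have h2 : a * v * a⁻¹ * (v : G)⁻¹ = 1 := congrArg Subtype.val hv
    have h3 : a * v = v * a := by
      have h4 : a * v * a⁻¹ = v := mul_inv_eq_one.1 h2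
      exact mul_inv_eq_iff_eq_mul.1 h4
    exact mem_subgroupOf.2 (ker v v.2 h3)
  have h2 : Nat.card φ.range = φ.ker.index := (index_ker φ).symm
  have h3 : R.relIndex V' ≤ φ.ker.index := by
    have h4 := relIndex_mul_index h1
    have h5 : 0 < φ.ker.relIndex (R.subgroupOf V') := relIndex_pos' _ _
    calc R.relIndex V' = 1 * (R.subgroupOf V').index := by rw [one_mul]; rfl
      _ ≤ φ.ker.relIndex (R.subgroupOf V') * (R.subgroupOf V').index := Nat.mul_le_mul_right _ h5
      _ = _ := h4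
  have h4 : φ.range = ⊤ := by
    refine Subgroup.eq_top_of_le_card _ ?_
    rw [h2]
    exact idx.trans h3
  intro r hr
  have h5 : (⟨r, hr⟩ : R) ∈ φ.range := by rw [h4]; exact mem_top _
  obtain ⟨v, hv⟩ := h5
  exact ⟨v, v.2, congrArg Subtype.val hv⟩

namespace Fe

variable {T X₁ X₂ K₁ K₂ U V R F Z₀ : Subgroup G} {q : ℕ} (h : Fe T X₁ X₂ K₁ K₂ U V R F Z₀ q)
include h

/-- **the input of [O]** -/
theorem inO [Finite G] {E W₀ D : Subgroup G} (hE : IsFFm (X₁ ⊔ X₂) U E) (ET : E ≤ T)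
    (EV : ¬ E ≤ centralizer (V : Set G)) (amb : AmbD T X₂ W₀ D) (WU : W₀ ≤ U)
    (EW : ¬ E ≤ centralizer (W₀ : Set G)) (no : NoOverM W₀ X₂) (nD : ¬ R ≤ D) :
    ∃ V', InO T X₂ W₀ D E V' R W₀ := by
  obtain ⟨f0, a2, a3, a4, a5, a6, -⟩ := h.cutV hE ET EV
  have off : OffM W₀ E := hE.offX h.ab WU EW
  have EX : E ≤ X₂ := ET.trans h.TX₂
  have ex : (centralizer (W₀ : Set G)).relIndex E ≤ (centralizer (E : Set G)).relIndex W₀ :=
    relIndex_le_iff.1 (no E EX off.toElemM)
  rcases hE.cut h.ab WU ex with h1 | ⟨c1, c2, c3, -⟩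
  · exact absurd h1 EW
  have RE : R ≤ centralizer (E : Set G) := by rw [← a3]; exact inf_le_right
  have hcU : ∀ a ∈ E, ∀ u ∈ U, a * u * a⁻¹ ∈ U := fun a ha u hu => (mem_normalizer_iff.1 (h.nU₂ (EX ha)) u).1 hu
  have hcW : ∀ a ∈ E, ∀ u ∈ W₀, a * u * a⁻¹ ∈ W₀ := fun a ha u hu => (mem_normalizer_iff.1 (amb.PV (EX ha)) u).1 hu
  -- decompositions
  have dec : ∀ X : Subgroup G, X ≤ U → U ≤ X ⊔ (U ⊓ centralizer (E : Set G)) → ∀ u ∈ U, ∃ x ∈ X,
      ∃ c ∈ U ⊓ centralizer (E : Set G), x * c = u := by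
    intro X hX hs u hu
    have hXn : X ≤ normalizer ((U ⊓ centralizer (E : Set G) : Subgroup G) : Set G) := by
      intro c hc
      refine centralizer_le_normalizer _ (mem_centralizer_iff.2 fun y hy => ?_)
      exact h.ab y hy.1 c (hX hc)
    have h5 : u ∈ (X : Set G) * ((U ⊓ centralizer (E : Set G) : Subgroup G) : Set G) := by
      rw [← Subgroup.coe_mul_of_left_le_normalizer_right _ _ hXn]
      exact hs hu
    obtain ⟨x, hx, c, hc, e⟩ := h5
    exact ⟨x, hx, c, hc, e⟩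
  -- `U = V C_U(E)`
  have hVs : U ≤ V ⊔ (U ⊓ centralizer (E : Set G)) := by
    have hV := h.VU
    have hCC : centralizer (U : Set G) ≤ centralizer (V : Set G) := centralizer_le h.VU
    obtain ⟨o1, -⟩ := h.offV E ET (fun a ha => hCC (hE.sq a ha)) (fun a ha b hb => hCC (hE.com a ha b hb))
    rcases hE.cut h.ab h.VU o1 with h1 | ⟨-, h2, -, -⟩
    · exact absurd h1 EV
    · exact h2
  -- a vector moved by `E` is full
  have full : ∀ u ∈ U, u ∉ centralizer (E : Set G) → ∀ r ∈ R, ∃ a ∈ E, a * u * a⁻¹ * u⁻¹ = r := by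
    intro u hu huE r hr
    obtain ⟨v, hv, c, hc, rfl⟩ := dec V h.VU hVs u hu
    have hvR : v ∉ R := fun h1 => huE (mul_mem (RE h1) hc.2)
    obtain ⟨a, ha, har⟩ := (a5 v hv hvR).2 r hr
    refine ⟨a, ha, ?_⟩
    rw [cm_mul h.ab (hcU a ha v (h.VU hv)) hc.1 (mem_centralizer_iff.1 hc.2 a ha)]
    exact har
  -- `R ≤ W₀`
  have RW : R ≤ W₀ := by
    obtain ⟨w, hw, hwE⟩ : ∃ w ∈ W₀, w ∉ centralizer (E : Set G) := by
      by_contra hcon
      push Not at hcon
      exact EW (le_centralizer_iff.1 hcon)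
    intro r hr
    obtain ⟨a, ha, rfl⟩ := full w (WU hw) hwE r hr
    exact mul_mem (hcW a ha w hw) (inv_mem hw)
  -- the complement
  obtain ⟨B, hBW, hBN, hBs⟩ := exists_cpl (U := W₀) (N := W₀ ⊓ centralizer (E : Set G))
    amb.ab amb.sq
  have hRB : R ≤ centralizer (B : Set G) := fun r hr => mem_centralizer_iff.2 fun b hb => amb.ab b (hBW hb) r (RW hr)
  set V' : Subgroup G := B ⊔ R with hV'
  have VW : V' ≤ W₀ := sup_le hBW RW
  have memV : ∀ v ∈ V', ∃ b ∈ B, ∃ r ∈ R, v = b * r := by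
    intro v hv
    have h5 : (v : G) ∈ ((B ⊔ R : Subgroup G) : Set G) := hv
    rw [Cfsg.Agent.PLocal.ElemAbSup.coe_sup_of_le_centralizer hRB] at h5
    obtain ⟨b, hb, r, hr, e⟩ := Set.mem_mul.1 h5
    exact ⟨b, hb, r, hr, e.symm⟩
  have VC : V' ⊓ centralizer (E : Set G) = R := by
    refine le_antisymm ?_ (le_inf le_sup_right RE)
    rintro v ⟨hv, hvE⟩
    obtain ⟨b, hb, r, hr, rfl⟩ := memV v hv
    have h1 : b ∈ centralizer (E : Set G) := by
      have h0 : b * r * r⁻¹ ∈ centralizer (E : Set G) :=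
        (centralizer (E : Set G)).mul_mem hvE ((centralizer (E : Set G)).inv_mem (RE hr))
      rwa [mul_inv_cancel_right] at h0
    have h2 : b ∈ B ⊓ (W₀ ⊓ centralizer (E : Set G)) := ⟨hb, hBW hb, h1⟩
    rw [hBN, mem_bot] at h2
    rw [h2, one_mul]; exact hr
  have Ws : W₀ ≤ V' ⊔ (W₀ ⊓ centralizer (E : Set G)) := by
    intro w hw
    obtain ⟨b, hb, n, hn, rfl⟩ := hBs w hw
    exact mul_mem (mem_sup_left (mem_sup_left hb)) (mem_sup_right hn)
  -- indices
  have i1 : (centralizer (E : Set G)).relIndex W₀ = q := (rel_eq_of_le_sup h.ab WU c2).trans a2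
  have i2 : (centralizer (E : Set G)).relIndex V' = q := (rel_eq_of_le_sup amb.ab VW Ws).trans i1
  have i3 : R.relIndex V' = q := by
    rw [← i2, ← VC, inf_comm, inf_relIndex_right]
  have i4 : (centralizer (W₀ : Set G)).relIndex E = q := c3.trans i1
  have notR : ∀ v ∈ V', v ∉ R → v ∉ centralizer (E : Set G) := fun v hv hvR h1 => hvR (VC ▸ ⟨hv, h1⟩)
  have vA : ∀ v ∈ V', v ∉ R → ∀ r ∈ R, ∃ a ∈ E, a * v * a⁻¹ * v⁻¹ = r := fun v hv hvR =>
    full v (WU (VW hv)) (notR v hv hvR)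
  have AV : ∀ a ∈ E, ∀ v ∈ V', a * v * a⁻¹ * v⁻¹ ∈ R := fun a ha v hv => a6 v (WU (VW hv)) a ha
  have key : ∀ v ∈ V', v ∉ R → ∀ a ∈ E, a * v = v * a → a ∈ centralizer (W₀ : Set G) := fun v hv hvR =>
    cent_of_full RE (VW hv) (fun e he => AV e he v hv) (fun a ha b hb => amb.ab a (RW ha) b (RW hb)) (vA v hv hvR)
      (by rw [i4, h.cardR])
  refine ⟨V', ?_⟩
  exact
    { amb := amb
      AT := ET
      off := off
      ex := ex
      ab := amb.ab
      sq := amb.sq
      UY := le_rfl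
      VY := VW
      PY := amb.PV
      QY := fun g _ hg => hg
      th := relIndex_le_iff.1 off.le
      RV := le_sup_right
      VR := by
        intro h1
        have h2 : V' = R := le_antisymm h1 le_sup_right
        have h3 : R.relIndex V' = 1 := by rw [h2]; exact relIndex_self R
        have := h.q2
        omega
      RT := h.TR
      RA := RE
      AV := AV
      vA := vA
      aV := by
        intro a ha haV
        have hav : ∀ v ∈ V', a * v * a⁻¹ ∈ V' := by
          intro v hv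
          have h1 := mul_mem ((le_sup_right : R ≤ V') (AV a ha v hv)) hv
          rwa [inv_mul_cancel_right] at h1
        refine sur_of_ker (V' := V') (fun x hx y hy => amb.ab x (VW hx) y (VW hy)) (AV a ha) hav ?_
          (by rw [i3, h.cardR])
        intro v hv hva
        by_contra hvR
        exact haV (centralizer_le (by exact_mod_cast VW) (key v hv hvR a ha hva))
      card := by
        have h1 : (centralizer (V' : Set G)).relIndex E ≤ (centralizer (W₀ : Set G)).relIndex E :=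
          Nat.le_of_dvd (relIndex_pos' _ _) (relIndex_dvd_of_le_left _ (centralizer_le (by exact_mod_cast VW)))
        rw [i2, ← i4]
        exact h1
      nD := nD }

/-- **`Wb`** -/
theorem wb [Finite G] (syl : Syl T X₂) (min : IsMinPar T X₂) (hK : K₂ = o2 X₂)
    (mv : ¬ X₂ ≤ centralizer (F : Set G)) {E : Subgroup G} (hE : IsFFm (X₁ ⊔ X₂) U E) (ET : E ≤ T)
    (EV : ¬ E ≤ centralizer (V : Set G)) (EK : ¬ E ≤ K₂) :
    ∃ W, Wb (X₁ ⊔ X₂) T X₂ K₂ U R F W q := by
  have FU : F ≤ U := h.FR.trans (h.RV.trans h.VU)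
  have sq : ∀ a ∈ U, a * a = 1 := fun a ha => by rw [← pow_two]; exact h.sq a ha
  have s : Sub T X₂ (VF F X₂) := sub_of syl min h.ab sq h.nU₂ FU h.TF (hK ▸ h.KT₂) mv
  set W₀ := VF F X₂ with hW₀
  have WU : W₀ ≤ U := VF_le FU h.nU₂
  have FW : F ≤ W₀ := F_le_VF F X₂
  have cen : ∀ A ≤ T, A ≤ centralizer (W₀ : Set G) → A ≤ K₂ := fun A hA hc => by
    rw [hK]; exact (le_inf hA hc).trans (inf_le_o2 syl min h.TF mv FW s.norm)
  have EW : ¬ E ≤ centralizer (W₀ : Set G) := fun h1 => EK (cen E ET h1)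
  have off : OffM W₀ E := hE.offX h.ab WU EW
  obtain ⟨no, amb, hcase⟩ := SubK.ff s (ET.trans h.TX₂) off
  have nD : ¬ R ≤ DV W₀ X₂ := by
    intro h1
    apply mv
    rw [← NO3b.EZero.oddGen_sup_syl syl]
    refine sup_le ?_ h.TF
    rw [le_centralizer_iff]
    exact (h.FR.trans h1).trans inf_le_right
  obtain ⟨V', io⟩ := h.inO hE ET EV amb WU EW no nD
  rcases hcase with ⟨Fi, i1, i2, i3, k, hk, ⟨M⟩⟩ | ⟨k, m, hk, hm, ⟨M⟩⟩
  · obtain ⟨hk1, i, o⟩ := io.one M
    subst hk1
    have hi : i = 0 := Subsingleton.elim _ _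
    subst hi
    obtain ⟨W, K, x, out⟩ := io.out o syl
    refine ⟨W, ?_⟩
    have FWb : F ≤ W := h.FR.trans out.RW
    refine
      { WU := out.WU.trans WU
        RW := out.RW
        nW := out.PW
        cW := by rw [out.card_W, h.cardR]
        trW := fun f hf hf1 w hw hw1 => by
          obtain ⟨g, hg, e⟩ := out.trW f (FWb hf) hf1 w hw hw1
          exact ⟨g, out.KP hg, e⟩
        cK₂ := by
          rw [hK]
          exact s.o2.trans (centralizer_le out.WU)
        mK₂ := by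
          rw [hK]
          exact inf_le_o2 syl min h.TF mv FWb out.PW
        mv₂ := ?_ }
    intro E' hE' ET' EK'
    have EW' : ¬ E' ≤ centralizer (W₀ : Set G) := fun h1 => EK' (cen E' ET' h1)
    have off' := hE'.offX h.ab WU EW'
    obtain ⟨I, j1, j2⟩ := M.offM E' ET' off'
    have hI : (0 : Fin 1) ∈ I := by
      by_contra h0
      apply EW'
      intro a ha
      obtain ⟨b, hb, hab⟩ := j1 a ha
      have e : (fun i => up (b i) : Fin 1 → Matrix.SpecialLinearGroup (Fin 2) Fi) = 1 := by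
        funext i
        rw [Subsingleton.elim i 0, hb 0 h0]
        exact up_zero
      rw [e] at hab
      exact cent_of_act (M := M) amb (h.TX₂ (ET' ha)) hab
    obtain ⟨u, hu, -, f1, -⟩ := io.exists_u
    intro r hr
    obtain ⟨a, ha, har⟩ := f1 r hr
    obtain ⟨c, hc⟩ := o.acts a ha
    obtain ⟨a', ha', hac'⟩ := j2 (fun _ => c) (fun i hi => absurd (by rwa [Subsingleton.elim i 0]) hi)
    rw [InO.one_eq] at hc
    have e2 := conj_eq (M := M) amb (h.TX₂ (ET ha)) (h.TX₂ (ET' ha')) hc hac' hu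
    rw [← har, e2]
    have e3 : a' * u * a'⁻¹ * u⁻¹ = ⁅a', u⁆ := (commutatorElement_def _ _).symm
    rw [e3, commutator_comm]
    exact commutator_mem_commutator ha' (WU hu)
  · exact (io.no_sym M hm syl).elim

end Fe

end Cfsg.Agent.Omega.NOThreeL.RWide.ParT
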