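import Cfsg.Agent.Omega.NOThreeL.RWide.ParT.Passive
import Cfsg.Agent.Omega.NOThreeL.RWide.ParT.Wb

/-!
# `par` over `T`, passive case (helper294 #27918): the hypotheses on `W = ⟨F ^ X₂⟩`

* `Fe.noW` : no member of the family over-offends on `W`;
* `Fe.passiveW` : `Fe.passive` at `W = ⟨F ^ X₂⟩` for a minimal parabolic `X₂` over its Sylow group `T`.
-/

set_option autoImplicit false
set_option linter.unusedSectionVars false

namespace Cfsg.Agent.Omega.NOThreeL.RWide.ParT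

open Subgroup Cfsg Cfsg.Agent.ZN Cfsg.Agent.ZN.ChoiceBase Cfsg.Agent.Omega.MinPar
open Cfsg.Agent.ZN.ChoiceSit (Syl)
open Cfsg.Agent.MinSimple.MinParabolic
open Cfsg.Agent.Omega.FFThm (ElemM OffM NoOverM relIndex_le_iff)
open Cfsg.Agent.Omega.NOThreeL.SubFF (Sub)
open SubK
open scoped commutatorElement Pointwise

universe u

variable {G : Type u} [Group G]

namespace Fe

variable {T X₁ X₂ K₁ K₂ U V R F Z₀ : Subgroup G} {q : ℕ} (h : Fe T X₁ X₂ K₁ K₂ U V R F Z₀ q)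
include h

theorem sub [Finite G] (syl : Syl T X₂) (min : IsMinPar T X₂) (hK : K₂ = o2 X₂) (mv : ¬ X₂ ≤ centralizer (F : Set G)) :
    Sub T X₂ (VF F X₂) :=
  sub_of syl min h.ab (fun a ha => by rw [← pow_two]; exact h.sq a ha) h.nU₂ (h.FR.trans (h.RV.trans h.VU)) h.TF
    (hK ▸ h.KT₂) mv

/-- no member of the family over-offends on `W = ⟨F ^ X₂⟩` -/
theorem noW [Finite G] (syl : Syl T X₂) (min : IsMinPar T X₂) (hK : K₂ = o2 X₂)
    (mv : ¬ X₂ ≤ centralizer (F : Set G)) {E : Subgroup G} (hE : IsFFm (X₁ ⊔ X₂) U E) (ET : E ≤ T) :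
    (centralizer (VF F X₂ : Set G)).relIndex E ≤ (centralizer (E : Set G)).relIndex (VF F X₂) := by
  by_cases hm : E ≤ centralizer (VF F X₂ : Set G)
  · rw [relIndex_eq_one.2 hm]
    exact relIndex_pos' _ _
  · have off := hE.offX h.ab (VF_le (h.FR.trans (h.RV.trans h.VU)) h.nU₂) hm
    obtain ⟨no, -, -⟩ := SubK.ff (h.sub syl min hK mv) (ET.trans h.TX₂) off
    exact relIndex_le_iff.1 (no E (ET.trans h.TX₂) off.toElemM)

/-- **the passive case** -/
theorem passiveW [Finite G] (syl : Syl T X₂) (min : IsMinPar T X₂) (hK : K₂ = o2 X₂)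
    (mv : ¬ X₂ ≤ centralizer (F : Set G)) {A₀ : Subgroup G}
    (hAK : A₀ ≤ K₂) (hAV : ¬ A₀ ≤ centralizer (V : Set G)) (hAR : R ≤ ⁅V, A₀⁆) (hAC : V ⊓ centralizer (A₀ : Set G) ≤ R)
    (hA2 : ∀ a ∈ A₀, a ^ 2 ∈ centralizer (U : Set G))
    (hAc : ∀ a ∈ A₀, ∀ b ∈ A₀, a * b * a⁻¹ * b⁻¹ ∈ centralizer (U : Set G)) (hAf : Nat.card U ≤ ff U A₀) :
    X₂ ≤ normalizer (R : Set G) := by
  have s := h.sub syl min hK mv
  refine h.passive (W := VF F X₂) (VF_le (h.FR.trans (h.RV.trans h.VU)) h.nU₂) (le_normalizer_VF F X₂)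
    (fun X hF hX => VF_le hF hX) (by rw [hK]; exact s.o2)
    (by rw [hK]; exact inf_le_o2 syl min h.TF mv (F_le_VF F X₂) s.norm)
    (fun E hE ET => h.noW syl min hK mv hE ET) ?_ hAK hAV hAR hAC hA2 hAc hAf
  intro M hM hn
  rcases min.sup_eq_or_inf_le (p := 2) syl.2.1 (ChoiceSit.syl_not_dvd syl) hM hn with h1 | h1
  · right; rw [h1]
  · left
    rw [hK, inf_comm]
    exact h1

end Fe

end Cfsg.Agent.Omega.NOThreeL.RWide.ParT
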