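import Cfsg.Agent.Omega.NOThreeL.RWide.ParT.CaseAB

/-!
# `par` over `T`: the passive case (helper294 #27918)

`A₀ ≤ K₂ = O₂(X₂)` moves `V` with `[V, A₀] ≥ R`, `C_V(A₀) ≤ R` ⟹ `X₂` normalises `R`.
-/

set_option autoImplicit false

namespace Cfsg.Agent.Omega.NOThreeL.RWide.ParT

open Subgroup Cfsg Cfsg.Agent.ZN.ChoiceBase
open scoped commutatorElement Pointwise

universe u

variable {G : Type u} [Group G]

/-- a 2-subgroup of `H` is conjugate into the Sylow group `T` -/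
theorem exists_cj_le [Finite G] {T H E : Subgroup G} (hT : IsPGroup 2 T) (hTH : T ≤ H) (syl : ¬ 2 ∣ T.relIndex H)
    (hE : IsPGroup 2 E) (hEH : E ≤ H) : ∃ g ∈ H, cj g E ≤ T := by
  have hTs : IsPGroup 2 (T.subgroupOf H) := hT.comap_of_injective H.subtype (Subgroup.subtype_injective H)
  let S : Sylow 2 H := hTs.toSylow (by rwa [Subgroup.relIndex] at syl)
  have hS : (S : Subgroup H) = T.subgroupOf H := rfl
  have hEs : IsPGroup 2 (E.subgroupOf H) := hE.comap_of_injective H.subtype (Subgroup.subtype_injective H)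
  obtain ⟨Q, hQ⟩ := hEs.exists_le_sylow
  obtain ⟨g, hg⟩ := MulAction.exists_smul_eq H Q S
  refine ⟨g, g.2, ?_⟩
  intro x hx
  have h1 := mem_cj.1 hx
  have h2 : (⟨(g : G)⁻¹ * x * g, hEH h1⟩ : H) ∈ (Q : Subgroup H) := hQ (mem_subgroupOf.2 h1)
  have h3 : g * ⟨(g : G)⁻¹ * x * g, hEH h1⟩ * g⁻¹ ∈ (g • Q : Sylow 2 H) := by
    rw [Sylow.smul_def]
    exact ⟨_, h2, rfl⟩
  rw [hg] at h3
  have h4 : g * ⟨(g : G)⁻¹ * x * g, hEH h1⟩ * g⁻¹ ∈ (S : Subgroup H) := h3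
  rw [hS, mem_subgroupOf] at h4
  have e : ((g * ⟨(g : G)⁻¹ * x * g, hEH h1⟩ * g⁻¹ : H) : G) = x := by
    change (g : G) * ((g : G)⁻¹ * x * g) * (g : G)⁻¹ = x
    group
  rwa [e] at h4

namespace Fe

variable {T X₁ X₂ K₁ K₂ U V R F Z₀ : Subgroup G} {q : ℕ} (h : Fe T X₁ X₂ K₁ K₂ U V R F Z₀ q)
include h

/-- members in `K₁` = members in `K₂` ⟹ there are none -/
theorem empty (st1 : ∀ A ∈ FFm (X₁ ⊔ X₂) U, A ≤ K₁ → A ≤ K₂) (st2 : ∀ A ∈ FFm (X₁ ⊔ X₂) U, A ≤ K₂ → A ≤ K₁)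
    {A : Subgroup G} (hA : A ∈ FFm (X₁ ⊔ X₂) U) (hAK : A ≤ K₁) [Finite G] : False := by
  set M : Subgroup G := sSup {A | A ∈ FFm (X₁ ⊔ X₂) U ∧ A ≤ K₁} with hM
  have hMT : M ≤ T := sSup_le fun A hA' => hA'.2.trans h.KT₁
  have hn : ∀ X K : Subgroup G, X ≤ X₁ ⊔ X₂ → X ≤ normalizer (K : Set G) →
      (∀ A ∈ FFm (X₁ ⊔ X₂) U, A ≤ K₁ → A ≤ K) → (∀ A ∈ FFm (X₁ ⊔ X₂) U, A ≤ K → A ≤ K₁) →
      X ≤ normalizer (M : Set G) := by
    intro X K hXH hXK h1 h2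
    have h3 : ∀ g ∈ X, cj g M ≤ M := by
      intro g hg
      rw [hM, sSup_eq_iSup', cj_iSup]
      refine iSup_le fun A => ?_
      have hA1 := A.2.1
      have hA2 := h1 _ A.2.1 A.2.2
      have h4 : cj g (A : Subgroup G) ∈ FFm (X₁ ⊔ X₂) U := IsFFm.cj hA1 (hXH hg) (h.HU (hXH hg))
      have h5 : cj g (A : Subgroup G) ≤ K := by
        have := cj_mono g hA2
        rwa [cj_eq_of_mem_normalizer (hXK hg)] at this
      exact le_iSup (fun A : {A | A ∈ FFm (X₁ ⊔ X₂) U ∧ A ≤ K₁} => (A : Subgroup G)) ⟨cj g A, h4, h2 _ h4 h5⟩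
    intro g hg
    rw [mem_normalizer_iff_cj]
    refine le_antisymm (h3 g hg) ?_
    have := cj_mono g (h3 g⁻¹ (inv_mem hg))
    rwa [cj_cj_inv] at this
  have hMC : M ≤ centralizer (U : Set G) := h.core hMT
    (hn X₁ K₁ le_sup_left h.nK₁ (fun _ _ h => h) (fun _ _ h => h)) (hn X₂ K₂ le_sup_right h.nK₂ st1 st2)
  exact hA.mv ((le_sSup (show A ∈ {A | A ∈ FFm (X₁ ⊔ X₂) U ∧ A ≤ K₁} from ⟨hA, hAK⟩)).trans hMC)

/-- **The passive case.** `W = ⟨F ^ X₂⟩`. -/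
theorem passive [Finite G] {W A₀ : Subgroup G} (WU : W ≤ U) (nW : X₂ ≤ normalizer (W : Set G))
    (genW : ∀ X : Subgroup G, F ≤ X → X₂ ≤ normalizer (X : Set G) → W ≤ X) (cK₂ : K₂ ≤ centralizer (W : Set G))
    (mK₂ : T ⊓ centralizer (W : Set G) ≤ K₂)
    (noW : ∀ E : Subgroup G, IsFFm (X₁ ⊔ X₂) U E → E ≤ T → (centralizer (W : Set G)).relIndex E ≤
      (centralizer (E : Set G)).relIndex W)
    (min : ∀ M : Subgroup G, M ≤ X₂ → X₂ ≤ normalizer (M : Set G) → M ⊓ T ≤ K₂ ∨ X₂ ≤ M ⊔ T)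
    (hAK : A₀ ≤ K₂) (hAV : ¬ A₀ ≤ centralizer (V : Set G)) (hAR : R ≤ ⁅V, A₀⁆) (hAC : V ⊓ centralizer (A₀ : Set G) ≤ R)
    (hA2 : ∀ a ∈ A₀, a ^ 2 ∈ centralizer (U : Set G))
    (hAc : ∀ a ∈ A₀, ∀ b ∈ A₀, a * b * a⁻¹ * b⁻¹ ∈ centralizer (U : Set G)) (hAf : Nat.card U ≤ ff U A₀) :
    X₂ ≤ normalizer (R : Set G) := by
  have hCC : centralizer (U : Set G) ≤ centralizer (V : Set G) := centralizer_le h.VU
  -- (1)
  have s1 : ∀ E ∈ FFm (X₁ ⊔ X₂) U, E ≤ T → E ≤ K₂ := by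
    intro E hE hT
    by_contra hEK
    have hEW : ¬ E ≤ centralizer (W : Set G) := fun h1 => hEK ((le_inf hT h1).trans mK₂)
    rcases hE.cut h.ab WU (noW E hE hT) with h1 | ⟨-, h2, -, -⟩
    · exact hEW h1
    have hEX : E ≤ X₂ := hT.trans h.TX₂
    -- `[U, E] ≤ W`
    have hWn : W ≤ normalizer ((U ⊓ centralizer (E : Set G) : Subgroup G) : Set G) := by
      intro c hc
      refine centralizer_le_normalizer _ (mem_centralizer_iff.2 fun y hy => ?_)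
      exact h.ab y hy.1 c (WU hc)
    have com : ∀ u ∈ U, ∀ e ∈ E, e * u * e⁻¹ * u⁻¹ ∈ W := by
      intro u hu e he
      have h5 : u ∈ (W : Set G) * ((U ⊓ centralizer (E : Set G) : Subgroup G) : Set G) := by
        rw [← Subgroup.coe_mul_of_left_le_normalizer_right _ _ hWn]
        exact h2 hu
      obtain ⟨v, hv, c, hc, hvc⟩ := h5
      have hvc' : v * c = u := hvc
      have hce : e * c = c * e := mem_centralizer_iff.1 hc.2 e he
      have e1 : e * u * e⁻¹ * u⁻¹ = (e * v * e⁻¹) * v⁻¹ := by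
        rw [← hvc']
        calc e * (v * c) * e⁻¹ * (v * c)⁻¹ = e * v * (c * e⁻¹) * c⁻¹ * v⁻¹ := by group
          _ = e * v * (e⁻¹ * c) * c⁻¹ * v⁻¹ := by
              have : c * e⁻¹ = e⁻¹ * c := by
                have h7 : e⁻¹ * (e * c) * e⁻¹ = e⁻¹ * (c * e) * e⁻¹ := by rw [hce]
                simpa [mul_assoc] using h7
              rw [this]
          _ = _ := by group
      rw [e1]
      exact mul_mem ((mem_normalizer_iff.1 (nW (hEX he)) _).1 hv) (inv_mem hv)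
    set K := LE X₂ E with hK
    have hKX : K ≤ X₂ := LE_le hEX
    have hKtr : K ≤ Tr U W := by
      refine iSup_le fun y => ?_
      intro z hz
      have hyU := h.nU₂ y.2
      have hyW := nW y.2
      have hz' := mem_cj.1 hz
      have hzX : z ∈ X₂ := hKX (cj_le_LE y.2 hz)
      refine ⟨h.nU₂ hzX, nW hzX, fun u hu => ?_⟩
      have hu' : (y : G)⁻¹ * u * y ∈ U := by
        have := (mem_normalizer_iff.1 (inv_mem hyU) _).1 hu
        simpa using this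
      have h2 := com _ hu' _ hz'
      have h3 := (mem_normalizer_iff.1 hyW _).1 h2
      have e : (y : G) * (((y : G)⁻¹ * z * y) * ((y : G)⁻¹ * u * y) * ((y : G)⁻¹ * z * y)⁻¹ * ((y : G)⁻¹ * u * y)⁻¹) *
          (y : G)⁻¹ = z * u * z⁻¹ * u⁻¹ := by group
      rwa [e] at h3
    have hPK : X₂ ≤ K ⊔ T := by
      rcases min K hKX LE_norm with h1 | h1
      · exact absurd ((le_inf le_LE hT).trans h1) hEK
      · exact h1
    -- `X₀ = [V, K₂]`
    have hX₀V : ⁅V, K₂⁆ ≤ V := by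
      rw [Subgroup.commutator_le]
      intro v hv o ho
      have h3 := h.nV (h.TX₁ (h.KT₂ ho))
      have h4 := (mem_normalizer_iff.1 h3 _).1 (inv_mem hv)
      have e : ⁅v, o⁆ = v * (o * v⁻¹ * o⁻¹) := by rw [commutatorElement_def]; group
      rw [e]
      exact mul_mem hv h4
    have hgen : ∀ y : G, y ∈ normalizer (K₂ : Set G) → (∀ v ∈ V, ∃ w ∈ W, ∃ v' ∈ V, y * v * y⁻¹ = w * v') →
        cj y ⁅V, K₂⁆ ≤ ⁅V, K₂⁆ := by
      intro y hyK hyV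
      have h1 : cj y ⁅V, K₂⁆ = ⁅cj y V, cj y K₂⁆ := Subgroup.map_commutator _ _ _
      rw [h1, cj_eq_of_mem_normalizer hyK, Subgroup.commutator_le]
      intro v₁ hv₁ o ho
      obtain ⟨w, hw, v', hv', e⟩ := hyV _ (mem_cj.1 hv₁)
      have e0 : v₁ = w * v' := by rw [← e]; group
      have hwo : o * w⁻¹ = w⁻¹ * o := (mem_centralizer_iff.1 (cK₂ ho) _ (inv_mem hw)).symm
      have e1 : ⁅v₁, o⁆ = w * ⁅v', o⁆ * w⁻¹ := by
        rw [e0, commutatorElement_def, commutatorElement_def]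
        calc w * v' * o * (w * v')⁻¹ * o⁻¹ = w * (v' * o * v'⁻¹) * (w⁻¹ * o⁻¹) := by group
          _ = w * (v' * o * v'⁻¹) * (o⁻¹ * w⁻¹) := by
              have : w⁻¹ * o⁻¹ = o⁻¹ * w⁻¹ := by
                have h7 : o⁻¹ * (o * w⁻¹) * o⁻¹ = o⁻¹ * (w⁻¹ * o) * o⁻¹ := by rw [hwo]
                simpa [mul_assoc] using h7
              rw [this]
          _ = _ := by group
      have h5 : ⁅v', o⁆ ∈ ⁅V, K₂⁆ := Subgroup.commutator_mem_commutator hv' ho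
      have h6 := h.ab w (WU hw) _ (h.VU (hX₀V h5))
      rw [e1, h6]
      have e7 : ⁅v', o⁆ * w * w⁻¹ = ⁅v', o⁆ := by group
      rw [e7]; exact h5
    have hKn : ∀ y ∈ K, cj y ⁅V, K₂⁆ ≤ ⁅V, K₂⁆ := by
      intro y hy
      refine hgen y (h.nK₂ (hKX hy)) fun v hv => ?_
      have h3 := (hKtr hy).2.2 v (h.VU hv)
      exact ⟨_, h3, v, hv, by group⟩
    have hTn : ∀ y ∈ T, cj y ⁅V, K₂⁆ ≤ ⁅V, K₂⁆ := by
      intro y hy
      refine hgen y (h.nK₂ (h.TX₂ hy)) fun v hv => ?_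
      exact ⟨1, one_mem _, _, (mem_normalizer_iff.1 (h.nV (h.TX₁ hy)) _).1 hv, by group⟩
    have hn : X₂ ≤ normalizer ((⁅V, K₂⁆ : Subgroup G) : Set G) := by
      refine hPK.trans (sup_le ?_ ?_)
      · intro y hy
        rw [mem_normalizer_iff_cj]
        refine le_antisymm (hKn y hy) ?_
        have := cj_mono y (hKn y⁻¹ (inv_mem hy))
        rwa [cj_cj_inv] at this
      · intro y hy
        rw [mem_normalizer_iff_cj]
        refine le_antisymm (hTn y hy) ?_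
        have := cj_mono y (hTn y⁻¹ (inv_mem hy))
        rwa [cj_cj_inv] at this
    have hWX : W ≤ ⁅V, K₂⁆ := genW _ (h.FR.trans (hAR.trans (commutator_mono le_rfl hAK))) hn
    have hWV : W ≤ V := hWX.trans hX₀V
    have hWR : W ≤ R := (le_inf hWV (le_centralizer_iff.1 (hAK.trans cK₂))).trans hAC
    by_cases hEV : E ≤ centralizer (V : Set G)
    · exact hEW (hEV.trans (centralizer_le hWV))
    · apply hEW
      rw [le_centralizer_iff]
      refine hWR.trans ?_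
      rw [← (h.cutV hE hT hEV).2.2.1]
      exact inf_le_right
  -- (2)
  have hAT : A₀ ≤ T := hAK.trans h.KT₂
  obtain ⟨E₀, hE₀⟩ := ffm_ne (H := X₁ ⊔ X₂) (U := U) (A := A₀)
    ⟨hAT.trans (h.TX₁.trans le_sup_left), h.two.to_le hAT, hA2, hAc⟩ (fun h1 => hAV (h1.trans hCC)) hAf
  obtain ⟨g, hg, hgT⟩ := exists_cj_le h.two (h.TX₁.trans le_sup_left) h.syl hE₀.two hE₀.le
  have hE₁ : cj g E₀ ∈ FFm (X₁ ⊔ X₂) U := IsFFm.cj hE₀ hg (h.HU hg)
  by_cases hA : ∃ E ∈ FFm (X₁ ⊔ X₂) U, E ≤ K₂ ∧ ¬ E ≤ centralizer (V : Set G)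
  · exact h.caseA hA
  · push Not at hA
    exfalso
    have t1 : ∀ A ∈ FFm (X₁ ⊔ X₂) U, A ≤ K₂ → A ≤ K₁ := fun A hA' hK =>
      (le_inf (hK.trans h.KT₂) (hA A hA' hK)).trans h.mK₁
    exact h.empty (fun A hA' hK => s1 A hA' (hK.trans h.KT₁)) t1 hE₁ (t1 _ hE₁ (s1 _ hE₁ hgT))

end Fe

end Cfsg.Agent.Omega.NOThreeL.RWide.ParT
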