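import Cfsg.Agent.Omega.NOThreeL.RWide.ParT.Mach

/-!
# `par` over `T` (helper294 #26826): (S)

A member `E` of the family which moves the natural module `V` of `X₁`: `U = V × C`, `C = C_U(L)`, `L = ⟨E ^ X₁⟩`,
`C_L(V) = C_L(U)`, `[U, K₁] ≤ C` for `K₁ ≤ C_(X₁)(V)`.
-/

set_option autoImplicit false

namespace Cfsg.Agent.Omega.NOThreeL.RWide.ParT

open Subgroup Cfsg Cfsg.Agent.ZN.ChoiceBase
open scoped commutatorElement Pointwise

universe u

variable {G : Type u} [Group G]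

/-- The frame of (S). -/
structure Sp (H X₁ U V R E : Subgroup G) (x : G) (q : ℕ) : Prop where
  ffm : IsFFm H U E
  ab : ∀ a ∈ U, ∀ b ∈ U, a * b = b * a
  sq : ∀ a ∈ U, a ^ 2 = 1
  XH : X₁ ≤ H
  XU : X₁ ≤ normalizer (U : Set G)
  XV : X₁ ≤ normalizer (V : Set G)
  VU : V ≤ U
  RV : R ≤ V
  cR : Nat.card R = q
  Rne : R ≠ ⊥
  EX : E ≤ X₁
  ffE : ff U E = Nat.card U
  idx : (centralizer (E : Set G)).relIndex U ≤ q
  com : ∀ u ∈ U, ∀ e ∈ E, e * u * e⁻¹ * u⁻¹ ∈ R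
  RE : R ≤ centralizer (E : Set G)
  cent : V ⊓ centralizer (E : Set G) ≤ R
  full : ∀ v ∈ V, v ∉ R → ∀ s ∈ R, ∃ e ∈ E, e * v * e⁻¹ * v⁻¹ = s
  xX : x ∈ X₁
  opp : R ⊓ cj x R = ⊥
  VRR : V ≤ R ⊔ cj x R
  gen : ∀ y ∈ X₁, cj y E ≤ (E ⊔ cj x E) ⊔ centralizer (V : Set G)

/-- `⟨E ^ X⟩` -/
def LE (X E : Subgroup G) : Subgroup G := ⨆ y : X, cj (y : G) E

theorem le_LE {X E : Subgroup G} : E ≤ LE X E := by
  have := le_iSup (fun y : X => cj (y : G) E) 1
  rwa [show cj (((1 : X) : G)) E = E from cj_one E] at this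

theorem cj_le_LE {X E : Subgroup G} {y : G} (hy : y ∈ X) : cj y E ≤ LE X E :=
  le_iSup (fun y : X => cj (y : G) E) ⟨y, hy⟩

theorem cj_iSup {ι : Sort*} (g : G) (A : ι → Subgroup G) : cj g (⨆ i, A i) = ⨆ i, cj g (A i) := Subgroup.map_iSup _ _

theorem LE_norm {X E : Subgroup G} : X ≤ normalizer ((LE X E : Subgroup G) : Set G) := by
  have h1 : ∀ g ∈ X, cj g (LE X E) ≤ LE X E := by
    intro g hg
    unfold LE
    rw [cj_iSup]
    refine iSup_le fun y => ?_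
    rw [cj_cj]
    exact le_iSup (fun y : X => cj (y : G) E) ⟨g * y, mul_mem hg y.2⟩
  intro g hg
  rw [mem_normalizer_iff_cj]
  refine le_antisymm (h1 g hg) ?_
  have := cj_mono g (h1 g⁻¹ (inv_mem hg))
  rwa [cj_cj_inv] at this

theorem LE_le {X E : Subgroup G} (h : E ≤ X) : LE X E ≤ X := by
  refine iSup_le fun y => ?_
  intro z hz
  have h1 := h (mem_cj.1 hz)
  have h2 := mul_mem (mul_mem y.2 h1) (inv_mem y.2)
  have e : (y : G) * ((y : G)⁻¹ * z * y) * (y : G)⁻¹ = z := by group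
  rwa [e] at h2

theorem ex_ne {A : Subgroup G} (h : A ≠ ⊥) : ∃ r ∈ A, r ≠ 1 := by
  obtain ⟨r, hr⟩ := (Subgroup.ne_bot_iff_exists_ne_one).1 h
  exact ⟨r, r.2, fun h1 => hr (Subtype.ext h1)⟩

/-- elements acting trivially on `U / V` -/
def Tr (U V : Subgroup G) : Subgroup G where
  carrier := {g | g ∈ normalizer (U : Set G) ∧ g ∈ normalizer (V : Set G) ∧ ∀ u ∈ U, g * u * g⁻¹ * u⁻¹ ∈ V}
  one_mem' := ⟨one_mem _, one_mem _, fun u _ => by simp⟩
  mul_mem' := by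
    rintro a b ⟨a1, a2, a3⟩ ⟨b1, b2, b3⟩
    refine ⟨mul_mem a1 b1, mul_mem a2 b2, fun u hu => ?_⟩
    have h1 := b3 u hu
    have h2 : b * u * b⁻¹ ∈ U := (mem_normalizer_iff.1 b1 _).1 hu
    have h3 := a3 _ h2
    have e : a * b * u * (a * b)⁻¹ * u⁻¹ = (a * (b * u * b⁻¹) * a⁻¹ * (b * u * b⁻¹)⁻¹) * (b * u * b⁻¹ * u⁻¹) := by group
    rw [e]
    exact mul_mem h3 h1
  inv_mem' := by
    rintro a ⟨a1, a2, a3⟩
    refine ⟨inv_mem a1, inv_mem a2, fun u hu => ?_⟩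
    have h2 : a⁻¹ * u * a ∈ U := by
      have := (mem_normalizer_iff.1 (inv_mem a1) _).1 hu
      simpa using this
    have h3 := inv_mem (a3 _ h2)
    have e : (a * (a⁻¹ * u * a) * a⁻¹ * (a⁻¹ * u * a)⁻¹)⁻¹ = a⁻¹ * u * a * u⁻¹ := by group
    rw [e] at h3
    simpa using h3

namespace Sp

variable {H X₁ U V R E : Subgroup G} {x : G} {q : ℕ} (h : Sp H X₁ U V R E x q)
include h

theorem L_le : LE X₁ E ≤ X₁ := LE_le h.EX

/-- `L` is trivial on `U / V` -/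
theorem L_tr {l u : G} (hl : l ∈ LE X₁ E) (hu : u ∈ U) : l * u * l⁻¹ * u⁻¹ ∈ V := by
  have h1 : LE X₁ E ≤ Tr U V := by
    refine iSup_le fun y => ?_
    intro z hz
    have hyU := h.XU y.2
    have hyV := h.XV y.2
    have hz' := mem_cj.1 hz
    have hzX : z ∈ X₁ := h.L_le (cj_le_LE y.2 hz)
    refine ⟨h.XU hzX, h.XV hzX, fun u hu => ?_⟩
    have hu' : (y : G)⁻¹ * u * y ∈ U := by
      have := (mem_normalizer_iff.1 (inv_mem hyU) _).1 hu
      simpa using this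
    have h2 := h.RV (h.com _ hu' _ hz')
    have h3 := (mem_normalizer_iff.1 hyV _).1 h2
    have e : (y : G) * (((y : G)⁻¹ * z * y) * ((y : G)⁻¹ * u * y) * ((y : G)⁻¹ * z * y)⁻¹ * ((y : G)⁻¹ * u * y)⁻¹) *
        (y : G)⁻¹ = z * u * z⁻¹ * u⁻¹ := by group
    rwa [e] at h3
  exact (h1 hl).2.2 u hu

/-- `V` is irreducible under `L` -/
theorem irr {D : Subgroup G} (hD : D ≤ V) (hne : D ≠ ⊥) (hL : LE X₁ E ≤ normalizer (D : Set G)) : V ≤ D := by
  have hRx : cj x R ≤ V := by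
    have := cj_mono x h.RV
    rwa [cj_eq_of_mem_normalizer (h.XV h.xX)] at this
  -- `d ∈ D`, `d ∉ R` : `R ≤ D`
  have s1 : ∀ d ∈ D, d ∉ R → R ≤ D := by
    intro d hd hdR s hs
    obtain ⟨e, he, hes⟩ := h.full d (hD hd) hdR s hs
    have h1 := (mem_normalizer_iff.1 (hL (le_LE he)) _).1 hd
    rw [← hes]
    exact mul_mem h1 (inv_mem hd)
  have s2 : ∀ d ∈ D, d ∉ cj x R → cj x R ≤ D := by
    intro d hd hdR s hs
    have hd' : x⁻¹ * d * x ∈ V := by
      have := (mem_normalizer_iff.1 (inv_mem (h.XV h.xX)) _).1 (hD hd)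
      simpa using this
    have hdR' : x⁻¹ * d * x ∉ R := fun h1 => hdR (mem_cj.2 h1)
    obtain ⟨e, he, hes⟩ := h.full _ hd' hdR' _ (mem_cj.1 hs)
    have he' : x * e * x⁻¹ ∈ LE X₁ E := cj_le_LE h.xX (mem_cj.2 (by
      have e1 : x⁻¹ * (x * e * x⁻¹) * x = e := by group
      rw [e1]; exact he))
    have h1 := (mem_normalizer_iff.1 (hL he') _).1 hd
    have e2 : s = (x * e * x⁻¹) * d * (x * e * x⁻¹)⁻¹ * d⁻¹ := by
      have e3 : s = x * (x⁻¹ * s * x) * x⁻¹ := by group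
      rw [e3, ← hes]; group
    rw [e2]
    exact mul_mem h1 (inv_mem hd)
  have s3 : R ≤ D → cj x R ≤ D := by
    intro h1
    obtain ⟨r, hr, hr1⟩ := ex_ne h.Rne
    refine s2 r (h1 hr) fun h2 => hr1 ?_
    have : r ∈ R ⊓ cj x R := ⟨hr, h2⟩
    rwa [h.opp, mem_bot] at this
  have s4 : cj x R ≤ D → R ≤ D := by
    intro h1
    obtain ⟨r, hr, hr1⟩ := ex_ne h.Rne
    have h3 : x * r * x⁻¹ ∈ cj x R := mem_cj.2 (by
      have e1 : x⁻¹ * (x * r * x⁻¹) * x = r := by group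
      rw [e1]; exact hr)
    refine s1 _ (h1 h3) fun h2 => hr1 ?_
    have : x * r * x⁻¹ ∈ R ⊓ cj x R := ⟨h2, h3⟩
    rw [h.opp, mem_bot] at this
    have e4 : r = x⁻¹ * (x * r * x⁻¹) * x := by group
    rw [e4, this]; simp
  obtain ⟨d, hd, hd1⟩ := ex_ne hne
  have h5 : R ≤ D ∧ cj x R ≤ D := by
    by_cases hdR : d ∈ R
    · have hdx : d ∉ cj x R := by
        intro h2
        apply hd1
        have : d ∈ R ⊓ cj x R := ⟨hdR, h2⟩
        rwa [h.opp, mem_bot] at this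
      exact ⟨s4 (s2 d hd hdx), s2 d hd hdx⟩
    · exact ⟨s1 d hd hdR, s3 (s1 d hd hdR)⟩
  exact h.VRR.trans (sup_le h5.1 h5.2)

/-- `θ(n, u) = n u n⁻¹ u⁻¹` -/
theorem th_mul {n n' u : G} (hn : n ∈ LE X₁ E ⊓ centralizer (V : Set G)) (hn' : n' ∈ LE X₁ E ⊓ centralizer (V : Set G))
    (hu : u ∈ U) : (n * n') * u * (n * n')⁻¹ * u⁻¹ = (n * u * n⁻¹ * u⁻¹) * (n' * u * n'⁻¹ * u⁻¹) := by
  have h1 : n' * u * n'⁻¹ * u⁻¹ ∈ V := h.L_tr hn'.1 hu
  have h2 : n * u * n⁻¹ * u⁻¹ ∈ V := h.L_tr hn.1 hu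
  have h3 := mem_centralizer_iff.1 hn.2 _ h1
  have h4 := h.ab _ (h.VU h2) _ (h.VU h1)
  calc (n * n') * u * (n * n')⁻¹ * u⁻¹ = n * (n' * u * n'⁻¹ * u⁻¹) * n⁻¹ * (n * u * n⁻¹ * u⁻¹) := by group
    _ = (n' * u * n'⁻¹ * u⁻¹) * n * n⁻¹ * (n * u * n⁻¹ * u⁻¹) := by rw [← h3]
    _ = (n' * u * n'⁻¹ * u⁻¹) * (n * u * n⁻¹ * u⁻¹) := by group
    _ = _ := h4.symm

theorem th_cj {n l u : G} (hn : n ∈ LE X₁ E ⊓ centralizer (V : Set G)) (hl : l ∈ LE X₁ E)
    (hu : u ∈ U) : (l * n * l⁻¹) * u * (l * n * l⁻¹)⁻¹ * u⁻¹ = l * (n * u * n⁻¹ * u⁻¹) * l⁻¹ := by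
  have hlU := h.XU (h.L_le hl)
  have h1 : l⁻¹ * u * l * u⁻¹ ∈ V := by
    have := h.L_tr (inv_mem hl) hu
    simpa using this
  have h2 := mem_centralizer_iff.1 hn.2 _ h1
  have h2' : n * (l⁻¹ * u * l * u⁻¹) * n⁻¹ = l⁻¹ * u * l * u⁻¹ := by rw [← h2]; group
  have h3 : n * u * n⁻¹ * u⁻¹ ∈ U := h.VU (h.L_tr hn.1 hu)
  have h4 := h.ab _ (h.VU h1) _ h3
  have e1 : (l * n * l⁻¹) * u * (l * n * l⁻¹)⁻¹ * u⁻¹ =
      l * ((n * (l⁻¹ * u * l * u⁻¹) * n⁻¹) * (n * u * n⁻¹ * u⁻¹) * (l⁻¹ * u * l * u⁻¹)⁻¹) * l⁻¹ := by group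
  rw [e1, h2', h4]
  group

theorem th_mul_right {n u u' : G} (hn : n ∈ LE X₁ E) (hu : u ∈ U) (hu' : u' ∈ U) :
    n * (u * u') * n⁻¹ * (u * u')⁻¹ = (n * u * n⁻¹ * u⁻¹) * (n * u' * n⁻¹ * u'⁻¹) := by
  have h1 : n * u' * n⁻¹ * u'⁻¹ ∈ U := h.VU (h.L_tr hn hu')
  have h2 := h.ab _ hu _ h1
  calc n * (u * u') * n⁻¹ * (u * u')⁻¹ = (n * u * n⁻¹ * u⁻¹) * (u * (n * u' * n⁻¹ * u'⁻¹) * u⁻¹) := by group
    _ = (n * u * n⁻¹ * u⁻¹) * ((n * u' * n⁻¹ * u'⁻¹) * u * u⁻¹) := by rw [h2]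
    _ = _ := by group

/-- `n ↦ θ(n, u)` -/
def thN (u : G) (hu : u ∈ U) : ↥(LE X₁ E ⊓ centralizer (V : Set G)) →* G where
  toFun n := (n : G) * u * (n : G)⁻¹ * u⁻¹
  map_one' := by simp
  map_mul' a b := h.th_mul a.2 b.2 hu

/-- `u ↦ θ(n, u)` -/
def thU (n : G) (hn : n ∈ LE X₁ E) : ↥U →* G where
  toFun u := n * (u : G) * n⁻¹ * (u : G)⁻¹
  map_one' := by simp
  map_mul' a b := h.th_mul_right hn a.2 b.2

omit h in
theorem mem_cU {n : G} (hc : ∀ u ∈ U, n * u * n⁻¹ * u⁻¹ = 1) : n ∈ centralizer (U : Set G) := by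
  rw [mem_centralizer_iff]
  intro u hu
  have h1 := hc u hu
  have e : n * u = (n * u * n⁻¹ * u⁻¹) * (u * n) := by group
  rw [h1, one_mul] at e
  exact e.symm

/-- a 2-group `P ≤ N` is elementary abelian on `U` -/
theorem isE_of {P : Subgroup G} (hP : P ≤ LE X₁ E ⊓ centralizer (V : Set G)) (h2 : IsPGroup 2 P) : IsE H U P := by
  refine ⟨hP.trans (inf_le_left.trans (h.L_le.trans h.XH)), h2, ?_, ?_⟩
  · intro a ha
    refine mem_cU fun u hu => ?_
    rw [pow_two, h.th_mul (hP ha) (hP ha) hu, ← pow_two]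
    exact h.sq _ (h.VU (h.L_tr (hP ha).1 hu))
  · intro a ha b hb
    refine mem_cU fun u hu => ?_
    have h1 := map_mul (h.thN u hu) (⟨a, hP ha⟩ * ⟨b, hP hb⟩ * (⟨a, hP ha⟩ : ↥(LE X₁ E ⊓ centralizer (V : Set G)))⁻¹)
      (⟨b, hP hb⟩)⁻¹
    have h3 := h.ab _ (h.VU (h.L_tr (hP ha).1 hu)) _ (h.VU (h.L_tr (hP hb).1 hu))
    have h4 : h.thN u hu (⟨a, hP ha⟩ * ⟨b, hP hb⟩ * (⟨a, hP ha⟩ : ↥(LE X₁ E ⊓ centralizer (V : Set G)))⁻¹ *
        (⟨b, hP hb⟩)⁻¹) = 1 := by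
      rw [map_mul, map_mul, map_mul, map_inv, map_inv]
      change (a * u * a⁻¹ * u⁻¹) * (b * u * b⁻¹ * u⁻¹) * (a * u * a⁻¹ * u⁻¹)⁻¹ * (b * u * b⁻¹ * u⁻¹)⁻¹ = 1
      rw [h3]; group
    exact h4

/-- the elements of `M` centralising `u` -/
theorem ker [Finite G] : LE X₁ E ⊓ centralizer (V : Set G) ≤ centralizer (U : Set G) := by
  classical
  set L := LE X₁ E with hL
  set N := L ⊓ centralizer (V : Set G) with hN
  by_contra hcon
  have hLN : L ≤ normalizer (N : Set G) := by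
    intro l hl
    have hlV := h.XV (h.L_le hl)
    rw [mem_normalizer_iff_cj, hN, cj_inf, cj_centralizer, cj_eq_of_mem_normalizer hlV,
      cj_eq_of_mem_normalizer (le_normalizer hl)]
  obtain ⟨M, hM, hMm⟩ := (Set.toFinite {M : Subgroup G | M ≤ N ∧ L ≤ normalizer (M : Set G) ∧
    ¬ M ≤ centralizer (U : Set G)}).exists_minimalFor (fun M : Subgroup G => Nat.card M) _ ⟨N, le_rfl, hLN, hcon⟩
  obtain ⟨hMN, hLM, hMU⟩ := hM
  -- `M_u`
  have mu : ∀ u ∈ U, ∀ m ∈ M, m * u * m⁻¹ * u⁻¹ = 1 → (¬ m ∈ centralizer (U : Set G)) →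
      ∀ m' ∈ M, m' * u * m'⁻¹ * u⁻¹ = 1 := by
    intro u hu m hm hm1 hmU m' hm'
    let Mu : Subgroup G := M ⊓ centralizer ({u} : Set G)
    have hMu : ∀ m : G, m ∈ Mu ↔ m ∈ M ∧ m * u * m⁻¹ * u⁻¹ = 1 := by
      intro m
      constructor
      · rintro ⟨h1, h2⟩
        refine ⟨h1, ?_⟩
        have := mem_centralizer_iff.1 h2 u rfl
        rw [← this]; group
      · rintro ⟨h1, h2⟩
        refine ⟨h1, mem_centralizer_iff.2 ?_⟩
        intro w hw
        have hw' : w = u := hw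
        rw [hw']
        have : m * u = u * m := by
          have e : m * u = (m * u * m⁻¹ * u⁻¹) * (u * m) := by group
          rw [e, h2, one_mul]
        exact this.symm
    have hn : L ≤ normalizer (Mu : Set G) := by
      have h1 : ∀ l ∈ L, ∀ m ∈ Mu, l * m * l⁻¹ ∈ Mu := by
        intro l hl m hm
        obtain ⟨a1, a2⟩ := (hMu m).1 hm
        refine (hMu _).2 ⟨(mem_normalizer_iff.1 (hLM hl) _).1 a1, ?_⟩
        rw [h.th_cj (hMN a1) hl hu, a2]; group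
      intro l hl
      rw [mem_normalizer_iff]
      intro m
      refine ⟨h1 l hl m, fun hm => ?_⟩
      have h2 := h1 l⁻¹ (inv_mem hl) _ hm
      have e : l⁻¹ * (l * m * l⁻¹) * l⁻¹⁻¹ = m := by group
      rwa [e] at h2
    have h3 : M ≤ Mu := by
      have h4 : Mu ≤ M := inf_le_left
      have h5 : ¬ Mu ≤ centralizer (U : Set G) := fun h6 => hmU (h6 ((hMu m).2 ⟨hm, hm1⟩))
      have h6 : Nat.card M ≤ Nat.card Mu := hMm ⟨h4.trans hMN, hn, h5⟩
        (Nat.card_le_card_of_injective _ (Subgroup.inclusion_injective h4))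
      exact (Subgroup.eq_of_le_of_card_ge h4 h6).ge
    exact ((hMu m').1 (h3 hm')).2
  -- `u₀`
  obtain ⟨m₁, hm₁, hm₁U⟩ := SetLike.not_le_iff_exists.1 hMU
  have : ∃ u₀ ∈ U, m₁ * u₀ * m₁⁻¹ * u₀⁻¹ ≠ 1 := by
    by_contra hc
    push Not at hc
    apply hm₁U
    rw [mem_centralizer_iff]
    intro u hu
    have h1 := hc u hu
    have e : m₁ * u = (m₁ * u * m₁⁻¹ * u⁻¹) * (u * m₁) := by group
    rw [h1, one_mul] at e
    exact e.symm
  obtain ⟨u₀, hu₀, hu₀'⟩ := this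
  have inj : ∀ m ∈ M, m * u₀ * m⁻¹ * u₀⁻¹ = 1 → m ∈ centralizer (U : Set G) := by
    intro m hm h1
    by_contra h2
    exact hu₀' (mu u₀ hu₀ m hm h1 h2 m₁ hm₁)
  -- the image
  let D : Subgroup G :=
    { carrier := {v | ∃ m ∈ M, m * u₀ * m⁻¹ * u₀⁻¹ = v}
      one_mem' := ⟨1, one_mem _, by group⟩
      mul_mem' := by
        rintro a b ⟨m, hm, rfl⟩ ⟨m', hm', rfl⟩
        exact ⟨m * m', mul_mem hm hm', h.th_mul (hMN hm) (hMN hm') hu₀⟩
      inv_mem' := by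
        rintro a ⟨m, hm, rfl⟩
        refine ⟨m⁻¹, inv_mem hm, ?_⟩
        have h1 := h.th_mul (hMN (inv_mem hm)) (hMN hm) hu₀
        rw [inv_mul_cancel] at h1
        have h2 : (1 : G) * u₀ * 1⁻¹ * u₀⁻¹ = 1 := by group
        rw [h2] at h1
        exact eq_inv_of_mul_eq_one_left h1.symm }
  have hDV : D ≤ V := by
    rintro _ ⟨m, hm, rfl⟩
    exact h.L_tr (hMN hm).1 hu₀
  have hDne : D ≠ ⊥ := by
    intro h1
    have h2 : m₁ * u₀ * m₁⁻¹ * u₀⁻¹ ∈ D := ⟨m₁, hm₁, rfl⟩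
    rw [h1, mem_bot] at h2
    exact hu₀' h2
  have hDn : L ≤ normalizer (D : Set G) := by
    have h1 : ∀ l ∈ L, ∀ d ∈ D, l * d * l⁻¹ ∈ D := by
      rintro l hl _ ⟨m, hm, rfl⟩
      exact ⟨l * m * l⁻¹, (mem_normalizer_iff.1 (hLM hl) _).1 hm, h.th_cj (hMN hm) hl hu₀⟩
    intro l hl
    rw [mem_normalizer_iff]
    intro m
    refine ⟨h1 l hl m, fun hm => ?_⟩
    have h2 := h1 l⁻¹ (inv_mem hl) _ hm
    have e : l⁻¹ * (l * m * l⁻¹) * l⁻¹⁻¹ = m := by group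
    rwa [e] at h2
  have hVD : V ≤ D := h.irr hDV hDne hDn
  -- `m₀`
  obtain ⟨r, hr, hr1⟩ := ex_ne h.Rne
  obtain ⟨m₀, hm₀, hm₀r⟩ := hVD (h.RV hr)
  have hm₀U : m₀ ∉ centralizer (U : Set G) := by
    intro h1
    apply hr1
    rw [← hm₀r]
    have := mem_centralizer_iff.1 h1 u₀ hu₀
    rw [← this]; group
  have cenR : R ≤ centralizer (E : Set G) := h.RE
  have hR : ∀ u ∈ U, m₀ * u * m₀⁻¹ * u⁻¹ ∈ R := by
    intro u hu
    refine h.cent ⟨h.L_tr (hMN hm₀).1 hu, mem_centralizer_iff.2 fun e he => ?_⟩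
    have heL : e ∈ L := le_LE he
    -- `m₀^e m₀⁻¹ ∈ C(U)`
    have h1 : e * m₀ * e⁻¹ ∈ M := (mem_normalizer_iff.1 (hLM heL) _).1 hm₀
    have h2 : (e * m₀ * e⁻¹) * u₀ * (e * m₀ * e⁻¹)⁻¹ * u₀⁻¹ = r := by
      rw [h.th_cj (hMN hm₀) heL hu₀, hm₀r]
      have := mem_centralizer_iff.1 (cenR hr) e he
      rw [this]; group
    have h3 : (e * m₀ * e⁻¹) * m₀⁻¹ ∈ centralizer (U : Set G) := by
      refine inj _ (mul_mem h1 (inv_mem hm₀)) ?_
      rw [h.th_mul (hMN h1) (hMN (inv_mem hm₀)) hu₀, h2]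
      have h4 := h.th_mul (hMN (inv_mem hm₀)) (hMN hm₀) hu₀
      rw [inv_mul_cancel, hm₀r] at h4
      have h5 : (1 : G) * u₀ * 1⁻¹ * u₀⁻¹ = 1 := by group
      rw [h5] at h4
      have h6 := eq_inv_of_mul_eq_one_left h4.symm
      rw [h6, mul_inv_cancel]
    have h4 : (e * m₀ * e⁻¹) * u * (e * m₀ * e⁻¹)⁻¹ * u⁻¹ = m₀ * u * m₀⁻¹ * u⁻¹ := by
      have e1 : e * m₀ * e⁻¹ = ((e * m₀ * e⁻¹) * m₀⁻¹) * m₀ := by group
      rw [e1, h.th_mul (hMN (mul_mem h1 (inv_mem hm₀))) (hMN hm₀) hu]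
      have h5 := mem_centralizer_iff.1 h3 u hu
      have h6 : (e * m₀ * e⁻¹ * m₀⁻¹) * u * (e * m₀ * e⁻¹ * m₀⁻¹)⁻¹ * u⁻¹ = 1 := by
        rw [← h5]; group
      rw [h6, one_mul]
    rw [h.th_cj (hMN hm₀) heL hu] at h4
    have h5 : e * (m₀ * u * m₀⁻¹ * u⁻¹) = (e * (m₀ * u * m₀⁻¹ * u⁻¹) * e⁻¹) * e := by group
    rw [h5, h4]
  -- `|M : C_M(U)| ≥ |V|`
  have cV : q * q ≤ Nat.card V := by
    have hx : cj x R ≤ V := by
      have := cj_mono x h.RV
      rwa [cj_eq_of_mem_normalizer (h.XV h.xX)] at this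
    have hn : cj x R ≤ normalizer (R : Set G) := by
      intro c hc
      refine centralizer_le_normalizer _ (mem_centralizer_iff.2 fun y hy => ?_)
      exact h.ab y (h.VU (h.RV hy)) c (h.VU (hx hc))
    have h1 := card_sup_mul' hn
    rw [h.opp, card_bot, mul_one, card_cj, h.cR] at h1
    rw [← h1]
    exact Nat.card_le_card_of_injective _ (Subgroup.inclusion_injective (sup_le h.RV hx))
  -- `|M : C_M(U)| = |D|`
  let φ : ↥M →* G := (h.thN u₀ hu₀).comp (Subgroup.inclusion hMN)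
  have hφ : ∀ m : M, φ m = (m : G) * u₀ * (m : G)⁻¹ * u₀⁻¹ := fun m => rfl
  have kφ : φ.ker = (centralizer (U : Set G)).subgroupOf M := by
    ext m
    rw [MonoidHom.mem_ker, mem_subgroupOf, hφ]
    constructor
    · intro h1
      exact inj m m.2 h1
    · intro h1
      have := mem_centralizer_iff.1 h1 u₀ hu₀
      rw [← this]; group
  have rφ : φ.range = D := by
    ext v
    constructor
    · rintro ⟨m, rfl⟩
      exact ⟨m, m.2, rfl⟩
    · rintro ⟨m, hm, rfl⟩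
      exact ⟨⟨m, hm⟩, rfl⟩
  have i1 : (centralizer (U : Set G)).relIndex M = Nat.card D := by
    rw [Subgroup.relIndex, ← kφ, Subgroup.index_ker, rφ]
  have eD : D = V := le_antisymm hDV hVD
  rw [eD] at i1
  have hV2 : IsPGroup 2 V := fun v => ⟨1, by
    apply Subtype.ext
    have := h.sq v (h.VU v.2)
    simpa using this⟩
  obtain ⟨k, hk⟩ := hV2.exists_card_eq
  -- `|U : C_U(M)| ≤ q`
  let ψ : ↥U →* G := h.thU m₀ (hMN hm₀).1
  have i2 : Nat.card U ≤ q * Nat.card (U ⊓ centralizer (M : Set G) : Subgroup G) := by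
    have h1 : ψ.range ≤ R := by
      rintro _ ⟨u, rfl⟩
      exact hR u u.2
    have h2 : Nat.card ψ.range ≤ q := by
      rw [← h.cR]
      exact Nat.card_le_card_of_injective _ (Subgroup.inclusion_injective h1)
    have h3 : ψ.ker.map U.subtype ≤ U ⊓ centralizer (M : Set G) := by
      rintro _ ⟨u, hu, rfl⟩
      refine ⟨u.2, mem_centralizer_iff.2 fun m hm => ?_⟩
      have h4 : m₀ * (u : G) * m₀⁻¹ * (u : G)⁻¹ = 1 := hu
      have h5 := mu u u.2 m₀ hm₀ h4 hm₀U m hm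
      have e : m * (u : G) = (m * (u : G) * m⁻¹ * (u : G)⁻¹) * ((u : G) * m) := by group
      rw [h5, one_mul] at e
      exact e
    have h4 : Nat.card ψ.ker ≤ Nat.card (U ⊓ centralizer (M : Set G) : Subgroup G) := by
      have h5 : Nat.card (ψ.ker.map U.subtype) = Nat.card ψ.ker :=
        Nat.card_congr (Subgroup.equivMapOfInjective _ _ (Subgroup.subtype_injective _)).symm.toEquiv
      rw [← h5]
      exact Nat.card_le_card_of_injective _ (Subgroup.inclusion_injective h3)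
    have h5 : Nat.card ψ.ker * Nat.card ψ.range = Nat.card U := by
      rw [← Subgroup.index_ker]
      exact Subgroup.card_mul_index _
    calc Nat.card U = Nat.card ψ.ker * Nat.card ψ.range := h5.symm
      _ ≤ Nat.card (U ⊓ centralizer (M : Set G) : Subgroup G) * q := Nat.mul_le_mul h4 h2
      _ = _ := mul_comm _ _
  -- the Sylow group
  obtain ⟨P₀⟩ : Nonempty (Sylow 2 M) := inferInstance
  set P : Subgroup G := P₀.toSubgroup.map M.subtype with hP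
  have hPM : P ≤ M := by
    rw [hP]; exact Subgroup.map_subtype_le _
  have hP2 : IsPGroup 2 P := P₀.isPGroup'.map _
  have hPi : ¬ 2 ∣ P.relIndex M := by
    have h1 : P.subgroupOf M = P₀.toSubgroup := by
      rw [hP]; exact Subgroup.comap_map_eq_self_of_injective (Subgroup.subtype_injective M) _
    rw [Subgroup.relIndex, h1]
    exact P₀.not_dvd_index
  have i3 : Nat.card V ≤ (centralizer (U : Set G)).relIndex P := by
    have h1 := relIndex_mul_relIndex (P ⊓ centralizer (U : Set G)) P M inf_le_left hPM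
    have h2 := relIndex_mul_relIndex (P ⊓ centralizer (U : Set G)) (M ⊓ centralizer (U : Set G)) M
      (inf_le_inf_right _ hPM) inf_le_left
    rw [inf_relIndex_left] at h1
    rw [← h1, inf_relIndex_left] at h2
    have h3 : (centralizer (U : Set G)).relIndex M ∣ (centralizer (U : Set G)).relIndex P * P.relIndex M :=
      Dvd.intro_left _ h2
    rw [i1] at h3
    have h4 : Nat.Coprime (Nat.card V) (P.relIndex M) := by
      rw [hk]
      exact Nat.Coprime.pow_left _ ((Nat.Prime.coprime_iff_not_dvd Nat.prime_two).2 hPi)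
    exact Nat.le_of_dvd (relIndex_pos' _ _) (h4.dvd_of_dvd_mul_right h3)
  have i4 : Nat.card (U ⊓ centralizer (M : Set G) : Subgroup G) ≤ Nat.card (U ⊓ centralizer (P : Set G) : Subgroup G) :=
    Nat.card_le_card_of_injective _ (Subgroup.inclusion_injective (inf_le_inf_left _ (centralizer_le hPM)))
  have i5 : ff U P ≤ Nat.card U := by
    rw [← h.ffE]
    exact h.ffm.max P (h.isE_of (hPM.trans hMN) hP2)
  have q2 : 2 ≤ q := by
    rw [← h.cR]
    have h1 : Nat.card R ≠ 1 := fun h2 => h.Rne (Subgroup.card_eq_one.1 h2)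
    have h2 : 0 < Nat.card R := Nat.card_pos
    omega
  have i6 : q * q * Nat.card (U ⊓ centralizer (M : Set G) : Subgroup G) ≤ ff U P :=
    Nat.mul_le_mul (cV.trans i3) i4
  have i7 : q * Nat.card U ≤ Nat.card U := by
    calc q * Nat.card U ≤ q * (q * Nat.card (U ⊓ centralizer (M : Set G) : Subgroup G)) := Nat.mul_le_mul_left _ i2
      _ = q * q * Nat.card (U ⊓ centralizer (M : Set G) : Subgroup G) := by ring
      _ ≤ _ := i6.trans i5
  have i8 : 0 < Nat.card U := Nat.card_pos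
  nlinarith

/-- `C = C_U(L)` -/
theorem spl [Finite G] : V ⊓ (U ⊓ centralizer ((LE X₁ E : Subgroup G) : Set G)) = ⊥ ∧
    U ≤ V ⊔ (U ⊓ centralizer ((LE X₁ E : Subgroup G) : Set G)) ∧
    X₁ ≤ normalizer ((U ⊓ centralizer ((LE X₁ E : Subgroup G) : Set G) : Subgroup G) : Set G) ∧
    ∀ K ≤ X₁, K ≤ centralizer (V : Set G) → ⁅U, K⁆ ≤ U ⊓ centralizer ((LE X₁ E : Subgroup G) : Set G) := by
  classical
  set L := LE X₁ E with hL
  have hRx : cj x R ≤ V := by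
    have := cj_mono x h.RV
    rwa [cj_eq_of_mem_normalizer (h.XV h.xX)] at this
  have hXn : X₁ ≤ normalizer ((U ⊓ centralizer (L : Set G) : Subgroup G) : Set G) := by
    intro g hg
    rw [mem_normalizer_iff_cj, cj_inf, cj_centralizer, cj_eq_of_mem_normalizer (h.XU hg),
      cj_eq_of_mem_normalizer (LE_norm hg)]
  have cx : V ⊓ centralizer ((cj x E : Subgroup G) : Set G) ≤ cj x R := by
    have h1 := cj_mono x h.cent
    rwa [cj_inf, cj_centralizer, cj_eq_of_mem_normalizer (h.XV h.xX)] at h1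
  have hbot : ∀ C : Subgroup G, C ≤ centralizer (E : Set G) → C ≤ centralizer ((cj x E : Subgroup G) : Set G) → V ⊓ C = ⊥ := by
    intro C h1 h2
    rw [eq_bot_iff, ← h.opp]
    exact le_inf (le_trans (inf_le_inf_left _ h1) h.cent) (le_trans (inf_le_inf_left _ h2) cx)
  -- `C'`
  set C' : Subgroup G := U ⊓ centralizer (E : Set G) ⊓ centralizer ((cj x E : Subgroup G) : Set G) with hC'
  have b1 : V ⊓ C' = ⊥ := hbot C' (inf_le_left.trans inf_le_right) inf_le_right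
  have idx' : (centralizer ((cj x E : Subgroup G) : Set G)).relIndex U ≤ q := by
    have h1 : (centralizer ((cj x E : Subgroup G) : Set G)).relIndex (cj x U) = (centralizer (E : Set G)).relIndex U := by
      rw [← cj_centralizer, relIndex_cj]
    rw [cj_eq_of_mem_normalizer (h.XU h.xX)] at h1
    rw [h1]; exact h.idx
  have hUC : Nat.card U ≤ q * q * Nat.card C' := by
    have h1 : (centralizer (E : Set G) ⊓ centralizer ((cj x E : Subgroup G) : Set G)).relIndex U ≤ q * q :=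
      (Subgroup.relIndex_inf_le).trans (Nat.mul_le_mul h.idx idx')
    have h2 := card_mul_relIndex' (H := C') (K := U) (inf_le_left.trans inf_le_left)
    have h3 : C'.relIndex U = (centralizer (E : Set G) ⊓ centralizer ((cj x E : Subgroup G) : Set G)).relIndex U := by
      rw [hC', inf_assoc, inf_relIndex_left]
    rw [h3] at h2
    rw [← h2, mul_comm]
    exact Nat.mul_le_mul_right _ h1
  have cV : Nat.card V = q * q := by
    have hn : cj x R ≤ normalizer (R : Set G) := by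
      intro c hc
      refine centralizer_le_normalizer _ (mem_centralizer_iff.2 fun y hy => ?_)
      exact h.ab y (h.VU (h.RV hy)) c (h.VU (hRx hc))
    have h1 := card_sup_mul' hn
    rw [h.opp, card_bot, mul_one, card_cj, h.cR] at h1
    rw [← h1, le_antisymm h.VRR (sup_le h.RV hRx)]
  have hVC : V ⊔ C' = U := by
    have hn : C' ≤ normalizer (V : Set G) := by
      intro c hc
      refine centralizer_le_normalizer _ (mem_centralizer_iff.2 fun y hy => ?_)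
      exact h.ab y (h.VU hy) c hc.1.1
    have h1 := card_sup_mul' hn
    rw [b1, card_bot, mul_one, cV] at h1
    refine Subgroup.eq_of_le_of_card_ge (sup_le h.VU (inf_le_left.trans inf_le_left)) ?_
    rw [h1]; exact hUC
  -- `C' ≤ C(L)`
  have hC'L : C' ≤ centralizer (L : Set G) := by
    rw [le_centralizer_iff]
    refine iSup_le fun y => ?_
    have h1 : ∀ z ∈ cj (y : G) E, z ∈ (E ⊔ cj x E) ⊔ centralizer (V : Set G) := h.gen y y.2
    intro z hz
    have hEX : E ⊔ cj x E ≤ L := sup_le le_LE (cj_le_LE h.xX)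
    have hn : E ⊔ cj x E ≤ normalizer ((centralizer (V : Set G) : Subgroup G) : Set G) := by
      intro g hg
      have hgV := h.XV (h.L_le (hEX hg))
      rw [mem_normalizer_iff_cj, cj_centralizer, cj_eq_of_mem_normalizer hgV]
    have h2 : z ∈ ((E ⊔ cj x E : Subgroup G) : Set G) * ((centralizer (V : Set G) : Subgroup G) : Set G) := by
      rw [← Subgroup.coe_mul_of_left_le_normalizer_right _ _ hn]
      exact h1 z hz
    obtain ⟨a, ha, c, hc, hac⟩ := h2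
    have hac' : a * c = z := hac
    have hcL : c ∈ L := by
      have : c = a⁻¹ * z := by rw [← hac']; group
      rw [this]
      exact mul_mem (inv_mem (hEX ha)) (cj_le_LE y.2 hz)
    have hcU : c ∈ centralizer (U : Set G) := h.ker ⟨hcL, hc⟩
    rw [← hac']
    refine mul_mem ?_ ?_
    · have h3 : E ⊔ cj x E ≤ centralizer (C' : Set G) :=
        sup_le (le_centralizer_iff.1 (inf_le_left.trans inf_le_right)) (le_centralizer_iff.1 inf_le_right)
      exact h3 ha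
    · exact centralizer_le (inf_le_left.trans inf_le_left : C' ≤ U) hcU
  have hUV : U ≤ V ⊔ (U ⊓ centralizer (L : Set G)) := by
    rw [← hVC]
    exact sup_le_sup_left (le_inf (by rw [hVC]; exact inf_le_left.trans inf_le_left) hC'L) _
  refine ⟨hbot _ (inf_le_right.trans (centralizer_le le_LE)) (inf_le_right.trans (centralizer_le (cj_le_LE h.xX))),
    hUV, hXn, ?_⟩
  intro K hK hKV
  rw [Subgroup.commutator_le]
  intro u hu k hk
  have hVn : V ≤ normalizer ((U ⊓ centralizer (L : Set G) : Subgroup G) : Set G) := by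
    intro c hc
    refine centralizer_le_normalizer _ (mem_centralizer_iff.2 fun y hy => ?_)
    exact h.ab y hy.1 c (h.VU hc)
  have h2 : u ∈ (V : Set G) * ((U ⊓ centralizer (L : Set G) : Subgroup G) : Set G) := by
    rw [← Subgroup.coe_mul_of_left_le_normalizer_right _ _ hVn]
    exact hUV hu
  obtain ⟨v, hv, c, hc, hvc⟩ := h2
  have hvc' : v * c = u := hvc
  have h3 : v * k = k * v := mem_centralizer_iff.1 (hKV hk) v hv
  have h4 : k * c * k⁻¹ ∈ U ⊓ centralizer (L : Set G) := (mem_normalizer_iff.1 (hXn (hK hk)) _).1 hc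
  have h5 := h.ab v (h.VU hv) _ (mul_mem hc.1 (inv_mem h4.1))
  have h6 : ⁅u, k⁆ = v * (c * (k * c * k⁻¹)⁻¹) * v⁻¹ := by
    rw [commutatorElement_def, ← hvc']
    calc v * c * k * (v * c)⁻¹ * k⁻¹ = v * c * k * c⁻¹ * (k⁻¹ * (k * v⁻¹)) * k⁻¹ := by group
      _ = v * c * k * c⁻¹ * (k⁻¹ * (v⁻¹ * k)) * k⁻¹ := by
          have : k * v⁻¹ = v⁻¹ * k := by
            have h7 : v⁻¹ * (v * k) * v⁻¹ = v⁻¹ * (k * v) * v⁻¹ := by rw [h3]
            simpa [mul_assoc] using h7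
          rw [this]
      _ = _ := by group
  rw [h6, h5]
  have h7 : c * (k * c * k⁻¹)⁻¹ * v * v⁻¹ = c * (k * c * k⁻¹)⁻¹ := by group
  rw [h7]
  exact mul_mem hc (inv_mem h4)

end Sp

end Cfsg.Agent.Omega.NOThreeL.RWide.ParT
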