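import Cfsg.Agent.Omega.NOThreeL.SubFF
import Cfsg.Agent.Omega.FFBr.FinalM
import Cfsg.Agent.Omega.NO3S.SOne.NTBase

/-!
# `par` over `T`, road M (helper294 #27307): the FF theorem on a submodule, with coordinates

`T` Sylow in the minimal parabolic `P`, `W ≤ G` elementary abelian, normalised by `P`, generated by the `P`-conjugates of
`C_W(T)` (`SubFF.Sub T P W`).

* `natKM_of'`, `symKM_of'` : the coordinates of `FFBr` for any normalised `V` in the place of `zl T H`;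
* `ff` : if some subgroup of `P` offends on `W`, there is no over-offender on `W`, and with `D = C_W(O²(P))`: `AmbD T P W D`
  and `NatKM F T P W D k` or `SymKM T P W D k m`;
* `sub_of`, `inf_le_o2` : `W = ⟨F^P⟩`, `F ≤ C(T)`, satisfies `Sub T P W`; `C_T(W) ≤ O₂(P)`.
-/

set_option autoImplicit false
set_option linter.unusedSectionVars false

namespace Cfsg.Agent.Omega.NOThreeL.RWide.ParT.SubK

open Subgroup Cfsg Cfsg.Agent.ZN Cfsg.Agent.ZN.ChoiceBase Cfsg.Agent.ZN.ChoiceSit Cfsg.Agent.Omega.MinPar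
open Cfsg.Agent.Omega.FrameFF Cfsg.Agent.MinSimple.MinParabolic Cfsg.Agent.Omega.FFThm Cfsg.Agent.Omega.FFBr
open Cfsg.Agent.Lib.SL2Mat
open Cfsg.Agent.Omega.NatPair (ap)
open Cfsg.Agent.Omega.NOThreeL.SubFF (Sub)
open Cfsg.Agent.Omega.NO3S.SOne.NatD (AmbD K0 le_normalizer_K0)

universe u

variable {G : Type u} [Group G] {H V : Subgroup G}

/-- `C_V(O²(H))` -/
def DV (V H : Subgroup G) : Subgroup G := V ⊓ centralizer (MinSimple.VModule.oddGen H : Set G)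

theorem DV_le (V H : Subgroup G) : DV V H ≤ V := inf_le_left

theorem le_normalizer_DV (h : H ≤ normalizer (V : Set G)) : H ≤ normalizer (DV V H : Set G) := by
  have key : ∀ g ∈ H, ∀ x ∈ DV V H, g * x * g⁻¹ ∈ DV V H := by
    intro g hg x hx
    refine mem_inf.mpr ⟨(mem_normalizer_iff.1 (h hg) x).1 (mem_inf.mp hx).1, ?_⟩
    rw [mem_centralizer_iff]
    intro y hy
    have hy' : g⁻¹ * y * g ∈ MinSimple.VModule.oddGen H := by
      have h1 := (mem_normalizer_iff.1 (MinSimple.VModule.le_normalizer_oddGen H (inv_mem hg)) y).1 hy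
      rwa [inv_inv] at h1
    have h1 := mem_centralizer_iff.mp (mem_inf.mp hx).2 _ hy'
    calc y * (g * x * g⁻¹) = g * ((g⁻¹ * y * g) * x) * g⁻¹ := by group
      _ = g * (x * (g⁻¹ * y * g)) * g⁻¹ := by rw [h1]
      _ = g * x * g⁻¹ * y := by group
  intro g hg
  refine mem_normalizer_iff.2 fun x => ⟨key g hg x, fun h1 => ?_⟩
  have h2 := key g⁻¹ (inv_mem hg) _ h1
  have e : g⁻¹ * (g * x * g⁻¹) * g⁻¹⁻¹ = x := by group
  rwa [e] at h2

/-! ### Coordinates -/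

theorem actsSL_of' [Finite G] (h : H ≤ normalizer (V : Set G)) {F : Type} [Field F] {k : ℕ}
    (e : V → Fin k → Fin 2 → F) {g : G} (hg : g ∈ H) (A : Fin k → Matrix.SpecialLinearGroup (Fin 2) F) :
    ActsSL (ex e) V (DV V H) g A ↔ AActs e (pr h ⟨g, hg⟩) A := by
  constructor
  · rintro ⟨h1, h2⟩
    refine ⟨fun v i => ?_, fun d hd => ?_⟩
    · have := h1 v v.2 i
      rw [ex_conj h e hg v.2, ex_of e v.2] at this
      exact this
    · rw [pr_smul_eq_iff]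
      exact h2 d ⟨d.2, (mem_odd_iff h d).1 hd⟩
  · rintro ⟨h1, h2⟩
    refine ⟨fun v hv i => ?_, fun d hd => ?_⟩
    · rw [ex_conj h e hg hv, ex_of e hv]
      exact h1 _ i
    · exact (pr_smul_eq_iff h).1 (h2 ⟨d, hd.1⟩ ((mem_odd_iff h ⟨d, hd.1⟩).2 hd.2))

/-- **bridge B2, natural case** -/
noncomputable def natK_of' [Finite G] {T : Subgroup G} (hTH : T ≤ H) (h : H ≤ normalizer (V : Set G))
    {S : Subgroup (XX h)}
    (hS : ∀ x : XX h, x ∈ S ↔ ∃ t : H, (t : G) ∈ T ∧ pr h t = x) {F : Type} [Field F] {k : ℕ}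
    (a : AbsNat F S V k) : NatK F T H V (DV V H) k where
  e := ex a.e
  mul v hv w hw := by
    rw [ex_of a.e hv, ex_of a.e hw, ex_of a.e (mul_mem hv hw)]
    exact a.mul ⟨v, hv⟩ ⟨w, hw⟩
  surj x := by
    obtain ⟨v, hv⟩ := a.surj x
    exact ⟨v, v.2, by rw [ex_of a.e v.2]; exact hv⟩
  ker v hv := by
    rw [ex_of a.e hv, a.ker, mem_odd_iff]
    exact ⟨fun h1 => ⟨hv, h1⟩, fun h1 => h1.2⟩
  lift A := by
    obtain ⟨x, hx⟩ := a.lift A
    obtain ⟨⟨g, hg⟩, rfl⟩ := pr_surjective h x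
    exact ⟨g, hg, (actsSL_of' h a.e hg A).2 hx⟩
  norm g hg x hx A hA := by
    obtain ⟨B, hB⟩ := a.norm (pr h ⟨g, hg⟩) (pr h ⟨x, hx⟩) A fun v i => by
      have := hA v v.2 i
      rw [ex_conj h a.e hx v.2, ex_of a.e v.2] at this
      exact this
    refine ⟨B, fun v hv i => ?_⟩
    rw [ex_conj h a.e (mul_mem (mul_mem hg hx) (inv_mem hg)) hv, ex_of a.e hv]
    have h1 := hB ⟨v, hv⟩ i
    rw [← map_inv, ← map_mul, ← map_mul] at h1
    exact h1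
  perm g hg := by
    obtain ⟨σ, hσ⟩ := a.perm (pr h ⟨g, hg⟩)
    refine ⟨σ, fun v hv i => ?_⟩
    rw [ex_conj h a.e hg hv, ex_of a.e hv]
    exact hσ _ i
  trans i j := by
    obtain ⟨x, hx, hx'⟩ := a.trans i j
    obtain ⟨⟨t, ht⟩, htT, rfl⟩ := (hS x).1 hx
    refine ⟨t, htT, fun v hv => ?_⟩
    rw [ex_conj h a.e ht hv, ex_of a.e hv]
    exact hx' _
  line t ht := by
    obtain ⟨σ, hσ⟩ := a.line (pr h ⟨t, hTH ht⟩) ((hS _).2 ⟨⟨t, hTH ht⟩, ht, rfl⟩)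
    refine ⟨σ, fun v hv i => ?_⟩
    rw [ex_conj h a.e (hTH ht) hv, ex_of a.e hv]
    exact hσ _ i
  unip b := by
    obtain ⟨x, hx, hx'⟩ := a.unip b
    obtain ⟨⟨t, ht⟩, htT, rfl⟩ := (hS x).1 hx
    exact ⟨t, htT, (actsSL_of' h a.e ht _).2 hx'⟩
  gen K hTK hK := by
    have h1 : (K.subgroupOf H).map (pr h) = ⊤ := by
      apply a.gen
      · intro x hx
        obtain ⟨t, ht, rfl⟩ := (hS x).1 hx
        exact ⟨t, hTK ht, rfl⟩
      · intro x A hA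
        obtain ⟨⟨g, hg⟩, rfl⟩ := pr_surjective h x
        exact ⟨⟨g, hg⟩, hK g hg A ((actsSL_of' h a.e hg A).2 hA), rfl⟩
    intro g hg
    have h2 : pr h ⟨g, hg⟩ ∈ (K.subgroupOf H).map (pr h) := by rw [h1]; exact mem_top _
    obtain ⟨⟨y, hy⟩, hyK, hyg⟩ := h2
    have hyK' : y ∈ K := hyK
    -- `g y⁻¹` centralises `V`, so it acts as `1`
    have h3 : pr h (⟨g, hg⟩ * ⟨y, hy⟩⁻¹) = 1 := by rw [map_mul, map_inv, hyg, mul_inv_cancel]
    have h4 : g * y⁻¹ ∈ K := by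
      refine hK _ (mul_mem hg (inv_mem hy)) 1 ((actsSL_of' h a.e (mul_mem hg (inv_mem hy)) 1).2 ?_)
      have h5 : pr h ⟨g * y⁻¹, mul_mem hg (inv_mem hy)⟩ = 1 := h3
      rw [h5]
      refine ⟨fun v i => ?_, fun d _ => one_smul _ _⟩
      rw [one_smul]
      exact (NatPair.ap_one _).symm
    have h5 := mul_mem h4 hyK'
    rwa [inv_mul_cancel_right] at h5
  off A hA ho := by
    obtain ⟨I, h1, h2⟩ := a.off (im h A) (by
      rintro _ ⟨t, ht, rfl⟩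
      exact (hS _).2 ⟨t, hA ht, rfl⟩) (aoff_of h (hA.trans hTH) ho)
    refine ⟨I, fun t ht => ?_, fun b hb => ?_⟩
    · obtain ⟨b, hb, hb'⟩ := h1 (pr h ⟨t, hTH (hA ht)⟩) ⟨⟨t, hTH (hA ht)⟩, ht, rfl⟩
      exact ⟨b, hb, (actsSL_of' h a.e (hTH (hA ht)) _).2 hb'⟩
    · obtain ⟨_, ⟨⟨t, ht⟩, htA, rfl⟩, hb'⟩ := h2 b hb
      exact ⟨t, htA, (actsSL_of' h a.e ht _).2 hb'⟩

theorem actsSym_of' [Finite G] (h : H ≤ normalizer (V : Set G)) {k n : ℕ}
    (e : V → Fin k → Fin n → ZMod 2) {g : G} (hg : g ∈ H) (σ : Equiv.Perm (Fin k))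
    (τ : Fin k → Equiv.Perm (Fin n)) : ActsSym (ex e) V g σ τ ↔ AActsSym e (pr h ⟨g, hg⟩) σ τ := by
  constructor
  · intro h1 v i x
    have := h1 v v.2 i x
    rw [ex_conj h e hg v.2, ex_of e v.2] at this
    exact this
  · intro h1 v hv i x
    rw [ex_conj h e hg hv, ex_of e hv]
    exact h1 _ i x

theorem cen_iff' [Finite G] (h : H ≤ normalizer (V : Set G)) {g : G} (hg : g ∈ H) :
    (∀ d ∈ DV V H, g * d = d * g) ↔ ∀ d ∈ odd (XX h) V, pr h ⟨g, hg⟩ • d = d := by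
  constructor
  · intro h1 d hd
    rw [pr_smul_eq_iff]
    exact h1 d ⟨d.2, (mem_odd_iff h d).1 hd⟩
  · intro h1 d hd
    exact (pr_smul_eq_iff h).1 (h1 ⟨d, hd.1⟩ ((mem_odd_iff h ⟨d, hd.1⟩).2 hd.2))

/-- **bridge B2, symmetric case** -/
noncomputable def symK_of' [Finite G] {T : Subgroup G} (hTH : T ≤ H) (h : H ≤ normalizer (V : Set G))
    {S : Subgroup (XX h)}
    (hS : ∀ x : XX h, x ∈ S ↔ ∃ t : H, (t : G) ∈ T ∧ pr h t = x) {k m : ℕ}
    (a : AbsSym S V k m) : SymK T H V (DV V H) k m where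
  e := ex a.e
  mul v hv w hw := by
    rw [ex_of a.e hv, ex_of a.e hw, ex_of a.e (mul_mem hv hw)]
    exact a.mul ⟨v, hv⟩ ⟨w, hw⟩
  even v hv i := by
    rw [ex_of a.e hv]
    exact a.even _ i
  surj y hy := by
    obtain ⟨v, hv⟩ := a.surj y hy
    exact ⟨v, v.2, by rw [ex_of a.e v.2]; exact hv⟩
  ker v hv := by
    rw [ex_of a.e hv, a.ker, mem_odd_iff]
    exact ⟨fun h1 => ⟨hv, h1⟩, fun h1 => h1.2⟩
  lift τ := by
    obtain ⟨x, hx, hx'⟩ := a.lift τ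
    obtain ⟨⟨g, hg⟩, rfl⟩ := pr_surjective h x
    exact ⟨g, hg, (actsSym_of' h a.e hg 1 τ).2 hx, (cen_iff' h hg).2 hx'⟩
  perm g hg := by
    obtain ⟨σ, τ, h1⟩ := a.perm (pr h ⟨g, hg⟩)
    exact ⟨σ, τ, (actsSym_of' h a.e hg σ τ).2 h1⟩
  trans i j := by
    obtain ⟨x, hx, σ, τ, h1, h2⟩ := a.trans i j
    obtain ⟨⟨t, ht⟩, htT, rfl⟩ := (hS x).1 hx
    exact ⟨t, htT, σ, τ, (actsSym_of' h a.e ht σ τ).2 h1, h2⟩
  fix0 t ht σ τ h1 := a.fix0 (pr h ⟨t, hTH ht⟩) ((hS _).2 ⟨⟨t, hTH ht⟩, ht, rfl⟩) σ τ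
    ((actsSym_of' h a.e (hTH ht) σ τ).1 h1)
  gen K hTK hK := by
    have h1 : (K.subgroupOf H).map (pr h) = ⊤ := by
      apply a.gen
      · intro x hx
        obtain ⟨t, ht, rfl⟩ := (hS x).1 hx
        exact ⟨t, hTK ht, rfl⟩
      · intro x τ hτ hd
        obtain ⟨⟨g, hg⟩, rfl⟩ := pr_surjective h x
        exact ⟨⟨g, hg⟩, hK g hg τ ((actsSym_of' h a.e hg 1 τ).2 hτ) ((cen_iff' h hg).2 hd), rfl⟩
    intro g hg
    have h2 : pr h ⟨g, hg⟩ ∈ (K.subgroupOf H).map (pr h) := by rw [h1]; exact mem_top _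
    obtain ⟨⟨y, hy⟩, hyK, hyg⟩ := h2
    have hyK' : y ∈ K := hyK
    have h3 : pr h (⟨g, hg⟩ * ⟨y, hy⟩⁻¹) = 1 := by rw [map_mul, map_inv, hyg, mul_inv_cancel]
    have h4 : g * y⁻¹ ∈ K := by
      have h5 : pr h ⟨g * y⁻¹, mul_mem hg (inv_mem hy)⟩ = 1 := h3
      refine hK _ (mul_mem hg (inv_mem hy)) 1 ((actsSym_of' h a.e (mul_mem hg (inv_mem hy)) 1 1).2 ?_)
        ((cen_iff' h (mul_mem hg (inv_mem hy))).2 ?_)
      · rw [h5]
        intro v i x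
        rw [one_smul]
        rfl
      · rw [h5]
        exact fun d _ => one_smul _ _
    have h5 := mul_mem h4 hyK'
    rwa [inv_mul_cancel_right] at h5
  off A hA ho := by
    obtain ⟨h1, h2⟩ := a.off (im h A) (by
      rintro _ ⟨t, ht, rfl⟩
      exact (hS _).2 ⟨t, hA ht, rfl⟩) (aoff_of h (hA.trans hTH) ho)
    refine ⟨fun t ht => (cen_iff' h (hTH (hA ht))).2 (h1 _ ⟨⟨t, hTH (hA ht)⟩, ht, rfl⟩), fun t ht => ?_⟩
    obtain ⟨τ, h3, h4⟩ := h2 (pr h ⟨t, hTH (hA ht)⟩) ⟨⟨t, hTH (hA ht)⟩, ht, rfl⟩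
    refine ⟨τ, (actsSym_of' h a.e (hTH (hA ht)) 1 τ).2 h3, fun i x hx => ?_⟩
    obtain ⟨h5, _, ⟨⟨b, hb⟩, hbA, rfl⟩, h6⟩ := h4 i x hx
    exact ⟨h5, b, hbA, (actsSym_of' h a.e hb _ _).2 h6⟩

/-- **bridge B2, natural case, module form** -/
noncomputable def natKM_of' [Finite G] {T : Subgroup G} (hTH : T ≤ H) (h : H ≤ normalizer (V : Set G))
    {S : Subgroup (XX h)}
    (hS : ∀ x : XX h, x ∈ S ↔ ∃ t : H, (t : G) ∈ T ∧ pr h t = x) {F : Type} [Field F] {k : ℕ}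
    (a : AbsNat F S V k) : NatKM F T H V (DV V H) k where
  toNatK := natK_of' hTH h hS a
  offM A hA ho := by
    obtain ⟨I, h1, h2⟩ := a.off (im h A) (by
      rintro _ ⟨t, ht, rfl⟩
      exact (hS _).2 ⟨t, hA ht, rfl⟩) (aoff_of_offM h (hA.trans hTH) ho)
    refine ⟨I, fun t ht => ?_, fun b hb => ?_⟩
    · obtain ⟨b, hb, hb'⟩ := h1 (pr h ⟨t, hTH (hA ht)⟩) ⟨⟨t, hTH (hA ht)⟩, ht, rfl⟩
      exact ⟨b, hb, (actsSL_of' h a.e (hTH (hA ht)) _).2 hb'⟩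
    · obtain ⟨_, ⟨⟨t, ht⟩, htA, rfl⟩, hb'⟩ := h2 b hb
      exact ⟨t, htA, (actsSL_of' h a.e ht _).2 hb'⟩

/-- **bridge B2, symmetric case, module form** -/
noncomputable def symKM_of' [Finite G] {T : Subgroup G} (hTH : T ≤ H) (h : H ≤ normalizer (V : Set G))
    {S : Subgroup (XX h)}
    (hS : ∀ x : XX h, x ∈ S ↔ ∃ t : H, (t : G) ∈ T ∧ pr h t = x) {k m : ℕ}
    (a : AbsSym S V k m) : SymKM T H V (DV V H) k m where
  toSymK := symK_of' hTH h hS a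
  offM A hA ho := by
    obtain ⟨h1, h2⟩ := a.off (im h A) (by
      rintro _ ⟨t, ht, rfl⟩
      exact (hS _).2 ⟨t, hA ht, rfl⟩) (aoff_of_offM h (hA.trans hTH) ho)
    refine ⟨fun t ht => (cen_iff' h (hTH (hA ht))).2 (h1 _ ⟨⟨t, hTH (hA ht)⟩, ht, rfl⟩), fun t ht => ?_⟩
    obtain ⟨τ, h3, h4⟩ := h2 (pr h ⟨t, hTH (hA ht)⟩) ⟨⟨t, hTH (hA ht)⟩, ht, rfl⟩
    refine ⟨τ, (actsSym_of' h a.e (hTH (hA ht)) 1 τ).2 h3, fun i x hx => ?_⟩
    obtain ⟨h5, _, ⟨⟨b, hb⟩, hbA, rfl⟩, h6⟩ := h4 i x hx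
    exact ⟨h5, b, hbA, (actsSym_of' h a.e hb _ _).2 h6⟩


/-! ### The theorem -/

theorem amb_of [Finite G] {T : Subgroup G} (hTH : T ≤ H) (h : H ≤ normalizer (V : Set G)) {S : Sylow 2 (XX h)}
    {M : Subgroup (XX h)} (hM : Abs (XX h) V S M) : AmbD T H V (DV V H) := by
  have hPD := le_normalizer_DV h
  have hab : ∀ x ∈ V, ∀ y ∈ V, x * y = y * x := fun x hx y hy =>
    congrArg (Subtype.val : V → G) (hM.comm ⟨x, hx⟩ ⟨y, hy⟩)
  have hsq : ∀ x ∈ V, x * x = 1 := fun x hx => congrArg (Subtype.val : V → G) (hM.sq ⟨x, hx⟩)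
  refine ⟨hTH, h, hPD, DV_le V H, hab, hsq, fun g hg h1 h2 => ?_⟩
  set D := DV V H with hD
  let N : Subgroup (XX h) := ((K0 H V D h).subgroupOf H).map (pr h)
  have hN : N.Normal := by
    refine ⟨?_⟩
    rintro _ ⟨a, ha, rfl⟩ x
    obtain ⟨p, rfl⟩ := pr_surjective h x
    refine ⟨p * a * p⁻¹, ?_, by simp only [map_mul, map_inv]⟩
    exact (mem_normalizer_iff.1 (le_normalizer_K0 h hPD p.2) _).1 ha
  have hN2 : IsPGroup 2 N := by
    rintro ⟨_, ⟨x, hxH⟩, hx, rfl⟩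
    refine ⟨1, Subtype.ext ?_⟩
    have h5 : pr h (⟨x, hxH⟩ * ⟨x, hxH⟩) = 1 := by
      rw [pr_eq_one, mem_centralizer_iff]
      intro v hv
      obtain ⟨-, hx1, hx2⟩ : x ∈ K0 H V D h := hx
      set d := x * v * x⁻¹ * v⁻¹ with hd
      have hdD : d ∈ D := hx1 v hv
      have h2 : x * v * x⁻¹ = d * v := by rw [hd]; group
      have h3 : x * d * x⁻¹ = d := by rw [hx2 d hdD, mul_inv_cancel_right]
      have h4 : x * x * v * (x * x)⁻¹ = v := by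
        calc x * x * v * (x * x)⁻¹ = x * (x * v * x⁻¹) * x⁻¹ := by group
          _ = x * (d * v) * x⁻¹ := by rw [h2]
          _ = x * d * x⁻¹ * (x * v * x⁻¹) := by group
          _ = v := by rw [h3, h2, ← mul_assoc, hsq d (DV_le V H hdD), one_mul]
      exact (mul_inv_eq_iff_eq_mul.1 h4).symm
    show (pr h ⟨x, hxH⟩) ^ 2 ^ 1 = 1
    rw [pow_one, pow_two, ← map_mul]
    exact h5
  have h3 := hM.core N hN hN2
  have h4 : pr h ⟨g, hg⟩ ∈ N := ⟨⟨g, hg⟩, ⟨hg, h1, h2⟩, rfl⟩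
  rw [h3, mem_bot, pr_eq_one] at h4
  exact h4

/-- **THE FF THEOREM ON A SUBMODULE, WITH COORDINATES** -/
theorem ff [Finite G] {T P W A : Subgroup G} (s : Sub T P W) (hAP : A ≤ P) (ho : OffM W A) :
    NoOverM W P ∧ AmbD T P W (DV W P) ∧
      ((∃ (F : Type) (_ : Field F) (_ : Finite F) (_ : CharP F 2) (k : ℕ),
        0 < k ∧ Nonempty (NatKM F T P W (DV W P) k)) ∨
      ∃ k m : ℕ, 0 < k ∧ 2 ≤ m ∧ Nonempty (SymKM T P W (DV W P) k m)) := by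
  obtain ⟨S, M, hM, hS⟩ := s.abs_sub
  obtain ⟨h3, h4⟩ := aStmt (XX s.norm) W S M hM ⟨im s.norm A, aoff_of_offM s.norm hAP ho⟩
  refine ⟨noOverM_of s.norm h3, amb_of s.min.le s.norm hM, ?_⟩
  rcases h4 with ⟨F, i1, i2, i3, k, hk, ⟨a⟩⟩ | ⟨k, m, hk, hm, ⟨a⟩⟩
  · exact Or.inl ⟨F, i1, i2, i3, k, hk, ⟨natKM_of' s.min.le s.norm hS a⟩⟩
  · exact Or.inr ⟨k, m, hk, hm, ⟨symKM_of' s.min.le s.norm hS a⟩⟩

/-! ### `W = ⟨F^P⟩` -/

/-- `⟨F^P⟩` -/
def VF (F P : Subgroup G) : Subgroup G := ⨆ x : P, cj (x : G) F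

theorem le_VF {F P : Subgroup G} {x : G} (hx : x ∈ P) : cj x F ≤ VF F P :=
  le_iSup (fun x : P => cj (x : G) F) ⟨x, hx⟩

theorem F_le_VF (F P : Subgroup G) : F ≤ VF F P := by
  have h := le_VF (F := F) (one_mem P)
  rwa [cj_one] at h

theorem le_normalizer_VF (F P : Subgroup G) : P ≤ normalizer (VF F P : Set G) := by
  have key : ∀ g ∈ P, cj g (VF F P) ≤ VF F P := by
    intro g hg
    rw [VF, cj, Subgroup.map_iSup]
    refine iSup_le fun y => ?_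
    have e : Subgroup.map (MulAut.conj g).toMonoidHom (cj (y : G) F) = cj (g * y : G) F := cj_cj g y F
    rw [e]
    exact le_VF (mul_mem hg y.2)
  intro g hg
  rw [mem_normalizer_iff_cj]
  refine le_antisymm (key g hg) ?_
  have h1 := cj_mono g (key g⁻¹ (inv_mem hg))
  rwa [cj_cj, mul_inv_cancel, cj_one] at h1

theorem VF_le {F P U : Subgroup G} (hF : F ≤ U) (hU : P ≤ normalizer (U : Set G)) : VF F P ≤ U :=
  iSup_le fun x => (cj_mono _ hF).trans (cj_eq_of_mem_normalizer (hU x.2)).le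

/-- `⟨F^P⟩` satisfies `Sub` -/
theorem sub_of [Finite G] {T P U F : Subgroup G} (syl : Syl T P) (min : IsMinPar T P)
    (ab : ∀ a ∈ U, ∀ b ∈ U, a * b = b * a) (sq : ∀ a ∈ U, a * a = 1) (nU : P ≤ normalizer (U : Set G)) (FU : F ≤ U)
    (TF : T ≤ centralizer (F : Set G)) (o2T : o2 P ≤ T) (mv : ¬ P ≤ centralizer (F : Set G)) : Sub T P (VF F P) where
  syl := syl
  min := min
  norm := le_normalizer_VF F P
  comm := fun x hx => mem_centralizer_iff.2 fun y hy => ab y (VF_le FU nU hy) x (VF_le FU nU hx)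
  sq := fun v hv => by rw [pow_two]; exact sq v (VF_le FU nU hv)
  o2 := by
    rw [le_centralizer_iff]
    refine iSup_le fun x => ?_
    have h1 : cj (x : G) (o2 P) = o2 P := cj_eq_of_mem_normalizer (ZN.le_normalizer_o2 P x.2)
    rw [← h1, ← cj_centralizer]
    exact cj_mono _ (le_centralizer_iff.1 (o2T.trans TF))
  gen := by
    intro K hK
    refine iSup_le fun x => ?_
    intro y hy
    have h1 := mem_cj.1 hy
    have h2 := hK x x.2 _ (F_le_VF F P h1) fun t ht => (mem_centralizer_iff.1 (TF ht) _ h1).symm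
    have e : (x : G) * ((x : G)⁻¹ * y * x) * (x : G)⁻¹ = y := by group
    rwa [e] at h2
  ne := fun h => mv (h.trans (centralizer_le (F_le_VF F P)))

/-- `C_T(⟨F^P⟩) ≤ O₂(P)` -/
theorem inf_le_o2 [Finite G] {T P F : Subgroup G} (syl : Syl T P) (min : IsMinPar T P)
    (TF : T ≤ centralizer (F : Set G)) (mv : ¬ P ≤ centralizer (F : Set G)) {W : Subgroup G} (FW : F ≤ W)
    (PW : P ≤ normalizer (W : Set G)) : T ⊓ centralizer (W : Set G) ≤ o2 P := by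
  have hCn : P ≤ normalizer ((P ⊓ centralizer (W : Set G) : Subgroup G) : Set G) := by
    intro g hg
    rw [mem_normalizer_iff_cj, cj_inf, cj_centralizer, cj_eq_of_mem_normalizer (PW hg),
      cj_eq_of_mem_normalizer (Subgroup.le_normalizer hg)]
  rcases min.sup_eq_or_inf_le (p := 2) syl.2.1 (syl_not_dvd syl) inf_le_left hCn with h1 | h1
  · exfalso
    apply mv
    rw [← h1]
    exact sup_le (inf_le_right.trans (centralizer_le FW)) TF
  · exact (le_inf inf_le_left (le_inf (inf_le_left.trans min.le) inf_le_right)).trans h1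

end Cfsg.Agent.Omega.NOThreeL.RWide.ParT.SubK
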