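import Cfsg.Agent.ZN.ChoiceBase
import Cfsg.Agent.ZN.Block

/-!
# Box R, `parT`: the TWIN LEMMA (bb #27013)

`T` a 2-group, Sylow in `H = K ⊔ K'`, `U` elementary abelian, generated by the `H`-conjugates of a subgroup `F` which is
centralised by `T`; `V`, `V' ≤ U` of order `q²`, `R ≤ V ⊓ V'` of order `q`, `K` (`K'`) acts on `V` (`V'`) like a minimal
parabolic of `SL₂(q)` with fields.

* `Twin.Half` : the data of one side;
* `Twin.TW` : both sides, `R` is a TI-subgroup;
* **`Twin.TW.eq : V = V'`**.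
-/

set_option autoImplicit false
set_option linter.unusedSectionVars false

namespace Cfsg.Agent.Omega.NOThreeL.RWide.ParT.Twin

open Subgroup Cfsg Cfsg.Agent.ZN
open scoped commutatorElement
open Cfsg.Agent.ZN.ChoiceBase (cj cj_mono cj_inf cj_centralizer cj_eq_of_mem_normalizer mem_cj mem_normalizer_iff_cj
  cj_cj_inv cj_inv_cj cj_cj card_cj isPGroup_cj cj_le_iff)
open Cfsg.Agent.ZN.Block (card_mul_relIndex' card_sup_mul_card_inf)

universe u

variable {G : Type u} [Group G]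

/-- one side of the twin situation -/
structure Half (T K U V R F : Subgroup G) (q : ℕ) : Prop where
  TK : T ≤ K
  VU : V ≤ U
  RV : R ≤ V
  KV : K ≤ normalizer (V : Set G)
  cV : Nat.card V = q * q
  tr : ∀ v ∈ V, v ≠ 1 → ∃ f ∈ F, ∃ k ∈ K, k * f * k⁻¹ = v
  nC : K ≤ normalizer ((T ⊓ centralizer (V : Set G) : Subgroup G) : Set G)
  no : ∀ A : Subgroup G, A ≤ T → IsElementaryAbelian 2 A → ¬ A ≤ centralizer (V : Set G) →
    (centralizer (V : Set G)).relIndex A ≤ (centralizer (A : Set G)).relIndex V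
  ex : ∀ A : Subgroup G, A ≤ T → IsElementaryAbelian 2 A → ¬ A ≤ centralizer (V : Set G) →
    (centralizer (V : Set G)).relIndex A = (centralizer (A : Set G)).relIndex V →
    ⁅V, A⁆ = R ∧ (centralizer (A : Set G)).relIndex V = q

/-- the twin situation -/
structure TW (T K K' U V V' R F : Subgroup G) (q : ℕ) : Prop where
  two : IsPGroup 2 T
  syl : ¬ 2 ∣ T.relIndex (K ⊔ K')
  Fne : F ≠ ⊥
  FR : F ≤ R
  TF : T ≤ centralizer (F : Set G)
  cR : Nat.card R = q
  eU : IsElementaryAbelian 2 U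
  nU : K ⊔ K' ≤ normalizer (U : Set G)
  gU : ∀ X : Subgroup G, F ≤ X → K ⊔ K' ≤ normalizer (X : Set G) → U ≤ X
  h1 : Half T K U V R F q
  h2 : Half T K' U V' R F q
  ti : ∀ g ∈ K ⊔ K', R ⊓ cj g R ≠ ⊥ → cj g R = R
  A0 : ∃ A : Subgroup G, A ≤ T ∧ IsElementaryAbelian 2 A ∧ ¬ A ≤ centralizer (U : Set G) ∧
    (centralizer (A : Set G)).relIndex U ≤ (centralizer (U : Set G)).relIndex A

theorem TW.symm {T K K' U V V' R F : Subgroup G} {q : ℕ} (h : TW T K K' U V V' R F q) :
    TW T K' K U V' V R F q where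
  two := h.two
  syl := by rw [sup_comm]; exact h.syl
  Fne := h.Fne
  FR := h.FR
  TF := h.TF
  cR := h.cR
  eU := h.eU
  nU := by rw [sup_comm]; exact h.nU
  gU := by rw [sup_comm]; exact h.gU
  h1 := h.h2
  h2 := h.h1
  ti := by rw [sup_comm]; exact h.ti
  A0 := h.A0

/-- the quantity `|A : C_A(U)| |C_U(A)|` -/
noncomputable def ff (U A : Subgroup G) : ℕ :=
  (centralizer (U : Set G)).relIndex A * Nat.card (U ⊓ centralizer (A : Set G) : Subgroup G)

/-- the elementary abelian subgroups of `T` which move `U` -/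
def EA (T U A : Subgroup G) : Prop :=
  A ≤ T ∧ IsElementaryAbelian 2 A ∧ ¬ A ≤ centralizer (U : Set G)

/-- the best members, of minimal index -/
def AB (T U A : Subgroup G) : Prop :=
  EA T U A ∧ (∀ B, EA T U B → ff U B ≤ ff U A) ∧
    ∀ B, EA T U B → ff U B = ff U A → (centralizer (U : Set G)).relIndex A ≤ (centralizer (U : Set G)).relIndex B

theorem exists_AB [Finite G] {T U : Subgroup G} (h : ∃ A, EA T U A) : ∃ A, AB T U A := by
  classical
  obtain ⟨A0, hA0⟩ := h
  obtain ⟨A1, hA1, hm1⟩ := (Set.toFinite {A | EA T U A}).exists_maximalFor (ff U) _ ⟨A0, hA0⟩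
  obtain ⟨A, hA, hm⟩ := (Set.toFinite {A | EA T U A ∧ ff U A = ff U A1}).exists_minimalFor
    (fun A => (centralizer (U : Set G)).relIndex A) _ ⟨A1, hA1, rfl⟩
  refine ⟨A, hA.1, fun B hB => ?_, fun B hB hf => ?_⟩
  · rw [hA.2]
    by_contra hc
    exact hc (hm1 hB (not_le.1 hc).le)
  · by_contra hc
    exact hc (hm ⟨hB, hf.trans hA.2⟩ (not_le.1 hc).le)

theorem relIndex_cj (g : G) (A B : Subgroup G) : (cj g A).relIndex (cj g B) = A.relIndex B :=
  relIndex_map_map_of_injective A B (MulAut.conj g).injective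

theorem ea_cj (g : G) {A : Subgroup G} (h : IsElementaryAbelian 2 A) : IsElementaryAbelian 2 (cj g A) := by
  obtain ⟨h1, h2⟩ := h
  refine ⟨⟨⟨?_⟩⟩, ?_⟩
  · rintro ⟨_, a, ha, rfl⟩ ⟨_, b, hb, rfl⟩
    have := h1.1.comm ⟨a, ha⟩ ⟨b, hb⟩
    have h3 : a * b = b * a := congrArg Subtype.val this
    apply Subtype.ext
    show (MulAut.conj g).toMonoidHom a * (MulAut.conj g).toMonoidHom b = _ * _
    rw [← map_mul, h3, map_mul]
  · rintro _ ⟨a, ha, rfl⟩
    rw [← map_pow, h2 a ha, map_one]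

theorem cj_cent_eq {g : G} {U : Subgroup G} (hg : g ∈ normalizer (U : Set G)) :
    cj g (centralizer (U : Set G)) = centralizer (U : Set G) := by
  rw [cj_centralizer, cj_eq_of_mem_normalizer hg]

theorem ff_cj {g : G} {U : Subgroup G} (hg : g ∈ normalizer (U : Set G)) (A : Subgroup G) :
    ff U (cj g A) = ff U A ∧
      (centralizer (U : Set G)).relIndex (cj g A) = (centralizer (U : Set G)).relIndex A := by
  have h1 : (centralizer (U : Set G)).relIndex (cj g A) = (centralizer (U : Set G)).relIndex A := by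
    conv_lhs => rw [← cj_cent_eq hg]
    exact relIndex_cj g _ _
  refine ⟨?_, h1⟩
  unfold ff
  rw [h1]
  congr 1
  have h2 : U ⊓ centralizer ((cj g A : Subgroup G) : Set G) = cj g (U ⊓ centralizer (A : Set G)) := by
    rw [cj_inf, cj_centralizer, cj_eq_of_mem_normalizer hg]
  rw [h2]
  exact card_cj g _

theorem inf_cent_cj {g : G} {U : Subgroup G} (hg : g ∈ normalizer (U : Set G)) (A : Subgroup G) :
    U ⊓ centralizer ((cj g A : Subgroup G) : Set G) = cj g (U ⊓ centralizer (A : Set G)) := by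
  rw [cj_inf, cj_centralizer, cj_eq_of_mem_normalizer hg]

theorem le_cent_cj_iff {g : G} {U A : Subgroup G} (hg : g ∈ normalizer (U : Set G)) :
    cj g A ≤ centralizer (U : Set G) ↔ A ≤ centralizer (U : Set G) := by
  constructor
  · intro h
    have h1 := cj_mono g⁻¹ h
    rwa [cj_inv_cj, cj_cent_eq (inv_mem hg)] at h1
  · intro h
    have h1 := cj_mono g h
    rwa [cj_cent_eq hg] at h1

/-- conjugates in `T` of members are members -/
theorem AB.cj {T U A : Subgroup G} (h : AB T U A) {g : G} (hg : g ∈ normalizer (U : Set G))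
    (hT : ChoiceBase.cj g A ≤ T) : AB T U (ChoiceBase.cj g A) := by
  obtain ⟨⟨h1, h2, h3⟩, h4, h5⟩ := h
  obtain ⟨e1, e2⟩ := ff_cj hg A
  refine ⟨⟨hT, ea_cj g h2, fun hc => h3 ((le_cent_cj_iff hg).1 hc)⟩, ?_, ?_⟩
  · rw [e1]; exact h4
  · rw [e1, e2]; exact h5

theorem comm_cent {A B : Subgroup G} (h : A ≤ centralizer (B : Set G)) : B ≤ centralizer (A : Set G) := by
  intro b hb
  rw [mem_centralizer_iff]
  intro a ha
  exact (mem_centralizer_iff.1 (h ha) b hb).symm

theorem ea_comm {A : Subgroup G} (h : IsElementaryAbelian 2 A) : A ≤ centralizer (A : Set G) := by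
  intro a ha
  rw [mem_centralizer_iff]
  intro b hb
  exact congrArg Subtype.val (h.1.1.comm ⟨b, hb⟩ ⟨a, ha⟩)

theorem ea_mono {A B : Subgroup G} (h : IsElementaryAbelian 2 B) (hAB : A ≤ B) : IsElementaryAbelian 2 A := by
  refine ⟨⟨⟨?_⟩⟩, fun a ha => h.2 a (hAB ha)⟩
  rintro ⟨a, ha⟩ ⟨b, hb⟩
  have := h.1.1.comm ⟨a, hAB ha⟩ ⟨b, hAB hb⟩
  exact Subtype.ext (congrArg Subtype.val this : a * b = b * a)

section cut

variable [Finite G] {T K U V R F : Subgroup G} {q : ℕ}

/-- **CUT** -/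
theorem cut (h : Half T K U V R F q) (eU : IsElementaryAbelian 2 U)
    (A0 : ∃ A : Subgroup G, A ≤ T ∧ IsElementaryAbelian 2 A ∧ ¬ A ≤ centralizer (U : Set G) ∧
      (centralizer (A : Set G)).relIndex U ≤ (centralizer (U : Set G)).relIndex A)
    {A : Subgroup G} (hA : AB T U A) (hV : ¬ A ≤ centralizer (V : Set G)) :
    ⁅U, A⁆ = R ∧ (centralizer (A : Set G)).relIndex U = q ∧ (centralizer (A : Set G)).relIndex V = q := by
  obtain ⟨⟨hAT, hAe, hAU⟩, hmax, hmin⟩ := hA
  have hno := h.no A hAT hAe hV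
  set CU := centralizer (U : Set G) with hCU
  set CV := centralizer (V : Set G) with hCV
  set CA := centralizer (A : Set G) with hCA
  set a := CV.relIndex A with ha
  set v := CA.relIndex V with hv
  set A1 := A ⊓ CV with hA1
  have hUV : CU ≤ CV := centralizer_le h.VU
  -- `|V ⊔ C_U(A)| = v |C_U(A)|`
  set c := Nat.card (U ⊓ CA : Subgroup G) with hc
  have hcpos : 0 < c := Nat.card_pos
  have hcomU : U ≤ centralizer (U : Set G) := ea_comm eU
  have e1 : Nat.card (V ⊔ (U ⊓ CA) : Subgroup G) = v * c := by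
    have h1 : V ≤ normalizer ((U ⊓ CA : Subgroup G) : Set G) :=
      (h.VU.trans (hcomU.trans (centralizer_le (inf_le_left : U ⊓ CA ≤ U)))).trans (centralizer_le_normalizer _)
    have h2 := card_sup_mul_card_inf h1
    have h3 : V ⊓ (U ⊓ CA) = V ⊓ CA := by
      rw [← inf_assoc, inf_eq_left.2 h.VU]
    rw [h3] at h2
    have h4 : Nat.card (V ⊓ CA : Subgroup G) * v = Nat.card V := by
      have := card_mul_relIndex' (inf_le_left : V ⊓ CA ≤ V)
      rwa [inf_relIndex_left] at this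
    have h5 : 0 < Nat.card (V ⊓ CA : Subgroup G) := Nat.card_pos
    apply Nat.eq_of_mul_eq_mul_right h5
    rw [h2, ← h4]
    ring
  have hle1 : V ⊔ (U ⊓ CA) ≤ U := sup_le h.VU inf_le_left
  -- `f(A) ≥ |U|`
  have hfA : ff U A = CU.relIndex A * c := rfl
  have hUf : Nat.card U ≤ ff U A := by
    obtain ⟨B, hB1, hB2, hB3, hB4⟩ := A0
    refine le_trans ?_ (hmax B ⟨hB1, hB2, hB3⟩)
    have h4 : Nat.card (U ⊓ centralizer (B : Set G) : Subgroup G) * (centralizer (B : Set G)).relIndex U = Nat.card U := by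
      have := card_mul_relIndex' (inf_le_left : U ⊓ centralizer (B : Set G) ≤ U)
      rwa [inf_relIndex_left] at this
    rw [← h4, ff, mul_comm]
    exact Nat.mul_le_mul_right _ hB4
  -- index of `A1`
  have e2 : CU.relIndex A1 * a = CU.relIndex A := by
    have h1 := relIndex_mul_relIndex (A ⊓ CU) A1 A (inf_le_inf_left _ hUV) inf_le_left
    rw [inf_relIndex_left, hA1, inf_relIndex_left] at h1
    rw [← h1, ha, hA1]
    congr 1
    rw [← inf_relIndex_right CU (A ⊓ CV), ← inf_relIndex_right (A ⊓ CU) (A ⊓ CV)]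
    congr 1
    apply le_antisymm
    · exact le_inf (le_inf (inf_le_right.trans inf_le_left) inf_le_left) inf_le_right
    · exact le_inf (inf_le_left.trans inf_le_right) inf_le_right
  have ha1 : 1 < a := by
    rcases Nat.lt_or_ge 1 a with h1 | h1
    · exact h1
    · exfalso
      have h2 : a ≠ 0 := by
        rw [ha]; exact index_ne_zero_of_finite (H := CV.subgroupOf A)
      have h3 : a = 1 := by omega
      exact hV (relIndex_eq_one.1 h3)
  have hposU : ∀ B : Subgroup G, 0 < CU.relIndex B := fun B => Nat.pos_of_ne_zero (index_ne_zero_of_finite (H := CU.subgroupOf B))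
  -- `C_U(A1) ≥ V C_U(A)`
  have e3 : v * c ≤ Nat.card (U ⊓ centralizer (A1 : Set G) : Subgroup G) := by
    rw [← e1]
    apply Subgroup.card_le_of_le
    refine sup_le (le_inf h.VU (comm_cent inf_le_right)) (le_inf inf_le_left ?_)
    exact inf_le_right.trans (centralizer_le inf_le_left)
  have hA1U : A1 ≤ CU := by
    by_contra hcon
    have hE : EA T U A1 := ⟨inf_le_left.trans hAT, ea_mono hAe inf_le_left, hcon⟩
    have h1 := hmax A1 hE
    have h2 : ff U A ≤ ff U A1 := by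
      rw [hfA, ← e2, ff, mul_assoc]
      exact Nat.mul_le_mul_left _ ((Nat.mul_le_mul_right _ hno).trans e3)
    have h3 := hmin A1 hE (le_antisymm h1 h2)
    rw [← e2] at h3
    have h4 := hposU A1
    nlinarith
  have e4 : CU.relIndex A = a := by
    rw [← e2, relIndex_eq_one.2 hA1U, one_mul]
  have h5 : Nat.card U ≤ a * c := by
    rw [hfA, e4] at hUf; exact hUf
  have h6 : Nat.card (V ⊔ (U ⊓ CA) : Subgroup G) ≤ Nat.card U := Subgroup.card_le_of_le hle1
  rw [e1] at h6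
  have h7 : a * c ≤ v * c := Nat.mul_le_mul_right _ hno
  have h8 : v = a := by
    have : a * c = v * c := le_antisymm h7 (h6.trans h5)
    exact (Nat.eq_of_mul_eq_mul_right hcpos this).symm
  have h9 : V ⊔ (U ⊓ CA) = U := by
    apply Subgroup.eq_of_le_of_card_ge hle1
    rw [e1, h8]
    exact h5
  obtain ⟨h10, h11⟩ := h.ex A hAT hAe hV h8.symm
  refine ⟨?_, ?_, h11⟩
  · apply le_antisymm
    · rw [commutator_le]
      intro u hu x hx
      rw [← h9] at hu
      have hn : V ≤ normalizer ((U ⊓ CA : Subgroup G) : Set G) :=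
        (h.VU.trans (hcomU.trans (centralizer_le (inf_le_left : U ⊓ CA ≤ U)))).trans (centralizer_le_normalizer _)
      have hu' : u ∈ ((V ⊔ (U ⊓ CA) : Subgroup G) : Set G) := hu
      rw [coe_mul_of_left_le_normalizer_right V (U ⊓ CA) hn] at hu'
      obtain ⟨w, hw, c, hc, rfl⟩ := Set.mem_mul.mp hu'
      have hcx : c * x = x * c := (mem_centralizer_iff.1 hc.2 x hx).symm
      have e : ⁅w * c, x⁆ = ⁅w, x⁆ := by
        rw [commutatorElement_def, commutatorElement_def]
        calc w * c * x * (w * c)⁻¹ * x⁻¹ = w * (c * x) * c⁻¹ * w⁻¹ * x⁻¹ := by group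
          _ = w * (x * c) * c⁻¹ * w⁻¹ * x⁻¹ := by rw [hcx]
          _ = w * x * w⁻¹ * x⁻¹ := by group
      rw [e, ← h10]
      exact commutator_mem_commutator hw hx
    · rw [← h10]
      exact commutator_mono h.VU le_rfl
  · have h12 : c * CA.relIndex U = Nat.card U := by
      have := card_mul_relIndex' (inf_le_left : U ⊓ CA ≤ U)
      rwa [inf_relIndex_left] at this
    have h13 : Nat.card U = v * c := by rw [← h9, e1]
    rw [← h11]
    apply Nat.eq_of_mul_eq_mul_left hcpos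
    rw [h12, h13]
    ring

end cut

/-- members centralising `V`: conjugates under `K` -/
theorem Half.cj_mem {T K U V R F : Subgroup G} {q : ℕ} (h : Half T K U V R F q) (nU : K ≤ normalizer (U : Set G))
    {A : Subgroup G} (hA : AB T U A) (hV : A ≤ centralizer (V : Set G)) {k : G} (hk : k ∈ K) :
    AB T U (cj k A) ∧ cj k A ≤ centralizer (V : Set G) := by
  have h1 : cj k A ≤ T ⊓ centralizer (V : Set G) := by
    rw [← cj_eq_of_mem_normalizer (h.nC hk)]
    exact cj_mono k (le_inf hA.1.1 hV)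
  exact ⟨hA.cj (nU hk) (h1.trans inf_le_left), h1.trans inf_le_right⟩

theorem comm_cj {U A : Subgroup G} {k : G} (hk : k ∈ normalizer (U : Set G)) : ⁅U, cj k A⁆ = cj k ⁅U, A⁆ := by
  have h1 : cj k ⁅U, A⁆ = ⁅cj k U, cj k A⁆ := map_commutator U A _
  rw [h1, cj_eq_of_mem_normalizer hk]

theorem card_sup_of_inf {U A B : Subgroup G} [Finite G] (eU : IsElementaryAbelian 2 U) (hA : A ≤ U) (hB : B ≤ U)
    (h : A ⊓ B = ⊥) : Nat.card (A ⊔ B : Subgroup G) = Nat.card A * Nat.card B := by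
  have h1 := card_sup_mul_card_inf (H := A) (N := B)
    ((hA.trans ((ea_comm eU).trans (centralizer_le hB))).trans (centralizer_le_normalizer _))
  rw [h] at h1
  simpa using h1

/-- Sylow's theorem in `N` -/
theorem exists_conj_le [Finite G] {N T X : Subgroup G} (hT : IsPGroup 2 T) (hd : ¬ 2 ∣ T.relIndex N)
    (hX : IsPGroup 2 X) (hXN : X ≤ N) : ∃ c ∈ N, cj c X ≤ T := by
  have : Fact (Nat.Prime 2) := ⟨Nat.prime_two⟩
  have hX' : IsPGroup 2 (X.subgroupOf N) := hX.comap_subtype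
  obtain ⟨S2, hS2⟩ := hX'.exists_le_sylow
  obtain ⟨c, hc⟩ := MulAction.exists_smul_eq N S2
    ((hT.comap_of_injective _ N.subtype_injective).toSylow hd)
  refine ⟨c, c.2, ?_⟩
  rintro _ ⟨x, hx, rfl⟩
  have h1 : (⟨x, hXN hx⟩ : N) ∈ (S2 : Subgroup N) := hS2 (Subgroup.mem_subgroupOf.mpr hx)
  have h2 : c * ⟨x, hXN hx⟩ * c⁻¹ ∈ ((c • S2 : Sylow 2 N) : Subgroup N) := by
    rw [Sylow.coe_subgroup_smul]
    exact Subgroup.smul_mem_pointwise_smul _ (MulAut.conj c) _ h1
  rw [hc] at h2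
  exact mem_subgroupOf.1 h2

namespace TW

variable {T K K' U V V' R F : Subgroup G} {q : ℕ} (h : TW T K K' U V V' R F q)
include h

theorem nK : K ≤ normalizer (U : Set G) := le_sup_left.trans h.nU

theorem inf_bot {g : G} (hg : g ∈ K ⊔ K') (hne : cj g R ≠ R) : R ⊓ cj g R = ⊥ := by
  by_contra hc
  exact hne (h.ti g hg hc)

variable [Finite G]

theorem RneBot : R ≠ ⊥ := by
  intro e
  apply h.Fne
  rw [eq_bot_iff, ← e]
  exact h.FR

theorem one_lt : 1 < q := by
  rw [← h.cR]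
  exact (one_lt_card_iff_ne_bot R).2 h.RneBot

/-- vectors of `V` outside `R` -/
theorem exists_not_mem : ∃ v ∈ V, v ∉ R := by
  by_contra hc
  push Not at hc
  have h1 : V ≤ R := hc
  have h2 := Subgroup.card_le_of_le h1
  rw [h.h1.cV, h.cR] at h2
  have := h.one_lt
  nlinarith

theorem exists_ne {v : G} (hv : v ∈ V) (hR : v ∉ R) : ∃ k ∈ K, v ∈ cj k R ∧ cj k R ≠ R := by
  have h1 : v ≠ 1 := fun e => hR (e ▸ one_mem R)
  obtain ⟨f, hf, k, hk, rfl⟩ := h.h1.tr v hv h1
  have h2 : k * f * k⁻¹ ∈ cj k R := by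
    rw [mem_cj]
    have e : k⁻¹ * (k * f * k⁻¹) * k = f := by group
    rw [e]
    exact h.FR hf
  refine ⟨k, hk, h2, fun e => hR ?_⟩
  rwa [e] at h2

theorem inf_eq (hne : V ≠ V') : V ⊓ V' = R := by
  apply le_antisymm
  · intro v hv
    by_contra hR
    obtain ⟨k, hk, hvk, hk2⟩ := h.exists_ne hv.1 hR
    obtain ⟨k', hk', hvk', -⟩ := h.symm.exists_ne hv.2 hR
    have hkH : k ∈ K ⊔ K' := mem_sup_left hk
    have hk'H : k' ∈ K ⊔ K' := mem_sup_right hk'
    have h1 : cj (k⁻¹ * k') R = R := by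
      refine h.ti _ (mul_mem (inv_mem hkH) hk'H) fun e => ?_
      have h2 : k⁻¹ * v * k ∈ R := mem_cj.1 hvk
      have h3 : k⁻¹ * v * k ∈ cj (k⁻¹ * k') R := by
        rw [mem_cj]
        have h4 := mem_cj.1 hvk'
        have e2 : (k⁻¹ * k')⁻¹ * (k⁻¹ * v * k) * (k⁻¹ * k') = k'⁻¹ * v * k' := by group
        rwa [e2]
      have h5 : k⁻¹ * v * k ∈ R ⊓ cj (k⁻¹ * k') R := ⟨h2, h3⟩
      rw [e, mem_bot] at h5
      apply hR
      have h6 : v = 1 := by
        have e3 : v = k * (k⁻¹ * v * k) * k⁻¹ := by group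
        rw [e3, h5]; group
      rw [h6]; exact one_mem R
    have h2 : cj k' R = cj k R := by
      have h3 := congrArg (cj k) h1
      rw [cj_cj] at h3
      have e2 : k * (k⁻¹ * k') = k' := by group
      rwa [e2] at h3
    have h3 : cj k R ≤ V ⊓ V' := by
      refine le_inf ?_ ?_
      · rw [← cj_eq_of_mem_normalizer (h.h1.KV hk)]
        exact cj_mono k h.h1.RV
      · rw [← h2, ← cj_eq_of_mem_normalizer (h.h2.KV hk')]
        exact cj_mono k' h.h2.RV
    have h4 : R ⊔ cj k R ≤ V ⊓ V' := sup_le (le_inf h.h1.RV h.h2.RV) h3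
    have h5 := card_sup_of_inf h.eU (h.h1.RV.trans h.h1.VU) ((h3.trans inf_le_left).trans h.h1.VU)
      (h.inf_bot hkH hk2)
    rw [card_cj, h.cR] at h5
    have h6 : V ⊓ V' = V := Subgroup.eq_of_le_of_card_ge inf_le_left
      (by rw [h.h1.cV, ← h5]; exact Subgroup.card_le_of_le h4)
    have h7 : V ⊓ V' = V' := Subgroup.eq_of_le_of_card_ge inf_le_right
      (by rw [h.h2.cV, ← h5]; exact Subgroup.card_le_of_le h4)
    exact hne (h6.symm.trans h7)
  · exact le_inf h.h1.RV h.h2.RV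

theorem centre {A : Subgroup G} (hA : AB T U A) (hV : ¬ A ≤ centralizer (V : Set G)) : ⁅U, A⁆ = R :=
  (cut h.h1 h.eU h.A0 hA hV).1

/-- `(RL')` : an element `g` of `K` with `[U, g] ≤ V` centralises `R^y` -/
theorem rl (hne : V ≠ V') {A : Subgroup G} (hA : AB T U A) (hV : ¬ A ≤ centralizer (V : Set G))
    (hV' : A ≤ centralizer (V' : Set G)) {y : G} (hy : y ∈ K') (hyR : cj y R ≠ R) {g : G} (hg : g ∈ K)
    (hgU : ∀ u ∈ U, g * u * g⁻¹ * u⁻¹ ∈ V) : ∀ r ∈ cj y R, g * r = r * g := by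
  have hyH : y ∈ K ⊔ K' := mem_sup_right hy
  have hgH : g ∈ K ⊔ K' := mem_sup_left hg
  have hcA := h.centre hA hV
  -- `B = A^y`
  obtain ⟨hB, hBV'⟩ := h.h2.cj_mem h.symm.nK hA hV' hy
  have hcB : ⁅U, cj y A⁆ = cj y R := by rw [comm_cj (h.nU hyH), hcA]
  have hBV : cj y A ≤ centralizer (V : Set G) := by
    by_contra hc
    exact hyR (hcB.symm.trans (h.centre hB hc))
  -- `g` normalises `C_U(B)`
  have hgN : cj g (U ⊓ centralizer ((cj y A : Subgroup G) : Set G)) = U ⊓ centralizer ((cj y A : Subgroup G) : Set G) := by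
    refine cj_eq_of_mem_normalizer (ChoiceBase.mem_normalizer_of_cj_le ?_)
    rintro _ ⟨u, hu, rfl⟩
    have h1 : (MulAut.conj g).toMonoidHom u = (g * u * g⁻¹ * u⁻¹) * u := by
      simp [MulAut.conj_apply]
    rw [h1]
    refine mul_mem ?_ hu
    have h2 := hgU u hu.1
    exact ⟨h.h1.VU h2, comm_cent hBV h2⟩
  obtain ⟨hC, hCV⟩ := h.h1.cj_mem h.nK hB hBV hg
  have hCc : ⁅U, cj g (cj y A)⁆ = cj g (cj y R) := by rw [comm_cj (h.nU hgH), hcB]
  have hinf := h.inf_eq hne
  have hyV' : cj y R ≤ V' := by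
    rw [← cj_eq_of_mem_normalizer (h.h2.KV hy)]
    exact cj_mono y h.h2.RV
  have hCV' : cj g (cj y A) ≤ centralizer (V' : Set G) := by
    by_contra hc
    have h1 : cj g (cj y R) = R := hCc.symm.trans (h.symm.centre hC hc)
    have h2 : cj y R ≤ V := by
      have h3 : cj y R = cj g⁻¹ R := by
        have := congrArg (cj g⁻¹) h1
        rwa [cj_inv_cj] at this
      rw [h3, ← cj_eq_of_mem_normalizer (h.h1.KV (inv_mem hg))]
      exact cj_mono _ h.h1.RV
    apply hyR
    exact Subgroup.eq_of_le_of_card_ge ((le_inf h2 hyV').trans hinf.le) (by rw [card_cj])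
  obtain ⟨hD, hDV'⟩ := h.h2.cj_mem h.symm.nK hC hCV' (inv_mem hy)
  have hUD : U ⊓ centralizer ((cj y⁻¹ (cj g (cj y A)) : Subgroup G) : Set G) = U ⊓ centralizer (A : Set G) := by
    rw [inf_cent_cj (inv_mem (h.nU hyH)), inf_cent_cj (h.nU hgH), hgN, inf_cent_cj (h.nU hyH), cj_inv_cj]
  have hDV : ¬ cj y⁻¹ (cj g (cj y A)) ≤ centralizer (V : Set G) := by
    intro hc
    apply hV
    have h1 : V ≤ U ⊓ centralizer ((cj y⁻¹ (cj g (cj y A)) : Subgroup G) : Set G) := le_inf h.h1.VU (comm_cent hc)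
    rw [hUD] at h1
    exact comm_cent (h1.trans inf_le_right)
  have hDc : cj y⁻¹ (cj g (cj y R)) = R := by
    have := h.centre hD hDV
    rwa [comm_cj (inv_mem (h.nU hyH)), hCc] at this
  have hgy : cj g (cj y R) = cj y R := by
    have h1 := congrArg (cj y) hDc
    rwa [cj_cj_inv] at h1
  intro r hr
  have h1 : g * r * g⁻¹ * r⁻¹ ∈ cj y R := by
    refine mul_mem ?_ (inv_mem hr)
    rw [← hgy, mem_cj]
    have e : g⁻¹ * (g * r * g⁻¹) * g = r := by group
    rwa [e]
  have h2 : g * r * g⁻¹ * r⁻¹ ∈ V := hgU r (h.h2.VU (hyV' hr))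
  have h3 : g * r * g⁻¹ * r⁻¹ ∈ R ⊓ cj y R := ⟨hinf ▸ ⟨h2, hyV' h1⟩, h1⟩
  rw [h.inf_bot hyH hyR, mem_bot] at h3
  have e : g * r = (g * r * g⁻¹ * r⁻¹) * (r * g) := by group
  rw [e, h3, one_mul]

/-- **`A` moves `V` iff it moves `V'`** -/
theorem moves (hne : V ≠ V') {A : Subgroup G} (hA : AB T U A) (hV : ¬ A ≤ centralizer (V : Set G)) :
    ¬ A ≤ centralizer (V' : Set G) := by
  intro hV'
  have hcA := h.centre hA hV
  have key : ∀ k ∈ K, cj k A ≤ centralizer (R : Set G) := by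
    rintro k hk _ ⟨a, ha, rfl⟩
    have e0 : (MulAut.conj k).toMonoidHom a = k * a * k⁻¹ := by simp
    rw [e0]
    set g := k * a * k⁻¹ with hgdef
    have hgK : g ∈ K := mul_mem (mul_mem hk (h.h1.TK (hA.1.1 ha))) (inv_mem hk)
    have hgU : ∀ u ∈ U, g * u * g⁻¹ * u⁻¹ ∈ V := by
      intro u hu
      have hu' : k⁻¹ * u * k ∈ U := by
        have := (mem_normalizer_iff.1 (inv_mem (h.nK hk)) u).1 hu
        rwa [inv_inv] at this
      have h1 : ⁅k⁻¹ * u * k, a⁆ ∈ R := by rw [← hcA]; exact commutator_mem_commutator hu' ha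
      have h2 : k * (⁅k⁻¹ * u * k, a⁆)⁻¹ * k⁻¹ ∈ V :=
        (mem_normalizer_iff.1 (h.h1.KV hk) _).1 (h.h1.RV (inv_mem h1))
      have e : g * u * g⁻¹ * u⁻¹ = k * (⁅k⁻¹ * u * k, a⁆)⁻¹ * k⁻¹ := by
        rw [commutatorElement_def, hgdef]; group
      rw [e]; exact h2
    have hout : ∀ v ∈ V', v ∉ R → g * v = v * g := by
      intro v hv hvR
      obtain ⟨y, hy, hvy, hyR⟩ := h.symm.exists_ne hv hvR
      exact h.rl hne hA hV hV' hy hyR hgK hgU v hvy
    obtain ⟨w, hw, hwR⟩ := h.symm.exists_not_mem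
    rw [mem_centralizer_iff]
    intro r hr
    have h1 := hout w hw hwR
    have h2 := hout (r * w) (mul_mem (h.h2.RV hr) hw) fun hc => hwR (by
      have := mul_mem (inv_mem hr) hc
      rwa [inv_mul_cancel_left] at this)
    have h3 : (r * g) * w = (g * r) * w := by
      calc (r * g) * w = r * (g * w) := by group
        _ = r * (w * g) := by rw [h1]
        _ = (r * w) * g := by group
        _ = g * (r * w) := h2.symm
        _ = (g * r) * w := by group
    exact mul_right_cancel h3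
  -- `C_V(A) = R`
  have hcV : V ⊓ centralizer (A : Set G) = R := by
    have h1 : R ≤ V ⊓ centralizer (A : Set G) := by
      refine le_inf h.h1.RV (comm_cent ?_)
      have := key 1 (one_mem _)
      rwa [ChoiceBase.cj_one] at this
    have h2 := (cut h.h1 h.eU h.A0 hA hV).2.2
    have h3 := card_mul_relIndex' (inf_le_left : V ⊓ centralizer (A : Set G) ≤ V)
    rw [inf_relIndex_left, h2, h.h1.cV] at h3
    have h4 := h.one_lt
    refine (Subgroup.eq_of_le_of_card_ge h1 ?_).symm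
    rw [h.cR]
    exact (Nat.eq_of_mul_eq_mul_right (by omega) h3).le
  obtain ⟨v, hv, hvR⟩ := h.exists_not_mem
  obtain ⟨k, hk, -, hkR⟩ := h.exists_ne hv hvR
  have h1 : R ≤ cj k R := by
    have h2 : V ⊓ centralizer ((cj k A : Subgroup G) : Set G) = cj k R := by
      rw [inf_cent_cj (h.h1.KV hk), hcV]
    rw [← h2]
    exact le_inf h.h1.RV (comm_cent (key k hk))
  exact hkR (Subgroup.eq_of_le_of_card_ge h1 (by rw [card_cj])).symm

/-- **all members move `V`** -/
theorem all_move (hne : V ≠ V') {A : Subgroup G} (hA : AB T U A) : ¬ A ≤ centralizer (V : Set G) := by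
  intro hAV
  have tr : ∀ {B : Subgroup G}, AB T U B → (B ≤ centralizer (V : Set G) ↔ B ≤ centralizer (V' : Set G)) := by
    intro B hB
    constructor
    · intro h1
      by_contra h2
      exact h.symm.moves (Ne.symm hne) hB h2 h1
    · intro h1
      by_contra h2
      exact h.moves hne hB h2 h1
  set 𝓙 : Set (Subgroup G) := {B | AB T U B ∧ B ≤ centralizer (V : Set G)} with h𝓙
  set J := sSup 𝓙 with hJ
  have hnorm : ∀ k, (∀ B ∈ 𝓙, cj k B ∈ 𝓙) → cj k J ≤ J := by
    intro k hk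
    rw [hJ, cj, Subgroup.map_le_iff_le_comap]
    exact sSup_le fun B hB => Subgroup.map_le_iff_le_comap.1 (le_sSup (hk B hB))
  have hK : K ≤ normalizer (J : Set G) := by
    intro k hk
    exact ChoiceBase.mem_normalizer_of_cj_le (hnorm k fun B hB => h.h1.cj_mem h.nK hB.1 hB.2 hk)
  have hK' : K' ≤ normalizer (J : Set G) := by
    intro k hk
    refine ChoiceBase.mem_normalizer_of_cj_le (hnorm k fun B hB => ?_)
    obtain ⟨h1, h2⟩ := h.h2.cj_mem h.symm.nK hB.1 ((tr hB.1).1 hB.2) hk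
    exact ⟨h1, (tr h1).2 h2⟩
  have hJT : J ≤ T := sSup_le fun B hB => hB.1.1.1
  have h1 : U ≤ centralizer (J : Set G) := by
    refine h.gU _ (comm_cent (hJT.trans h.TF)) (sup_le ?_ ?_)
    · intro k hk
      rw [mem_normalizer_iff_cj, cj_centralizer, cj_eq_of_mem_normalizer (hK hk)]
    · intro k hk
      rw [mem_normalizer_iff_cj, cj_centralizer, cj_eq_of_mem_normalizer (hK' hk)]
  exact hA.1.2.2 ((le_sSup (show A ∈ 𝓙 from ⟨hA, hAV⟩)).trans (comm_cent h1))

/-- **The TWIN LEMMA.** -/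
theorem eq : V = V' := by
  by_contra hne
  have hEA : ∃ A, EA T U A := by
    obtain ⟨A, h1, h2, h3, -⟩ := h.A0
    exact ⟨A, h1, h2, h3⟩
  obtain ⟨A, hA⟩ := exists_AB hEA
  have hAV := h.all_move hne hA
  obtain ⟨v, hv, hvR⟩ := h.exists_not_mem
  obtain ⟨k, hk, -, hkR⟩ := h.exists_ne hv hvR
  have hkH : k ∈ K ⊔ K' := mem_sup_left hk
  obtain ⟨B, hB⟩ : ∃ B, B = cj k A := ⟨_, rfl⟩
  have hq := h.one_lt
  -- `|U : C_U(B)| = q`
  have h1 : (centralizer (B : Set G)).relIndex U = q := by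
    have e := relIndex_cj k (centralizer (A : Set G)) U
    rw [cj_centralizer, cj_eq_of_mem_normalizer (h.nU hkH)] at e
    rw [hB, e]
    exact (cut h.h1 h.eU h.A0 hA hAV).2.1
  have h2 : (centralizer (B : Set G)).relIndex V' ≤ q := by
    rw [← h1]
    exact relIndex_le_of_le_right h.h2.VU (index_ne_zero_of_finite (H := (centralizer (B : Set G)).subgroupOf U))
  have h3 : q ≤ Nat.card (V' ⊓ centralizer (B : Set G) : Subgroup G) := by
    have h4 := card_mul_relIndex' (inf_le_left : V' ⊓ centralizer (B : Set G) ≤ V')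
    rw [inf_relIndex_left, h.h2.cV] at h4
    by_contra hc
    push Not at hc
    have h5 : Nat.card (V' ⊓ centralizer (B : Set G) : Subgroup G) * (centralizer (B : Set G)).relIndex V' < q * q :=
      lt_of_le_of_lt (Nat.mul_le_mul_left _ h2) (Nat.mul_lt_mul_of_pos_right hc (by omega))
    omega
  have h4 : V' ⊓ centralizer (B : Set G) ≤ cj k R := by
    intro y hy
    by_cases hy1 : y = 1
    · rw [hy1]; exact one_mem _
    obtain ⟨f, hf, t, ht, hft⟩ := h.h2.tr y hy.1 hy1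
    have htH : t ∈ K ⊔ K' := mem_sup_right ht
    set L := (K ⊔ K') ⊓ centralizer ({y} : Set G) with hL
    have hTt : cj t T ≤ L := by
      rintro _ ⟨s, hs, rfl⟩
      have e0 : (MulAut.conj t).toMonoidHom s = t * s * t⁻¹ := by simp
      rw [e0, hL]
      refine mem_inf.2 ⟨mul_mem (mul_mem htH (mem_sup_left (h.h1.TK hs))) (inv_mem htH), ?_⟩
      rw [mem_centralizer_singleton_iff, ← hft]
      have h5 := mem_centralizer_iff.1 (h.TF hs) f hf
      calc t * s * t⁻¹ * (t * f * t⁻¹) = t * (s * f) * t⁻¹ := by group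
        _ = t * (f * s) * t⁻¹ := by rw [h5]
        _ = t * f * t⁻¹ * (t * s * t⁻¹) := by group
    have hd : ¬ 2 ∣ (cj t T).relIndex L := by
      intro h5
      apply h.syl
      have h6 : (cj t T).relIndex (K ⊔ K') = T.relIndex (K ⊔ K') := by
        rw [← relIndex_cj t T (K ⊔ K'), cj_eq_of_mem_normalizer (le_normalizer htH)]
      rw [← h6]
      have h7 := relIndex_mul_relIndex (cj t T) L (K ⊔ K') hTt inf_le_left
      exact h5.trans (Dvd.intro _ h7)
    have hBL : B ≤ L := by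
      refine le_inf ?_ ?_
      · rw [hB]
        rintro _ ⟨a, ha, rfl⟩
        exact mul_mem (mul_mem hkH (mem_sup_left (h.h1.TK (hA.1.1 ha)))) (inv_mem hkH)
      · intro b hb
        rw [mem_centralizer_singleton_iff]
        exact (mem_centralizer_iff.1 hy.2 b hb)
    have hB2 : IsPGroup 2 B := by rw [hB]; exact isPGroup_cj k (h.two.to_le hA.1.1)
    obtain ⟨c, hc, hcB⟩ := exists_conj_le (isPGroup_cj t h.two) hd hB2 hBL
    have hcH : c ∈ K ⊔ K' := hc.1
    have h5 : cj (t⁻¹ * c * k) A ≤ T := by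
      have := cj_mono t⁻¹ hcB
      rwa [cj_inv_cj, hB, cj_cj, cj_cj] at this
    have hH : t⁻¹ * c * k ∈ K ⊔ K' := mul_mem (mul_mem (inv_mem htH) hcH) hkH
    have h6 := hA.cj (h.nU hH) h5
    have h7 := h.centre h6 (h.all_move hne h6)
    rw [comm_cj (h.nU hH), h.centre hA hAV] at h7
    -- `R^(ck) = R^t`
    have h8 : f ∈ cj (t⁻¹ * c * k) R := by rw [h7]; exact h.FR hf
    rw [mem_cj] at h8 ⊢
    have hcy : c * y = y * c := mem_centralizer_singleton_iff.1 hc.2
    have e : (t⁻¹ * c * k)⁻¹ * f * (t⁻¹ * c * k) = k⁻¹ * y * k := by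
      have e1 : f = t⁻¹ * y * t := by rw [← hft]; group
      rw [e1]
      calc (t⁻¹ * c * k)⁻¹ * (t⁻¹ * y * t) * (t⁻¹ * c * k) = k⁻¹ * (c⁻¹ * (y * c)) * k := by group
        _ = k⁻¹ * (c⁻¹ * (c * y)) * k := by rw [hcy]
        _ = k⁻¹ * y * k := by group
    rwa [e] at h8
  have h5 : V' ⊓ centralizer (B : Set G) = cj k R :=
    Subgroup.eq_of_le_of_card_ge h4 (by rw [card_cj, h.cR]; exact h3)
  have h6 : cj k R ≤ V ⊓ V' := by
    refine le_inf ?_ ?_
    · rw [← cj_eq_of_mem_normalizer (h.h1.KV hk)]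
      exact cj_mono k h.h1.RV
    · rw [← h5]; exact inf_le_left
  rw [h.inf_eq hne] at h6
  exact hkR (Subgroup.eq_of_le_of_card_ge h6 (by rw [card_cj]))

end TW


end Cfsg.Agent.Omega.NOThreeL.RWide.ParT.Twin
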