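import Cfsg.Agent.Omega.NOThreeL.RRed.Blk.TypesClo

/-!
# NO-3L, `parT`: UNIQUENESS ((3) of helper294 #26826, (7) of helper971 #26838)

`X` acts faithfully on `V` (`v + v = 0`), two natural `SL₂`'s on `V` : `Bk e f ⊥ up lo` over `F`, `Bk e' f' ⊥ up' lo'` over
`F'`, with the SAME root group `rt up = rt up'`; `T ∈ Syl₂(X)` normalises both, and `C_T(e(F)) ≤ rt up`.

* **`clo_eq`** : `clo up lo = clo up' lo'` (all `|F|`).
* `HG_of` : `{x : trivial on e(F) and on V/e(F)} ≤ rt up`.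
-/

set_option autoImplicit false
set_option linter.unusedSectionVars false

namespace Cfsg.Agent.Omega.NOThreeL.RWide.ParT.Uniq

open Cfsg.Agent.Omega.NOThreeL.RRed.NS (fxd mem_fxd)
open Cfsg.Agent.Omega.NOThreeL.RRed.Blk.TypesGam
open Cfsg.Agent.Omega.NOThreeL.RRed.Blk.TypesEq
open Cfsg.Agent.Omega.NOThreeL.RRed.Blk.TypesClo
open scoped Pointwise

universe u v w w'

variable {X : Type u} {V : Type v} [Group X] [AddCommGroup V] [DistribMulAction X V]
variable {F : Type w} [Field F] {e f : F →+ V} {up lo : F → X}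
variable {F' : Type w'} [Field F'] {e' f' : F' →+ V} {up' lo' : F' → X}

/-- the elements trivial on `e(F)` and on `V/e(F)` are in the root group -/
def HG (e f : F →+ V) (up : F → X) : Prop :=
  ∀ x : X, (∀ z, x • e z = e z) → (∀ z, ∃ s, x • f z = f z + e s) → x ∈ rt up

/-! ### 1. reduction to `e' = e`, `up' = up` -/

theorem dec0 (h : Bk e f ⊥ up lo) (v : V) : ∃ x y, v = e x + f y := by
  obtain ⟨x, y, c, hc, e1⟩ := h.dec v
  exact ⟨x, y, by rw [e1, AddSubgroup.mem_bot.1 hc, add_zero]⟩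

theorem uniq0 (h : Bk e f ⊥ up lo) {x y x' y' : F} (e1 : e x + f y = e x' + f y') : x = x' ∧ y = y' := by
  have e2 : e x + f y + 0 = e x' + f y' + 0 := by rw [e1]
  obtain ⟨h1, h2, -⟩ := h.uniq (AddSubgroup.zero_mem _) (AddSubgroup.zero_mem _) e2
  exact ⟨h1, h2⟩

theorem inj0 (h : Bk e f ⊥ up lo) {x x' : F} (e1 : e x = e x') : x = x' :=
  (uniq0 h (y := 0) (y' := 0) (by rw [e1])).1

theorem exists_red (h : Bk e f ⊥ up lo) (h' : Bk e' f' ⊥ up' lo') (h2 : ∀ v : V, v + v = 0)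
    (hf : ∀ x : X, (∀ v : V, x • v = v) → x = 1) (hrt : rt up = rt up') :
    ∃ (β : F →+ F) (f₁ : F →+ V) (lo₁ : F → X), (∀ y, f₁ y = f y + e (β y)) ∧ Bk e f₁ ⊥ up lo₁ ∧
      clo up lo₁ = clo up' lo' := by
  obtain ⟨θ, a, b, ha, hb, hbij, hup, he, hff⟩ := exists_cmp h h' h2 hf hrt
  have h1 : ∀ y, ∃ x, f' y = e x + f (θ y * b) := by
    intro y
    obtain ⟨x, c, hc, e1⟩ := hff y
    exact ⟨x, by rw [e1, AddSubgroup.mem_bot.1 hc, add_zero]⟩
  choose α hα using h1
  let φ : F' ≃+* F := RingEquiv.ofBijective θ hbij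
  have hφ : ∀ x, θ (φ.symm x) = x := fun x => φ.apply_symm_apply x
  let f₁ : F →+ V := f'.comp ((φ.symm : F →+* F').toAddMonoidHom.comp (AddMonoidHom.mulLeft b⁻¹))
  have hf₁ : ∀ y, f₁ y = f' (φ.symm (b⁻¹ * y)) := fun _ => rfl
  have hf1 : ∀ y, f₁ y = f y + e (α (φ.symm (b⁻¹ * y))) := by
    intro y
    rw [hf₁, hα, hφ, mul_comm b⁻¹ y, inv_mul_cancel_right₀ hb, add_comm]
  let β : F →+ F := AddMonoidHom.mk' (fun y => α (φ.symm (b⁻¹ * y))) (by
    intro x y
    apply inj0 h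
    have e1 := hf1 (x + y)
    rw [map_add f₁, hf1 x, hf1 y, map_add f] at e1
    rw [map_add e]
    have e2 : f x + f y + (e (α (φ.symm (b⁻¹ * x))) + e (α (φ.symm (b⁻¹ * y))))
        = f x + f y + e (α (φ.symm (b⁻¹ * (x + y)))) := by
      rw [← e1]; abel
    exact (add_left_cancel e2).symm)
  have hβ : ∀ y, f₁ y = f y + e (β y) := hf1
  have hex : ∀ x, e x = e' (φ.symm (a⁻¹ * (x * b⁻¹))) := by
    intro x
    rw [he, hφ, mul_inv_cancel_left₀ ha, inv_mul_cancel_right₀ hb]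
  refine ⟨β, f₁, fun t => lo' (φ.symm (a * t)), hβ, ?_, ?_⟩
  · refine
      { dec := fun v => ?_
        ind := fun x y hxy => ?_
        up_e := h.up_e
        up_f := fun t x => ?_
        up_c := h.up_c
        lo_e := fun t x => ?_
        lo_f := fun t x => ?_
        lo_c := fun t c hc => h'.lo_c _ c hc }
    · obtain ⟨x, y, rfl⟩ := dec0 h v
      refine ⟨x + β y, y, 0, AddSubgroup.zero_mem _, ?_⟩
      rw [hβ, map_add, add_zero]
      have : e x + e (β y) + (f y + e (β y)) = e x + f y + (e (β y) + e (β y)) := by abel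
      rw [this, h2, add_zero]
    · rw [hβ] at hxy
      have h3 : e x + (f y + e (β y)) = e (x + β y) + f y := by rw [map_add]; abel
      rw [h3] at hxy
      obtain ⟨h4, h5⟩ := h.ind _ _ hxy
      rw [h5, map_zero, add_zero] at h4
      exact ⟨h4, h5⟩
    · rw [hβ, smul_add, h.up_f, h.up_e]; abel
    · rw [hex, h'.lo_e, hf₁, ← map_mul φ.symm]
      congr 3
      field_simp
    · rw [hf₁, h'.lo_f]
  · apply le_antisymm
    · refine (Subgroup.closure_le _).2 ?_
      rintro x (⟨t, rfl⟩ | ⟨t, rfl⟩)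
      · have e1 : up t = up' (φ.symm (a⁻¹ * t)) := by rw [← hup, hφ, mul_inv_cancel_left₀ ha]
        rw [e1]; exact up_mem_clo up' lo' _
      · exact lo_mem_clo up' lo' _
    · refine (Subgroup.closure_le _).2 ?_
      rintro x (⟨t, rfl⟩ | ⟨t, rfl⟩)
      · rw [← hup]; exact up_mem_clo up _ _
      · refine Subgroup.subset_closure (Or.inr ⟨a⁻¹ * θ t, ?_⟩)
        change lo' (φ.symm (a * (a⁻¹ * θ t))) = lo' t
        rw [mul_inv_cancel_left₀ ha]
        congr 1
        exact φ.symm_apply_apply t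

/-! ### 2. `up s` moves `f` to `f + e (s ·)` -/

theorem shift (h : Bk e f ⊥ up lo) (h2 : ∀ v : V, v + v = 0) (s : F) :
    ∃ (f₂ : F →+ V) (lo₂ : F → X), (∀ y, f₂ y = f y + e (s * y)) ∧ Bk e f₂ ⊥ up lo₂ ∧ clo up lo₂ = clo up lo := by
  refine ⟨f + e.comp (AddMonoidHom.mulLeft s), fun t => up s * lo t * (up s)⁻¹, fun _ => rfl, ?_, ?_⟩
  · have hβ : ∀ y, (f + e.comp (AddMonoidHom.mulLeft s)) y = f y + e (s * y) := fun _ => rfl
    have ui : ∀ x, (up s)⁻¹ • e x = e x := fun x => by rw [inv_smul_eq_iff, h.up_e]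
    have uf : ∀ x, (up s)⁻¹ • (f x + e (s * x)) = f x := fun x => by rw [inv_smul_eq_iff, h.up_f]
    refine
      { dec := fun v => ?_
        ind := fun x y hxy => ?_
        up_e := h.up_e
        up_f := fun t x => ?_
        up_c := h.up_c
        lo_e := fun t x => ?_
        lo_f := fun t x => ?_
        lo_c := fun t c hc => ?_ }
    · obtain ⟨x, y, rfl⟩ := dec0 h v
      refine ⟨x + s * y, y, 0, AddSubgroup.zero_mem _, ?_⟩
      rw [hβ, map_add, add_zero]
      have : e x + e (s * y) + (f y + e (s * y)) = e x + f y + (e (s * y) + e (s * y)) := by abel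
      rw [this, h2, add_zero]
    · rw [hβ] at hxy
      have h3 : e x + (f y + e (s * y)) = e (x + s * y) + f y := by rw [map_add]; abel
      rw [h3] at hxy
      obtain ⟨h4, h5⟩ := h.ind _ _ hxy
      rw [h5, mul_zero, add_zero] at h4
      exact ⟨h4, h5⟩
    · rw [hβ, smul_add, h.up_f, h.up_e]; abel
    · rw [mul_smul, mul_smul, ui, h.lo_e, smul_add, h.up_e, h.up_f, hβ]
    · rw [hβ, mul_smul, mul_smul, uf, h.lo_f, h.up_f]
    · rw [AddSubgroup.mem_bot] at hc
      rw [hc, smul_zero]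
  · apply le_antisymm
    · refine (Subgroup.closure_le _).2 ?_
      rintro x (⟨t, rfl⟩ | ⟨t, rfl⟩)
      · exact up_mem_clo up lo _
      · exact mul_mem (mul_mem (up_mem_clo up lo _) (lo_mem_clo up lo _)) (inv_mem (up_mem_clo up lo _))
    · have hu : ∀ t, up t ∈ clo up (fun t => up s * lo t * (up s)⁻¹) := fun t => up_mem_clo up _ t
      refine (Subgroup.closure_le _).2 ?_
      rintro x (⟨t, rfl⟩ | ⟨t, rfl⟩)
      · exact hu t
      · have e1 : lo t = (up s)⁻¹ * (up s * lo t * (up s)⁻¹) * up s := by group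
        rw [e1]
        exact mul_mem (mul_mem (inv_mem (hu s)) (lo_mem_clo up (fun t => up s * lo t * (up s)⁻¹) t)) (hu s)

/-- same data ==> same group -/
theorem lo_eq {f₁ : F →+ V} {lo₁ : F → X} (h : Bk e f ⊥ up lo) (h1 : Bk e f₁ ⊥ up lo₁)
    (hf : ∀ x : X, (∀ v : V, x • v = v) → x = 1) (e1 : ∀ y, f₁ y = f y) : clo up lo₁ = clo up lo := by
  have : lo₁ = lo := by
    funext t
    refine h.ext hf (fun z => ?_) (fun z => ?_) fun c hc => ?_
    · rw [h1.lo_e, h.lo_e, e1]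
    · rw [← e1, h1.lo_f, e1, h.lo_f]
    · rw [AddSubgroup.mem_bot] at hc
      rw [hc, smul_zero, smul_zero]
  rw [this]

/-! ### 3. the cocycle -/

section coc

variable {f₁ : F →+ V} {lo₁ : F → X} {β : F →+ F}

theorem coc (h : Bk e f ⊥ up lo) (h1 : Bk e f₁ ⊥ up lo₁) (hβ : ∀ y, f₁ y = f y + e (β y)) (h2 : ∀ v : V, v + v = 0)
    (hf : ∀ x : X, (∀ v : V, x • v = v) → x = 1) (hG : HG e f up) {c : F} (hc : c ≠ 0) :
    ∃ t, ∀ z, t * z = β z + c * β (c * z) := by
  have k1 : ∀ z, (hh up lo₁ c * (hh up lo c)⁻¹) • f z = f z + e (β z + c * β (c * z)) := by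
    intro z
    have e1 : f (c * z) = f₁ (c * z) + e (β (c * z)) := by
      rw [hβ, add_assoc, h2, add_zero]
    rw [mul_smul, h.hhi_f h2 hc, e1, smul_add, h1.hh_f h2 hc, h1.hh_e h2 hc, inv_mul_cancel_left₀ hc, hβ, map_add]
    abel
  have k2 : hh up lo₁ c * (hh up lo c)⁻¹ ∈ rt up := by
    refine hG _ (fun z => ?_) fun z => ⟨_, k1 z⟩
    rw [mul_smul, h.hhi_e h2 hc, h1.hh_e h2 hc, mul_inv_cancel_left₀ hc]
  obtain ⟨t, ht⟩ := (h.mem_rt h2 hf).1 k2
  refine ⟨t, fun z => ?_⟩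
  have e1 := k1 z
  rw [← ht, h.up_f] at e1
  exact inj0 h (add_left_cancel e1)

theorem gam0 (h : Bk e f ⊥ up lo) (h1 : Bk e f₁ ⊥ up lo₁) (hβ : ∀ y, f₁ y = f y + e (β y)) (h2 : ∀ v : V, v + v = 0)
    (hf : ∀ x : X, (∀ v : V, x • v = v) → x = 1) (hG : HG e f up) [Finite F] (h4 : 4 < Nat.card F) (z : F) :
    β z = β 1 * z := by
  have two := h.two h2
  have k3 : β z + β 1 * z = 0 := by
    refine cocycle two h4 (γ := fun z => β z + β 1 * z) (fun x y => ?_) (fun c z hc => ?_) z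
    · rw [map_add]; ring
    · obtain ⟨t, ht⟩ := coc h h1 hβ h2 hf hG hc
      have e1 := ht (c⁻¹ * z)
      have e2 := ht 1
      rw [mul_inv_cancel_left₀ hc] at e1
      rw [mul_one, mul_one] at e2
      change β (c⁻¹ * z) + β 1 * (c⁻¹ * z) = c * (β z + β 1 * z) + z * (β c + β 1 * c)
      have e3 : β (c⁻¹ * z) = t * (c⁻¹ * z) + c * β z := by
        rw [e1, add_assoc, two, add_zero]
      rw [e3, e2]
      have e4 : (β 1 + c * β c) * (c⁻¹ * z) + c * β z + β 1 * (c⁻¹ * z)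
          = (β 1 * (c⁻¹ * z) + β 1 * (c⁻¹ * z)) + (c * c⁻¹) * (β c * z) + c * β z := by ring
      have e5 : c * (β z + β 1 * z) + z * (β c + β 1 * c)
          = (c * β 1 * z + c * β 1 * z) + 1 * (β c * z) + c * β z := by ring
      rw [e4, e5, two, two, mul_inv_cancel₀ hc]
  have e3 : β z + β 1 * z = β 1 * z + β 1 * z := by rw [k3, two]
  exact add_right_cancel e3

end coc

/-! ### 4. the field with four elements -/

section four

theorem exists_om [Finite F] (two : ∀ x : F, x + x = 0) (h4 : Nat.card F = 4) :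
    ∃ ω : F, ω * ω = ω + 1 ∧ ω ≠ 0 ∧ ∀ z : F, z = 0 ∨ z = 1 ∨ z = ω ∨ z = ω + 1 := by
  classical
  have h1 : ∃ ω : F, ω ≠ 0 ∧ ω ≠ 1 := by
    by_contra hcon
    push Not at hcon
    have h3 : (Set.univ : Set F) ⊆ {0, 1} := fun x _ => by
      by_cases hx : x = 0
      · exact Or.inl hx
      · exact Or.inr (hcon x hx)
    have h5 : Nat.card F ≤ 2 :=
      calc Nat.card F = Set.ncard (Set.univ : Set F) := (Set.ncard_univ F).symm
        _ ≤ Set.ncard ({0, 1} : Set F) := Set.ncard_le_ncard h3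
        _ ≤ 2 := by
          have := Set.ncard_insert_le (0 : F) {1}
          rwa [Set.ncard_singleton] at this
    omega
  obtain ⟨ω, h0, h1⟩ := h1
  have n1 : ω + 1 ≠ 0 := by
    intro h
    apply h1
    have : ω + 1 = 1 + 1 := by rw [h, two]
    exact add_right_cancel this
  have n2 : ω + 1 ≠ 1 := fun h => h0 (by simpa using h)
  have n3 : ω ≠ ω + 1 := fun h => one_ne_zero (α := F) (by simpa using h.symm)
  have := Fintype.ofFinite F
  have hall : ({0, 1, ω, ω + 1} : Finset F) = Finset.univ := by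
    refine Finset.eq_univ_of_card _ ?_
    rw [← Nat.card_eq_fintype_card, h4, Finset.card_insert_of_notMem, Finset.card_insert_of_notMem,
      Finset.card_insert_of_notMem, Finset.card_singleton]
    · rw [Finset.mem_singleton]; exact n3
    · rw [Finset.mem_insert, Finset.mem_singleton]
      rintro (h | h)
      · exact h1 h.symm
      · exact n2 h.symm
    · rw [Finset.mem_insert, Finset.mem_insert, Finset.mem_singleton]
      rintro (h | h | h)
      · exact zero_ne_one h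
      · exact h0 h.symm
      · exact n1 h.symm
  have hz : ∀ z : F, z = 0 ∨ z = 1 ∨ z = ω ∨ z = ω + 1 := by
    intro z
    have := Finset.mem_univ z
    rw [← hall] at this
    simpa using this
  refine ⟨ω, ?_, h0, hz⟩
  rcases hz (ω * ω) with h | h | h | h
  · exact absurd (mul_self_eq_zero.1 h) h0
  · exfalso
    apply n1
    have e1 : (ω + 1) * (ω + 1) = ω * ω + 1 + (ω + ω) := by ring
    rw [h, two, two, add_zero] at e1
    exact mul_self_eq_zero.1 e1
  · exact absurd (mul_right_cancel₀ h0 (h.trans (one_mul ω).symm)) h1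
  · exact h

variable {ω : F}

theorem p4 (two : ∀ x : F, x + x = 0) (hω : ω * ω = ω + 1) (hz : ∀ z : F, z = 0 ∨ z = 1 ∨ z = ω ∨ z = ω + 1) (z : F) :
    z * z * (z * z) = z := by
  have t2 : (2 : F) = 0 := by rw [← one_add_one_eq_two]; exact two 1
  rcases hz z with rfl | rfl | rfl | rfl
  · ring
  · ring
  · rw [hω]; linear_combination hω + (z + 1) * t2
  · linear_combination (ω * ω + 5 * ω + 12) * hω + (10 * ω + 6) * t2

theorem p3 (two : ∀ x : F, x + x = 0) (hω : ω * ω = ω + 1) (hz : ∀ z : F, z = 0 ∨ z = 1 ∨ z = ω ∨ z = ω + 1) {z : F}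
    (h0 : z ≠ 0) : z * z * z = 1 := by
  apply mul_right_cancel₀ h0
  rw [one_mul]
  conv_rhs => rw [← p4 two hω hz z]
  ring

theorem exists_ka (two : ∀ x : F, x + x = 0) (hω : ω * ω = ω + 1)
    (hz : ∀ z : F, z = 0 ∨ z = 1 ∨ z = ω ∨ z = ω + 1) (β : F →+ F) :
    ∃ κ, ∀ z, β z = (β 1 + κ) * z + κ * (z * z) := by
  have t2 : (2 : F) = 0 := by rw [← one_add_one_eq_two]; exact two 1
  refine ⟨β ω + β 1 * ω, fun z => ?_⟩
  rcases hz z with rfl | rfl | rfl | rfl
  · rw [map_zero]; ring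
  · linear_combination (-(β ω + β 1 * ω)) * t2
  · rw [hω]; linear_combination (-(β z) * z - β 1 * z * z - β 1 * z) * t2
  · rw [map_add]; linear_combination (-(β ω + β 1 * ω)) * hω + (-(β ω) - 2 * (β 1 * ω) - 2 * ((β ω + β 1 * ω) * ω)) * t2

end four

/-! ### 5. linear elements; elements which normalise `clo up lo` and the root group are semilinear -/

/-- `F`-linear elements -/
def Ln (e f : F →+ V) (x : X) : Prop :=
  ∀ c x₁ y₁ x₂ y₂, x • (e x₁ + f y₁) = e x₂ + f y₂ → x • (e (c * x₁) + f (c * y₁)) = e (c * x₂) + f (c * y₂)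

theorem ln_of_mem (h : Bk e f ⊥ up lo) {x : X} (hx : x ∈ clo up lo) : Ln e f x := by
  refine Subgroup.closure_induction (p := fun x _ => Ln e f x) ?_ ?_ ?_ ?_ hx
  · rintro x (⟨t, rfl⟩ | ⟨t, rfl⟩) c x₁ y₁ x₂ y₂ e1
    · rw [smul_add, h.up_e, h.up_f] at e1
      have e2 : e (x₁ + t * y₁) + f y₁ = e x₂ + f y₂ := by rw [← e1, map_add]; abel
      obtain ⟨rfl, rfl⟩ := uniq0 h e2
      rw [smul_add, h.up_e, h.up_f, mul_add, map_add, mul_left_comm t c]
      abel
    · rw [smul_add, h.lo_e, h.lo_f] at e1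
      have e2 : e x₁ + f (t * x₁ + y₁) = e x₂ + f y₂ := by rw [← e1, map_add]; abel
      obtain ⟨rfl, rfl⟩ := uniq0 h e2
      rw [smul_add, h.lo_e, h.lo_f, mul_add, map_add, mul_left_comm t c]
      abel
  · intro c x₁ y₁ x₂ y₂ e1
    rw [one_smul] at e1
    obtain ⟨rfl, rfl⟩ := uniq0 h e1
    rw [one_smul]
  · intro x y _ _ hx hy c x₁ y₁ x₂ y₂ e1
    obtain ⟨x₃, y₃, e3⟩ := dec0 h (y • (e x₁ + f y₁))
    rw [mul_smul, e3] at e1
    rw [mul_smul, hy c _ _ _ _ e3]
    exact hx c _ _ _ _ e1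
  · intro x _ hx c x₁ y₁ x₂ y₂ e1
    rw [inv_smul_eq_iff] at e1 ⊢
    exact (hx c _ _ _ _ e1.symm).symm

theorem sl (h : Bk e f ⊥ up lo) (h2 : ∀ v : V, v + v = 0) (hf : ∀ x : X, (∀ v : V, x • v = v) → x = 1) {s : X}
    (hs : MulAut.conj s • rt up = rt up) (hs' : ∀ x ∈ clo up lo, s * x * s⁻¹ ∈ clo up lo) :
    ∃ (θ : F →+* F) (a b α : F), a ≠ 0 ∧ b ≠ 0 ∧ Function.Bijective θ ∧ (∀ x, s • e x = e (a * θ x * b)) ∧
      ∀ y, s • f y = e (α * θ y) + f (θ y * b) := by
  obtain ⟨θ, a, b, ha, hb, hbij, -, he, hff⟩ := exists_cmp h (h.conj s) h2 hf (by rw [rt_conj, hs])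
  have he' : ∀ x, s • e x = e (a * θ x * b) := he
  have h1 : ∀ y, ∃ x, s • f y = e x + f (θ y * b) := by
    intro y
    obtain ⟨x, c, hc, e1⟩ := hff y
    refine ⟨x, ?_⟩
    rw [AddSubgroup.mem_bot.1 hc, add_zero] at e1
    exact e1
  choose α hα using h1
  refine ⟨θ, a, b, α 1, ha, hb, hbij, he', fun y => ?_⟩
  rw [hα y]
  congr 2
  have hg : Ln e f (s * lo 1 * s⁻¹) := ln_of_mem h (hs' _ (lo_mem_clo up lo 1))
  have k1 : ∀ x, (s * lo 1 * s⁻¹) • e (a * θ x * b) = e (a * θ x * b + α x) + f (θ x * b) := by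
    intro x
    rw [← he', mul_smul, mul_smul, inv_smul_smul, h.lo_e, smul_add, he', one_mul, hα, map_add]
    abel
  have k2 : (s * lo 1 * s⁻¹) • (e (a * θ 1 * b) + f 0) = e (a * θ 1 * b + α 1) + f (θ 1 * b) := by
    rw [map_zero, add_zero]; exact k1 1
  have k3 := hg (θ y) _ _ _ _ k2
  rw [mul_zero, map_zero, add_zero] at k3
  have e1 : θ y * (a * θ 1 * b) = a * θ y * b := by rw [map_one]; ring
  rw [e1, k1] at k3
  have e2 := (uniq0 h k3).1
  have e3 : θ y * (a * θ 1 * b + α 1) = a * θ y * b + α 1 * θ y := by rw [map_one]; ring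
  rw [e3] at e2
  exact add_left_cancel e2

/-! ### 6. `|F| = 4` -/

section key

variable {f₁ : F →+ V} {lo₁ : F → X} {κ ω : F}

/-- the element `w w₁ w` -/
theorem exists_t (h : Bk e f ⊥ up lo) (h1 : Bk e f₁ ⊥ up lo₁) (hβ : ∀ y, f₁ y = f y + e (κ * (y * y))) (hκ : κ ≠ 0)
    (h2 : ∀ v : V, v + v = 0) (hω : ω * ω = ω + 1) (hz : ∀ z : F, z = 0 ∨ z = 1 ∨ z = ω ∨ z = ω + 1) :
    ∃ t : X, (∀ x, t • e x = e (κ * (x * x))) ∧ ∀ y, t • f y = e y + f (κ * (y * y)) := by
  have two := h.two h2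
  have q4 := p4 two hω hz
  have q3 := p3 two hω hz hκ
  have we : ∀ x, wt up lo 1 • e x = f x := fun x => by rw [h.wt_e h2 one_ne_zero, inv_one, one_mul]
  have wf : ∀ x, wt up lo 1 • f x = e x := fun x => by rw [h.wt_f h2 one_ne_zero, one_mul]
  have we1 : ∀ x, wt up lo₁ 1 • e x = f₁ x := fun x => by rw [h1.wt_e h2 one_ne_zero, inv_one, one_mul]
  have wf1 : ∀ x, wt up lo₁ 1 • f₁ x = e x := fun x => by rw [h1.wt_f h2 one_ne_zero, one_mul]
  have w1f : ∀ x, wt up lo₁ 1 • f x = f (κ * (x * x)) := by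
    intro x
    have e1 : f x = f₁ x + e (κ * (x * x)) := by rw [hβ, add_assoc, h2, add_zero]
    have e2 : κ * (κ * (x * x) * (κ * (x * x))) = x := by
      have : κ * (κ * (x * x) * (κ * (x * x))) = κ * κ * κ * (x * x * (x * x)) := by ring
      rw [this, q3, q4, one_mul]
    rw [e1, smul_add, wf1, we1, hβ, e2, add_comm (f _), ← add_assoc, h2, zero_add]
  refine ⟨wt up lo 1 * wt up lo₁ 1 * wt up lo 1, fun x => ?_, fun y => ?_⟩
  · rw [mul_smul, mul_smul, we, w1f, wf]
  · rw [mul_smul, mul_smul, wf, we1, hβ, smul_add, wf, we]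

theorem key4 (h : Bk e f ⊥ up lo) (h1 : Bk e f₁ ⊥ up lo₁) (hβ : ∀ y, f₁ y = f y + e (κ * (y * y))) (hκ : κ ≠ 0)
    (h2 : ∀ v : V, v + v = 0) (hf : ∀ x : X, (∀ v : V, x • v = v) → x = 1) (hG : HG e f up) (hω : ω * ω = ω + 1)
    (h0 : ω ≠ 0) (hz : ∀ z : F, z = 0 ∨ z = 1 ∨ z = ω ∨ z = ω + 1) {s : X}
    (hs : MulAut.conj s • rt up = rt up) (hsL : ∀ x ∈ clo up lo, s * x * s⁻¹ ∈ clo up lo)
    (hsK : ∀ x ∈ clo up lo₁, s * x * s⁻¹ ∈ clo up lo₁)
    (hne : ∀ c : F, ¬ ∀ x, s • e x = e (c * x)) : False := by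
  have two := h.two h2
  have q4 := p4 two hω hz
  have q3 : ∀ {z : F}, z ≠ 0 → z * z * z = 1 := p3 two hω hz
  have hadd : ∀ {x y : F}, x + y = 0 → x = y := by
    intro x y e1
    have : x + y = y + y := by rw [e1, two]
    exact add_right_cancel this
  obtain ⟨θ, a, b, α, ha, hb, hbij, hse, hsf⟩ := sl h h2 hf hs hsL
  obtain ⟨θ₁, a₁, b₁, α₁, ha₁, hb₁, hbij₁, hse₁, hsf₁⟩ := sl h1 h2 hf hs hsK
  -- `θ = θ₁`
  have k1 : ∀ x, a * θ x * b = a₁ * θ₁ x * b₁ := fun x => inj0 h (by rw [← hse, hse₁])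
  have k2 : a * b = a₁ * b₁ := by
    have := k1 1
    rwa [map_one, map_one, mul_one, mul_one] at this
  have k3 : ∀ x, θ₁ x = θ x := by
    intro x
    apply mul_left_cancel₀ (mul_ne_zero ha hb)
    calc a * b * θ₁ x = a₁ * θ₁ x * b₁ := by rw [k2]; ring
      _ = a * b * θ x := by rw [← k1]; ring
  -- `θ z = z²`
  have k4 : ∀ z, θ z = z * z := by
    have e1 : θ ω * θ ω = θ ω + 1 := by rw [← map_mul, hω, map_add, map_one]
    have e2 : θ ω = ω ∨ θ ω = ω + 1 := by
      rcases hz (θ ω) with e3 | e3 | e3 | e3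
      · exact absurd ((map_eq_zero θ).1 e3) h0
      · rw [e3, two, one_mul] at e1
        exact absurd e1 one_ne_zero
      · exact Or.inl e3
      · exact Or.inr e3
    rcases e2 with e2 | e2
    · exfalso
      apply hne (a * b)
      intro x
      rw [hse]
      congr 1
      have e3 : θ x = x := by
        rcases hz x with rfl | rfl | rfl | rfl
        · rw [map_zero]
        · rw [map_one]
        · exact e2
        · rw [map_add, e2, map_one]
      rw [e3]; ring
    · intro z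
      rcases hz z with rfl | rfl | rfl | rfl
      · rw [map_zero, mul_zero]
      · rw [map_one, mul_one]
      · rw [e2, hω]
      · rw [map_add, e2, map_one, add_assoc, two, add_zero]
        have e3 : (ω + 1) * (ω + 1) = ω * ω + 1 + (ω + ω) := by ring
        rw [e3, hω, two, add_zero, add_assoc, two, add_zero]
  -- comparison on `f₁`
  have k5 : ∀ y, α * θ y + a * θ (κ * (y * y)) * b = α₁ * θ y + κ * (θ y * b₁ * (θ y * b₁)) ∧ b = b₁ := by
    intro y
    have e1 : ∀ y, e (α * θ y + a * θ (κ * (y * y)) * b) + f (θ y * b)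
        = e (α₁ * θ y + κ * (θ y * b₁ * (θ y * b₁))) + f (θ y * b₁) := by
      intro y
      have e2 := hsf₁ y
      rw [hβ, hβ, smul_add, hse, hsf, k3] at e2
      rw [map_add e, map_add e]
      calc e (α * θ y) + e (a * θ (κ * (y * y)) * b) + f (θ y * b)
          = e (α * θ y) + f (θ y * b) + e (a * θ (κ * (y * y)) * b) := by abel
        _ = _ := by rw [e2]; abel
    refine ⟨(uniq0 h (e1 y)).1, ?_⟩
    have e3 := (uniq0 h (e1 1)).2
    rwa [map_one, one_mul, one_mul] at e3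
  have k6 : b = b₁ := (k5 0).2
  have k7 : ∀ y : F, (α + α₁) * (y * y) = (a * (κ * κ) * b + κ * (b * b)) * y := by
    intro y
    have e1 := (k5 y).1
    rw [k4, k4, ← k6] at e1
    have e2 := q4 y
    apply hadd
    have e3 : (α + α₁) * (y * y) + (a * (κ * κ) * b + κ * (b * b)) * y
        = (α * (y * y) + a * (κ * (y * y) * (κ * (y * y))) * b) + (α₁ * (y * y) + κ * (y * y * b * (y * y * b)))
          + (a * (κ * κ) * b + κ * (b * b)) * (y - y * y * (y * y)) := by ring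
    rw [e3, e1, two, e2, sub_self, mul_zero, add_zero]
  have k8 : a * κ = b := by
    have e1 := k7 1
    have e2 := k7 ω
    rw [mul_one, mul_one, mul_one] at e1
    rw [← e1, hω, mul_add, mul_one] at e2
    have e3 : α + α₁ = 0 := by
      have : (α + α₁) * ω + (α + α₁) = (α + α₁) * ω + 0 := by rw [e2, add_zero]
      exact add_left_cancel this
    rw [e3] at e1
    have e4 := hadd e1.symm
    apply mul_left_cancel₀ (mul_ne_zero hκ hb)
    calc κ * b * (a * κ) = a * (κ * κ) * b := by ring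
      _ = κ * b * b := by rw [e4]; ring
  -- `u`
  set u : X := up (α * b⁻¹) * s with hu
  have ue : ∀ x, u • e x = e (a * a * κ * (x * x)) := by
    intro x
    rw [hu, mul_smul, hse, h.up_e, k4, ← k8]
    congr 1
    ring
  have uf : ∀ y, u • f y = f (a * κ * (y * y)) := by
    intro y
    rw [hu, mul_smul, hsf, smul_add, h.up_e, h.up_f]
    have e1 : α * b⁻¹ * (θ y * b) = α * θ y := by
      field_simp
    rw [e1, add_comm (f _), ← add_assoc, h2, zero_add, k4, ← k8]
    congr 1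
    ring
  obtain ⟨t, te, tf⟩ := exists_t h h1 hβ hκ h2 hω hz
  have a3 := q3 ha
  have κ3 := q3 hκ
  have me : ∀ x, (t * u) • e x = e (a * x) := by
    intro x
    rw [mul_smul, ue, te]
    congr 1
    have e1 : κ * (a * a * κ * (x * x) * (a * a * κ * (x * x))) = κ * κ * κ * (a * a * a) * a * (x * x * (x * x)) := by
      ring
    rw [e1, κ3, a3, q4]; ring
  have mf : ∀ y, (t * u) • f y = e (a * κ * (y * y)) + f (a * a * y) := by
    intro y
    rw [mul_smul, uf, tf]
    congr 2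
    have e1 : κ * (a * κ * (y * y) * (a * κ * (y * y))) = κ * κ * κ * (a * a) * (y * y * (y * y)) := by ring
    rw [e1, κ3, q4]; ring
  have m2 : ∀ y, (t * u) • (t * u) • f y = f (a * y) := by
    intro y
    rw [mf, smul_add, me, mf, ← add_assoc, ← map_add e]
    have e1 : a * (a * κ * (y * y)) + a * κ * (a * a * y * (a * a * y))
        = a * a * κ * (y * y) + a * a * κ * (y * y) * (a * a * a) := by ring
    have e2 : a * a * (a * a * y) = a * a * a * (a * y) := by ring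
    rw [e1, a3, mul_one, two, map_zero, zero_add, e2, a3, one_mul]
  have m3 : ∀ y, (t * u * (t * u) * (t * u)) • f y = f y + e (κ * (y * y)) := by
    intro y
    rw [mul_smul, mul_smul, m2, mf]
    have e1 : a * κ * (a * y * (a * y)) = a * a * a * (κ * (y * y)) := by ring
    have e2 : a * a * (a * y) = a * a * a * y := by ring
    rw [e1, e2, a3, one_mul, one_mul, add_comm]
  have m4 : t * u * (t * u) * (t * u) ∈ rt up := by
    refine hG _ (fun z => ?_) fun z => ⟨_, m3 z⟩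
    rw [mul_smul, mul_smul, me, me, me]
    congr 1
    have e1 : a * (a * (a * z)) = a * a * a * z := by ring
    rw [e1, a3, one_mul]
  obtain ⟨r, hr⟩ := (h.mem_rt h2 hf).1 m4
  have m5 : ∀ y, r * y = κ * (y * y) := by
    intro y
    have e1 := m3 y
    rw [← hr, h.up_f] at e1
    exact inj0 h (add_left_cancel e1)
  have m6 := m5 1
  have m7 := m5 ω
  rw [mul_one, mul_one, mul_one] at m6
  rw [m6, hω, mul_add, mul_one] at m7
  exact hκ (left_eq_add.1 m7)

end key

/-! ### 7. Sylow -/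

section syl

variable [Finite V] [Finite X]

/-- the elements trivial on `R` and on `V/R` -/
def Gm (X : Type u) [Group X] [DistribMulAction X V] (h2 : ∀ v : V, v + v = 0) (R : AddSubgroup V) : Subgroup X where
  carrier := {x | (∀ v ∈ R, x • v = v) ∧ ∀ v, x • v + v ∈ R}
  one_mem' := ⟨fun v _ => one_smul _ _, fun v => by rw [one_smul, h2]; exact R.zero_mem⟩
  mul_mem' := by
    rintro x y ⟨hx1, hx2⟩ ⟨hy1, hy2⟩
    refine ⟨fun v hv => by rw [mul_smul, hy1 v hv, hx1 v hv], fun v => ?_⟩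
    have e1 : (x * y) • v + v = (x • (y • v) + y • v) + (y • v + v) := by
      have : (x • (y • v) + y • v) + (y • v + v) = x • (y • v) + v + (y • v + y • v) := by abel
      rw [this, h2, add_zero, mul_smul]
    rw [e1]
    exact R.add_mem (hx2 _) (hy2 _)
  inv_mem' := by
    rintro x ⟨hx1, hx2⟩
    refine ⟨fun v hv => by rw [inv_smul_eq_iff, hx1 v hv], fun v => ?_⟩
    have e1 : x⁻¹ • v + v = x • (x⁻¹ • v) + x⁻¹ • v := by rw [smul_inv_smul, add_comm]
    rw [e1]
    exact hx2 _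

omit [Finite V] [Finite X] in
theorem Gm_sq (h2 : ∀ v : V, v + v = 0) (hf : ∀ x : X, (∀ v : V, x • v = v) → x = 1) {R : AddSubgroup V} {x : X}
    (hx : x ∈ Gm X h2 R) : x ^ 2 = 1 := by
  refine hf _ fun v => ?_
  rw [pow_two, mul_smul]
  have e1 : x • v = v + (x • v + v) := by
    have : v + (x • v + v) = x • v + (v + v) := by abel
    rw [this, h2, add_zero]
  have e2 := hx.1 _ (hx.2 v)
  rw [smul_add] at e2
  have e3 : x • x • v = x • v + v + x • v := by
    have : x • x • v = x • x • v + x • v + x • v := by rw [add_assoc, h2, add_zero]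
    rw [this, e2]
  rw [e3]
  have : x • v + v + x • v = v + (x • v + x • v) := by abel
  rw [this, h2, add_zero]

omit [Finite V] [Finite X] in
theorem isPGroup_Gm (h2 : ∀ v : V, v + v = 0) (hf : ∀ x : X, (∀ v : V, x • v = v) → x = 1) (R : AddSubgroup V) :
    IsPGroup 2 (Gm X h2 R) := by
  intro x
  refine ⟨1, ?_⟩
  rw [pow_one]
  exact Subtype.ext (Gm_sq h2 hf x.2)

/-- an element which normalises the root group leaves `e(F)` invariant -/
theorem smul_e (h : Bk e f ⊥ up lo) {s : X} (hs : MulAut.conj s • rt up = rt up) (v : V) (hv : v ∈ e.range) :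
    s • v ∈ e.range := by
  have key : ∀ w : V, w ∈ e.range ↔ w ∈ (fxd (rt up) : AddSubgroup V) := by
    intro w
    rw [h.mem_fxd_rt]
    constructor
    · rintro ⟨x, rfl⟩
      exact ⟨x, 0, AddSubgroup.zero_mem _, (add_zero _).symm⟩
    · rintro ⟨x, c, hc, rfl⟩
      exact ⟨x, by rw [AddSubgroup.mem_bot.1 hc, add_zero]⟩
  rw [key, mem_fxd] at hv ⊢
  intro a ha
  have h3 : s⁻¹ * a * s ∈ rt up := by
    rw [← hs, Subgroup.mem_smul_pointwise_iff_exists] at ha
    obtain ⟨b, hb, rfl⟩ := ha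
    rw [MulAut.smul_def, MulAut.conj_apply]
    have : s⁻¹ * (s * b * s⁻¹) * s = b := by group
    rwa [this]
  have h4 := hv _ h3
  rw [mul_smul, mul_smul, inv_smul_eq_iff] at h4
  exact h4

theorem Gm_le (h : Bk e f ⊥ up lo) (h2 : ∀ v : V, v + v = 0) (hf : ∀ x : X, (∀ v : V, x • v = v) → x = 1)
    (T : Sylow 2 X) (hTn : ∀ s ∈ T, MulAut.conj s • rt up = rt up) : Gm X h2 e.range ≤ T := by
  have h1 : (T : Subgroup X) ≤ Subgroup.normalizer (Gm X h2 e.range : Set X) := by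
    intro s hs
    have hinv := hTn s hs
    have hinv' := hTn s⁻¹ (inv_mem hs)
    have key : ∀ s : X, MulAut.conj s • rt up = rt up → MulAut.conj s⁻¹ • rt up = rt up → ∀ x ∈ Gm X h2 e.range,
        s * x * s⁻¹ ∈ Gm X h2 e.range := by
      rintro s hs hs' x ⟨hx1, hx2⟩
      refine ⟨fun v hv => ?_, fun v => ?_⟩
      · rw [mul_smul, mul_smul, hx1 _ (smul_e h hs' v hv), smul_inv_smul]
      · have e1 : (s * x * s⁻¹) • v + v = s • (x • (s⁻¹ • v) + s⁻¹ • v) := by
          rw [smul_add, smul_inv_smul, mul_smul, mul_smul]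
        rw [e1]
        exact smul_e h hs _ (hx2 _)
    rw [Subgroup.mem_normalizer_iff]
    intro x
    refine ⟨key s hinv hinv' x, fun hx => ?_⟩
    have h3 := key s⁻¹ hinv' (by rw [inv_inv]; exact hinv) _ hx
    have e1 : s⁻¹ * (s * x * s⁻¹) * s⁻¹⁻¹ = x := by group
    rwa [e1] at h3
  have h3 : IsPGroup 2 (T ⊔ Gm X h2 e.range : Subgroup X) :=
    T.isPGroup'.to_sup_of_normal_right' (isPGroup_Gm h2 hf _) h1
  have h4 := T.is_maximal' h3 le_sup_left
  rw [← h4]
  exact le_sup_right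

/-- **`Γ ≤ rt up`** -/
theorem HG_of (h : Bk e f ⊥ up lo) (h2 : ∀ v : V, v + v = 0) (hf : ∀ x : X, (∀ v : V, x • v = v) → x = 1)
    (T : Sylow 2 X) (hTn : ∀ s ∈ T, MulAut.conj s • rt up = rt up)
    (hTR : ∀ s ∈ T, (∀ z, s • e z = e z) → s ∈ rt up) : HG e f up := by
  intro x hx1 hx2
  refine hTR x (Gm_le h h2 hf T hTn ⟨?_, fun v => ?_⟩) hx1
  · rintro _ ⟨z, rfl⟩
    exact hx1 z
  · obtain ⟨a, b, rfl⟩ := dec0 h v
    obtain ⟨s, hs⟩ := hx2 b
    refine ⟨s, ?_⟩
    rw [smul_add, hx1, hs]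
    have : e a + (f b + e s) + (e a + f b) = e s + ((e a + e a) + (f b + f b)) := by abel
    rw [this, h2, h2, add_zero, add_zero]

/-- an involution which normalises the root group and moves `e(F)` ==> some `s ∈ T` moves `e(F)` -/
theorem exists_mv (h : Bk e f ⊥ up lo) (h2 : ∀ v : V, v + v = 0) (hf : ∀ x : X, (∀ v : V, x • v = v) → x = 1)
    (T : Sylow 2 X) (hTR : ∀ s ∈ T, (∀ z, s • e z = e z) → s ∈ rt up) {t : X} (ht2 : t ^ 2 = 1)
    (ht : MulAut.conj t • rt up = rt up) (hte : ¬ ∀ z, t • e z = e z) : ∃ s ∈ T, ¬ ∀ z, s • e z = e z := by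
  by_contra hcon
  push Not at hcon
  have h1 : (T : Subgroup X) ≤ rt up := fun s hs => hTR s hs (hcon s hs)
  have h3 : IsPGroup 2 (rt up) := by
    rintro ⟨x, hx⟩
    refine ⟨1, ?_⟩
    obtain ⟨r, rfl⟩ := (h.mem_rt h2 hf).1 hx
    refine Subtype.ext ?_
    change up r ^ (2 ^ 1) = 1
    rw [pow_one, pow_two, h.up_add hf, h.two h2, h.up_zero hf]
  have h4 : IsPGroup 2 (Subgroup.zpowers t) := by
    rintro ⟨x, hx⟩
    refine ⟨1, ?_⟩
    obtain ⟨r, rfl⟩ := Subgroup.mem_zpowers_iff.1 hx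
    refine Subtype.ext ?_
    change (t ^ r) ^ (2 ^ 1) = 1
    rw [pow_one, ← zpow_natCast, ← zpow_mul, mul_comm, zpow_mul]
    change ((t ^ ((2 : ℕ) : ℤ)) ^ r) = 1
    rw [zpow_natCast, ht2, one_zpow]
  have h5 : Subgroup.zpowers t ≤ Subgroup.normalizer (rt up : Set X) := by
    rw [Subgroup.zpowers_le, Subgroup.mem_normalizer_iff]
    intro x
    constructor
    · intro hx
      rw [← ht, Subgroup.mem_smul_pointwise_iff_exists]
      exact ⟨x, hx, rfl⟩
    · intro hx
      rw [← ht, Subgroup.mem_smul_pointwise_iff_exists] at hx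
      obtain ⟨y, hy, e1⟩ := hx
      rw [MulAut.smul_def, MulAut.conj_apply] at e1
      have : y = x := by
        have e2 := congrArg (fun z => t⁻¹ * z * t) e1
        simpa [mul_assoc] using e2
      rwa [← this]
  have h6 : IsPGroup 2 (Subgroup.zpowers t ⊔ rt up : Subgroup X) := h4.to_sup_of_normal_right' h3 h5
  have h7 := T.is_maximal' h6 (h1.trans le_sup_right)
  have h8 : t ∈ T := by
    change t ∈ (T : Subgroup X)
    rw [← h7]
    exact Subgroup.mem_sup_left (Subgroup.mem_zpowers t)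
  exact hte (hcon t h8)

end syl


/-! ### 8. the theorem -/

section main

variable [Finite V] [Finite X]

theorem pow_smul_e {s : X} {c : F} (hc : ∀ x, s • e x = e (c * x)) (n : ℕ) (x : F) :
    s ^ n • e x = e (c ^ n * x) := by
  induction n with
  | zero => rw [pow_zero, pow_zero, one_smul, one_mul]
  | succ n ih => rw [pow_succ', mul_smul, ih, hc, pow_succ', mul_assoc]

/-- a `2`-element acting on `e(F)` as a scalar of order dividing `3` is trivial -/
theorem scal (h : Bk e f ⊥ up lo) (T : Sylow 2 X) {s : X} (hs : s ∈ T) {c : F} (hc : ∀ x, s • e x = e (c * x))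
    (h3 : c * c * c = 1) (z : F) : s • e z = e z := by
  obtain ⟨k, hk⟩ := T.isPGroup' ⟨s, hs⟩
  have hk' : s ^ 2 ^ k = 1 := by
    have := congrArg Subtype.val hk
    simpa using this
  have h4 : c ^ 2 ^ k = 1 := by
    have e1 := pow_smul_e hc (2 ^ k) 1
    rw [hk', one_smul, mul_one] at e1
    exact (inj0 h e1).symm
  have h5 : c ^ 3 = 1 := by rw [← h3]; ring
  have h6 : orderOf c ∣ 1 := by
    have e1 : Nat.Coprime (2 ^ k) 3 := Nat.Coprime.pow_left k (by decide)
    rw [← Nat.Coprime.gcd_eq_one e1]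
    exact Nat.dvd_gcd (orderOf_dvd_of_pow_eq_one h4) (orderOf_dvd_of_pow_eq_one h5)
  have h7 : c = 1 := orderOf_eq_one_iff.1 (Nat.dvd_one.1 h6)
  rw [hc, h7, one_mul]

/-- the involution `t = w w₁ w` -/
theorem exists_inv {f₁ : F →+ V} {lo₁ : F → X} {κ ω : F} (h : Bk e f ⊥ up lo) (h1 : Bk e f₁ ⊥ up lo₁)
    (hβ : ∀ y, f₁ y = f y + e (κ * (y * y))) (hκ : κ ≠ 0) (h2 : ∀ v : V, v + v = 0)
    (hf : ∀ x : X, (∀ v : V, x • v = v) → x = 1) (hω : ω * ω = ω + 1)
    (hz : ∀ z : F, z = 0 ∨ z = 1 ∨ z = ω ∨ z = ω + 1) :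
    ∃ t : X, t ^ 2 = 1 ∧ MulAut.conj t • rt up = rt up ∧ ¬ ∀ z, t • e z = e z := by
  have two := h.two h2
  have q4 := p4 two hω hz
  have q3 := p3 two hω hz hκ
  obtain ⟨t, te, tf⟩ := exists_t h h1 hβ hκ h2 hω hz
  have k1 : ∀ x, κ * (κ * (x * x) * (κ * (x * x))) = x := by
    intro x
    have : κ * (κ * (x * x) * (κ * (x * x))) = κ * κ * κ * (x * x * (x * x)) := by ring
    rw [this, q3, q4, one_mul]
  have t2 : t ^ 2 = 1 := by
    refine h.ext hf (fun z => ?_) (fun z => ?_) fun c hc => ?_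
    · rw [pow_two, mul_smul, te, te, k1, one_smul]
    · rw [pow_two, mul_smul, tf, smul_add, te, tf, k1, ← add_assoc, h2, zero_add, one_smul]
    · rw [AddSubgroup.mem_bot] at hc
      rw [hc, smul_zero, smul_zero]
  have ti : t⁻¹ = t := by
    rw [inv_eq_iff_mul_eq_one, ← pow_two, t2]
  have k2 : ∀ s, t * up s * t⁻¹ = up (s * s) := by
    intro s
    rw [ti]
    refine h.ext hf (fun z => ?_) (fun z => ?_) fun c hc => ?_
    · rw [mul_smul, mul_smul, te, h.up_e, te, k1, h.up_e]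
    · rw [mul_smul, mul_smul, tf, smul_add, h.up_e, h.up_f, smul_add, smul_add, te, tf, te, k1, h.up_f]
      have e1 : κ * (s * (κ * (z * z)) * (s * (κ * (z * z)))) = s * s * z := by
        have : κ * (s * (κ * (z * z)) * (s * (κ * (z * z)))) = κ * κ * κ * (s * s) * (z * z * (z * z)) := by ring
        rw [this, q3, q4, one_mul]
      rw [e1]
      have e2 : e (κ * (z * z)) + (e (κ * (z * z)) + f z + e (s * s * z))
          = (e (κ * (z * z)) + e (κ * (z * z))) + (f z + e (s * s * z)) := by abel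
      rw [e2, h2, zero_add]
    · rw [AddSubgroup.mem_bot] at hc
      rw [hc, smul_zero, smul_zero]
  refine ⟨t, t2, ?_, fun hcon => ?_⟩
  · rw [← rt_conj]
    apply le_antisymm
    · refine (Subgroup.closure_le _).2 ?_
      rintro _ ⟨s, rfl⟩
      change t * up s * t⁻¹ ∈ rt up
      rw [k2]; exact up_mem _
    · refine (Subgroup.closure_le _).2 ?_
      rintro _ ⟨s, rfl⟩
      refine Subgroup.subset_closure ⟨s * s, ?_⟩
      change t * up (s * s) * t⁻¹ = up s
      rw [k2, q4]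
  · have e1 := inj0 h ((te 1).symm.trans (hcon 1))
    have e2 := inj0 h ((te ω).symm.trans (hcon ω))
    rw [mul_one, mul_one] at e1
    rw [e1, one_mul, hω] at e2
    exact one_ne_zero (left_eq_add.1 e2.symm)

theorem of_lin {f₁ : F →+ V} {lo₁ : F → X} {β : F →+ F} (h : Bk e f ⊥ up lo) (h1 : Bk e f₁ ⊥ up lo₁)
    (hβ : ∀ y, f₁ y = f y + e (β y)) (h2 : ∀ v : V, v + v = 0) (hf : ∀ x : X, (∀ v : V, x • v = v) → x = 1)
    (hlin : ∀ z, β z = β 1 * z) : clo up lo₁ = clo up lo := by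
  obtain ⟨f₂, lo₂, hf₂, hB, hc⟩ := shift h h2 (β 1)
  rw [← hc]
  exact lo_eq hB h1 hf fun y => by rw [hβ, hf₂, hlin]

/-- **UNIQUENESS.** Two natural `SL₂`'s with the same root group, both normalised by the Sylow 2-subgroup `T`, are equal. -/
theorem clo_eq (h : Bk e f ⊥ up lo) (h' : Bk e' f' ⊥ up' lo') (h2 : ∀ v : V, v + v = 0)
    (hf : ∀ x : X, (∀ v : V, x • v = v) → x = 1) (hrt : rt up = rt up') (T : Sylow 2 X)
    (hTn : ∀ s ∈ T, MulAut.conj s • rt up = rt up) (hTR : ∀ s ∈ T, (∀ z, s • e z = e z) → s ∈ rt up)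
    (hTL : ∀ s ∈ T, ∀ x ∈ clo up lo, s * x * s⁻¹ ∈ clo up lo)
    (hTK : ∀ s ∈ T, ∀ x ∈ clo up' lo', s * x * s⁻¹ ∈ clo up' lo') : clo up lo = clo up' lo' := by
  have hfin : Finite F := Finite.of_injective e fun x y e1 => inj0 h e1
  have two := h.two h2
  obtain ⟨β, f₁, lo₁, hβ, h1, e1⟩ := exists_red h h' h2 hf hrt
  rw [← e1]
  have hTK' : ∀ s ∈ T, ∀ x ∈ clo up lo₁, s * x * s⁻¹ ∈ clo up lo₁ := by rw [e1]; exact hTK
  symm
  rcases lt_trichotomy (Nat.card F) 4 with h4 | h4 | h4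
  · refine of_lin h h1 hβ h2 hf fun z => ?_
    have h5 : z = 0 ∨ z = 1 := by
      by_contra hcon
      push Not at hcon
      classical
      have n1 : z + 1 ≠ 0 := by
        intro h
        apply hcon.2
        have : z + 1 = 1 + 1 := by rw [h, two]
        exact add_right_cancel this
      have h6 : ({0, 1, z, z + 1} : Set F).ncard = 4 := by
        rw [Set.ncard_insert_of_notMem, Set.ncard_insert_of_notMem, Set.ncard_pair]
        · intro h; exact one_ne_zero (left_eq_add.1 h)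
        · simp only [Set.mem_insert_iff, Set.mem_singleton_iff, not_or]
          exact ⟨fun h => hcon.2 h.symm, fun h => hcon.1 (by simpa using h)⟩
        · simp only [Set.mem_insert_iff, Set.mem_singleton_iff, not_or]
          exact ⟨zero_ne_one, fun h => hcon.1 h.symm, fun h => n1 h.symm⟩
      have h7 : ({0, 1, z, z + 1} : Set F).ncard ≤ Nat.card F := by
        rw [← Set.ncard_univ]
        exact Set.ncard_le_ncard (Set.subset_univ _)
      omega
    rcases h5 with rfl | rfl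
    · rw [map_zero, mul_zero]
    · rw [mul_one]
  · obtain ⟨ω, hω, h0, hz⟩ := exists_om two h4
    obtain ⟨κ, hκ⟩ := exists_ka two hω hz β
    by_cases hκ0 : κ = 0
    · refine of_lin h h1 hβ h2 hf fun z => ?_
      rw [hκ, hκ0, zero_mul, add_zero, add_zero]
    · exfalso
      obtain ⟨f₂, lo₂, hf₂, hB, hc⟩ := shift h h2 (β 1 + κ)
      have hβ2 : ∀ y, f₁ y = f₂ y + e (κ * (y * y)) := by
        intro y
        rw [hβ, hf₂, hκ y, map_add e]
        abel
      have hTL' : ∀ s ∈ T, ∀ x ∈ clo up lo₂, s * x * s⁻¹ ∈ clo up lo₂ := by rw [hc]; exact hTL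
      obtain ⟨t, t2, tn, te⟩ := exists_inv hB h1 hβ2 hκ0 h2 hf hω hz
      obtain ⟨s, hs, hse⟩ := exists_mv hB h2 hf T hTR t2 tn te
      refine key4 hB h1 hβ2 hκ0 h2 hf (HG_of hB h2 hf T hTn hTR) hω h0 hz (hTn s hs) (hTL' s hs) (hTK' s hs)
        fun c hcx => hse fun z => scal hB T hs hcx ?_ z
      have hc0 : c ≠ 0 := by
        rintro rfl
        have e2 := hcx 1
        rw [zero_mul, map_zero, smul_eq_zero_iff_eq] at e2
        exact one_ne_zero (inj0 hB (e2.trans (map_zero e).symm))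
      exact p3 two hω hz hc0
  · exact of_lin h h1 hβ h2 hf (gam0 h h1 hβ h2 hf (HG_of h h2 hf T hTn hTR) h4)

end main

end Cfsg.Agent.Omega.NOThreeL.RWide.ParT.Uniq
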