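import Cfsg.Agent.Omega.NOThreeL.RWide.ParT.UniqG

/-!
# Uniqueness of the natural `SL₂(q)`, `q ≥ 8`, over the root group (no Sylow group)

* **`same8`** : `E`, `K` induce `SL₂` on `N` with the same line `l`; every element of `H ≥ E, K` trivial on `l` and `N/l` acts
  as a root element of `E`; `4 < |F|` : `K` acts on `N` through `E`.
-/

set_option autoImplicit false
set_option linter.unusedSectionVars false

namespace Cfsg.Agent.Omega.NOThreeL.RWide.ParT.Uniq

open Subgroup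
open Cfsg.Agent.Omega.NOThreeL.RSplit (Nrm)
open Cfsg.Agent.Omega.NOThreeL.RRed.Blk.TypesGam
open Cfsg.Agent.Omega.NOThreeL.RRed.Blk.TypesEq
open Cfsg.Agent.Omega.NOThreeL.RRed.Blk.TypesClo
open Cfsg.Agent.Omega.NOThreeL.RWide.GenSL (Acts U Lw)
open scoped Pointwise

universe u v w w'

/-- **`|F| > 4` : only the root group is used.** -/
theorem clo_eq8 {X : Type u} {V : Type v} [Group X] [AddCommGroup V] [DistribMulAction X V]
    {F : Type w} [Field F] {e f : F →+ V} {up lo : F → X} {F' : Type w'} [Field F'] {e' f' : F' →+ V} {up' lo' : F' → X}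
    [Finite V] (h : Bk e f ⊥ up lo) (h' : Bk e' f' ⊥ up' lo') (h2 : ∀ v : V, v + v = 0)
    (hf : ∀ x : X, (∀ v : V, x • v = v) → x = 1) (hrt : rt up = rt up') (hG : HG e f up) (h8 : 4 < Nat.card F) :
    clo up lo = clo up' lo' := by
  have hfin : Finite F := Finite.of_injective e fun x y e1 => inj0 h e1
  have hfX : Finite X := by
    have : Function.Injective (fun x : X => fun v : V => x • v) := fun x y hxy => by
      have h3 : y⁻¹ * x = 1 := hf _ fun v => by
        rw [mul_smul, inv_smul_eq_iff]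
        exact congrFun hxy v
      exact (inv_mul_eq_one.1 h3).symm
    exact Finite.of_injective _ this
  obtain ⟨β, f₁, lo₁, hβ, h1, e1⟩ := exists_red h h' h2 hf hrt
  rw [← e1]
  exact (of_lin h h1 hβ h2 hf (gam0 h h1 hβ h2 hf hG h8)).symm

section main

variable {G : Type u} [Group G] [Finite G] {H N l E K : Subgroup G} {F : Type} [Field F] [CharP F 2]
variable {e : G → Fin 2 → F} {F' : Type} [Field F'] {e' : G → Fin 2 → F'}

theorem same8 (h : Crd N l E F e) (h' : Crd N l K F' e')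
    (act' : ∀ g ∈ K, ∃ M : Matrix.SpecialLinearGroup (Fin 2) F', ∀ v ∈ N, e' (g * v * g⁻¹) = M.1.mulVec (e' v))
    (HN : H ≤ normalizer (N : Set G)) (EH : E ≤ H) (KH : K ≤ H) (h8 : 4 < Nat.card F)
    (hG : ∀ x ∈ H, (∀ v ∈ l, x * v * x⁻¹ = v) → (∀ v ∈ N, x * v * x⁻¹ * v⁻¹ ∈ l) →
      ∃ t, ∀ v ∈ N, e (x * v * x⁻¹) = ![e v 0 + t * e v 1, e v 1]) :
    ∀ x ∈ K, ∃ y ∈ E, ∀ v ∈ N, x * v * x⁻¹ = y * v * y⁻¹ := by
  have two : ∀ x : F, x + x = 0 := CharTwo.add_self_eq_zero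
  have ab : ∀ u ∈ N, ∀ v ∈ N, u * v = v * u := fun u hu v hv =>
    h.ext (mul_mem hu hv) (mul_mem hv hu) (by rw [h.mul u hu v hv, h.mul v hv u hu, add_comm])
  let Q : Nrm H N := ⟨ab, HN⟩
  obtain ⟨a, b, up, lo, hB, ka, kb, hu, hl⟩ := exists_bk2 Q h EH
  obtain ⟨a', b', up', lo', hB', ka', kb', hu', hl'⟩ := exists_bk2 Q h' KH
  have hf : ∀ x : XX Q, (∀ v : Q.Mod, x • v = v) → x = 1 := xx_faith Q
  have kinj : ∀ {m m' : Q.Mod}, e (Q.val m) = e (Q.val m') → m = m' := fun h1 =>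
    Nrm.ext (h.ext (Nrm.val_mem _ _) (Nrm.val_mem _ _) h1)
  have kadd : ∀ m m' : Q.Mod, e (Q.val (m + m')) = e (Q.val m) + e (Q.val m') := fun m m' =>
    h.mul _ (Nrm.val_mem _ _) _ (Nrm.val_mem _ _)
  have h2 : ∀ v : Q.Mod, v + v = 0 := fun v => kinj (by
    rw [kadd]
    refine Eq.trans ?_ h.e_one.symm
    funext i
    exact two _)
  -- the line
  have la : ∀ m : Q.Mod, Q.val m ∈ l ↔ ∃ x, m = a x := by
    intro m
    rw [h.line]
    constructor
    · rintro ⟨-, h3⟩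
      refine ⟨e (Q.val m) 0, kinj ?_⟩
      rw [ka]
      ext i; fin_cases i
      · rfl
      · exact h3
    · rintro ⟨x, rfl⟩
      refine ⟨Nrm.val_mem _ _, ?_⟩
      rw [ka]; rfl
  have la' : ∀ m : Q.Mod, Q.val m ∈ l ↔ ∃ x, m = a' x := by
    intro m
    rw [h'.line]
    constructor
    · rintro ⟨-, h3⟩
      refine ⟨e' (Q.val m) 0, Nrm.ext (h'.ext (Nrm.val_mem _ _) (Nrm.val_mem _ _) ?_)⟩
      rw [ka']
      ext i; fin_cases i
      · rfl
      · exact h3
    · rintro ⟨x, rfl⟩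
      refine ⟨Nrm.val_mem _ _, ?_⟩
      rw [ka']; rfl
  have laa : ∀ m : Q.Mod, (∃ x, m = a x) ↔ ∃ x, m = a' x := fun m => (la m).symm.trans (la' m)
  -- `Γ ≤ rt up`
  have hGG : HG a b up := by
    intro x hx1 hx2
    obtain ⟨k, rfl⟩ := rr_surj Q x
    have h3 : ∀ v ∈ l, (k : G) * v * (k : G)⁻¹ = v := by
      intro v hv
      have hvN : v ∈ N := ((h.line v).1 hv).1
      obtain ⟨z, hz⟩ := (la (Q.of v hvN)).1 hv
      have h4 := hx1 z
      rw [← hz] at h4
      exact congrArg Q.val h4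
    have h4 : ∀ v ∈ N, (k : G) * v * (k : G)⁻¹ * v⁻¹ ∈ l := by
      intro v hv
      obtain ⟨x, y, h5⟩ := dec0 hB (Q.of v hv)
      obtain ⟨s, hs⟩ := hx2 y
      have h6 : rr Q k • Q.of v hv - Q.of v hv = a s := by
        rw [h5, smul_add, hx1, hs]; abel
      have h7 : Q.val (rr Q k • Q.of v hv - Q.of v hv) ∈ l := (la _).2 ⟨s, h6⟩
      rw [Nrm.val_sub] at h7
      exact h7
    obtain ⟨t, ht⟩ := hG k k.2 h3 h4
    have h5 : rr Q k = up t := by
      refine hB.ext hf (fun z => kinj ?_) (fun z => kinj ?_) fun c hc => ?_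
      · rw [hB.up_e]
        refine (ht _ (Nrm.val_mem _ _)).trans ?_
        rw [ka]
        simp
      · rw [hB.up_f]
        refine (ht _ (Nrm.val_mem _ _)).trans ?_
        rw [kadd, ka, kb]
        simp
      · rw [AddSubgroup.mem_bot] at hc
        rw [hc, smul_zero, smul_zero]
    rw [h5]
    exact up_mem t
  -- the root groups
  have hle : rt up' ≤ rt up := by
    refine (Subgroup.closure_le _).2 ?_
    rintro _ ⟨t, rfl⟩
    refine hGG _ (fun z => ?_) fun z => ?_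
    · obtain ⟨z', hz'⟩ := (laa (a z)).1 ⟨z, rfl⟩
      rw [hz', hB'.up_e]
    · obtain ⟨x, y, h3⟩ := dec0 hB' (b z)
      obtain ⟨s, hs⟩ := (laa (a' (t * y))).2 ⟨_, rfl⟩
      refine ⟨s, ?_⟩
      rw [← hs, h3, smul_add, hB'.up_e, hB'.up_f, add_assoc]
  have finF : Finite F := Finite.of_injective a fun x y e1 => inj0 hB e1
  have finF' : Finite F' := Finite.of_injective a' fun x y e1 => inj0 hB' e1
  have hcF : Nat.card F = Nat.card F' := by
    have h3 : Nat.card (Set.range a) = Nat.card F :=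
      (Nat.card_congr (Equiv.ofInjective a fun x y e1 => inj0 hB e1)).symm
    have h4 : Nat.card (Set.range a') = Nat.card F' :=
      (Nat.card_congr (Equiv.ofInjective a' fun x y e1 => inj0 hB' e1)).symm
    have h5 : Set.range a = Set.range a' := by
      ext m
      constructor
      · rintro ⟨x, hx⟩
        obtain ⟨y, hy⟩ := (laa m).1 ⟨x, hx.symm⟩
        exact ⟨y, hy.symm⟩
      · rintro ⟨x, hx⟩
        obtain ⟨y, hy⟩ := (laa m).2 ⟨x, hx.symm⟩
        exact ⟨y, hy.symm⟩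
    rw [← h3, h5, h4]
  have hrt : rt up = rt up' := by
    refine (Subgroup.eq_of_le_of_card_ge hle ?_).symm
    rw [hB.card_rt h2 hf, hB'.card_rt h2 hf, hcF]
  have main := clo_eq8 hB hB' h2 hf hrt hGG h8
  intro x hx
  obtain ⟨M, hM⟩ := act' x hx
  have h3 := mem_clo_of Q hu' hl' h' (k := ⟨x, KH hx⟩) (M := M) hM
  rw [← main] at h3
  obtain ⟨y, hyE, hyH, h4⟩ := exists_of_mem_clo Q hu hl h3
  exact ⟨y, hyE, fun v hv => of_rr_eq Q h4 hv⟩

end main

end Cfsg.Agent.Omega.NOThreeL.RWide.ParT.Uniq
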