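import Cfsg.Agent.Omega.NOThreeL.RWide.ParT.EndA
import Cfsg.Agent.Omega.NOThreeL.RWide.TFm

/-!
# `par` over `T` (helper971 #26838, helper294 #26826): the group `X₁` on its natural module

`T` Sylow in `Y`, `Y ≤ N_G(N)`, `N` a natural `SL₂(F)`-module with line `l` for a subgroup of `Y`; `T` contains the root
group and acts semilinearly.  `XO T Y N = Y ∩ N_G(C_T(N))` induces the same group as `Y` on `N` (Frattini).

* `XD T Y N l F e` : the situation;
* `XD.exists_act` : `XO` induces `SL₂(F)`;  `XD.tr`, `XD.irr`, `XD.opp` : transitivity, irreducibility, an opposite line;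
* `XD.trF` : `XO ∩ N_G(T)` is transitive on `C_l(T) - 1` (torus over the fixed field, Frattini);
* `XD.of_nb` : from a natural block `NB`.
-/

set_option autoImplicit false
set_option linter.unusedSectionVars false

namespace Cfsg.Agent.Omega.NOThreeL.RWide.ParT

open Subgroup Cfsg
open Cfsg.Agent.ZN (zc o2)
open Cfsg.Agent.ZN.ChoiceBase (cj cj_mono cj_inf cj_centralizer cj_eq_of_mem_normalizer mem_cj mem_normalizer_iff_cj
  cj_cj_inv cj_inv_cj cj_cj cj_one mem_zc isPGroup_cj card_cj)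
open Cfsg.Agent.ZN.ChoiceSit (Syl syl_conj exists_syl)
open Cfsg.Agent.Omega.NOThreeL.RWide.TBlk (NB Bls)
open Cfsg.Agent.Omega.NOThreeL.RWide.TAct (TT BB FF Tf)

universe u v

variable {G : Type u} [Group G]

/-- `Y ∩ N_G(C_T(N))` -/
def XO (T Y N : Subgroup G) : Subgroup G := Y ⊓ normalizer ((T ⊓ centralizer (N : Set G) : Subgroup G) : Set G)

/-- The situation. -/
structure XD (T Y N l : Subgroup G) (F : Type) [Field F] (e : G → Fin 2 → F) : Prop where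
  syl : Syl T Y
  YN : Y ≤ normalizer (N : Set G)
  mul : ∀ v ∈ N, ∀ w ∈ N, e (v * w) = e v + e w
  inj : ∀ v ∈ N, e v = 0 → v = 1
  sur : ∀ x : Fin 2 → F, ∃ v ∈ N, e v = x
  line : ∀ v, v ∈ l ↔ v ∈ N ∧ e v 1 = 0
  full : ∀ M : Matrix.SpecialLinearGroup (Fin 2) F, ∃ g ∈ Y, ∀ v ∈ N, e (g * v * g⁻¹) = M.1.mulVec (e v)
  root : ∀ c : F, ∃ s ∈ T, ∀ v ∈ N, e (s * v * s⁻¹) = ![e v 0 + c * e v 1, e v 1]
  semi : ∀ s ∈ T, ∃ (σ : F ≃+* F) (a b d : F), ∀ v ∈ N, e (s * v * s⁻¹) = ![a * σ (e v 0) + b * σ (e v 1), d * σ (e v 1)]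

/-- from a natural block -/
theorem XD.of_nb {S E T Y N l : Subgroup G} {F : Type} [Field F] {e : G → Fin 2 → F} (h : NB S E N l F e)
    (syl : Syl T Y) (YN : Y ≤ normalizer (N : Set G)) (TS : T ≤ S) (EY : E ≤ Y) (ET : S ⊓ E ≤ T) : XD T Y N l F e where
  syl := syl
  YN := YN
  mul := h.mul
  inj := h.inj
  sur := h.sur
  line := h.line
  full M := by
    obtain ⟨g, hg, h1⟩ := h.full M
    exact ⟨g, EY hg, h1⟩
  root c := by
    obtain ⟨s, hs, h1⟩ := h.root c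
    exact ⟨s, ET hs, h1⟩
  semi s hs := h.semi s (TS hs) (YN (syl.1 hs))

namespace XD

variable [Finite G] {T Y N l : Subgroup G} {F : Type} [Field F] {e : G → Fin 2 → F} (h : XD T Y N l F e)
include h

theorem TXO : T ≤ XO T Y N := by
  refine le_inf h.syl.1 fun t ht => ?_
  rw [mem_normalizer_iff_cj, cj_inf, cj_eq_of_mem_normalizer (Subgroup.le_normalizer ht), cj_centralizer,
    cj_eq_of_mem_normalizer (h.YN (h.syl.1 ht))]

theorem KT : T ⊓ centralizer (N : Set G) ≤ T := inf_le_left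

omit h in
theorem nK : XO T Y N ≤ normalizer ((T ⊓ centralizer (N : Set G) : Subgroup G) : Set G) := inf_le_right

omit h in
theorem XOY : XO T Y N ≤ Y := inf_le_left

theorem nV : XO T Y N ≤ normalizer (N : Set G) := inf_le_left.trans h.YN

theorem lN : l ≤ N := fun v hv => ((h.line v).1 hv).1

theorem e_one : e 1 = 0 := by
  have h1 := h.mul 1 (one_mem _) 1 (one_mem _)
  rw [mul_one] at h1
  exact left_eq_add.1 h1

/-- coordinates are injective -/
theorem ext {v w : G} (hv : v ∈ N) (hw : w ∈ N) (hvw : e v = e w) : v = w := by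
  have hinv : e w⁻¹ = - e w := by
    have h1 := h.mul w hw w⁻¹ (inv_mem hw)
    rw [mul_inv_cancel, h.e_one] at h1
    exact (neg_eq_of_add_eq_zero_right h1.symm).symm
  have h2 : v * w⁻¹ = 1 := h.inj _ (mul_mem hv (inv_mem hw))
    (by rw [h.mul _ hv _ (inv_mem hw), hinv, hvw, add_neg_cancel])
  exact mul_inv_eq_one.1 h2

theorem cm {y v : G} (hy : y ∈ Y) (hv : v ∈ N) : y * v * y⁻¹ ∈ N := (mem_normalizer_iff.1 (h.YN hy) v).1 hv

theorem TR : T ≤ normalizer (l : Set G) := by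
  intro t ht
  have key : ∀ t ∈ T, ∀ v ∈ l, t * v * t⁻¹ ∈ l := by
    intro t ht v hv
    obtain ⟨σ, a, b, d, h1⟩ := h.semi t ht
    obtain ⟨hvN, hv1⟩ := (h.line v).1 hv
    refine (h.line _).2 ⟨h.cm (h.syl.1 ht) hvN, ?_⟩
    rw [h1 v hvN, hv1, map_zero, mul_zero, mul_zero]
    rfl
  refine mem_normalizer_iff.2 fun v => ⟨key t ht v, fun hv => ?_⟩
  have := key t⁻¹ (inv_mem ht) _ hv
  have e1 : t⁻¹ * (t * v * t⁻¹) * t⁻¹⁻¹ = v := by group
  rwa [e1] at this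

/-- **Frattini** : `y ∈ Y` acts on `N` as some `x ∈ XO` -/
theorem frat {y : G} (hy : y ∈ Y) : ∃ x ∈ XO T Y N, ∀ v ∈ N, x * v * x⁻¹ = y * v * y⁻¹ := by
  set C' := Y ⊓ centralizer (N : Set G) with hC'
  have hn : ∀ g ∈ Y, cj g C' = C' := fun g hg => by
    rw [hC', cj_inf, cj_eq_of_mem_normalizer (Subgroup.le_normalizer hg), cj_centralizer,
      cj_eq_of_mem_normalizer (h.YN hg)]
  have hQ : Syl (T ⊓ centralizer (N : Set G)) C' := by
    have h1 := SQ1.FFOne.syl_inf (T := T) (H := Y) (N := C') h.syl inf_le_left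
      (fun g hg n hn' => by
        have := hn g hg
        rw [← this]
        exact ⟨n, hn', rfl⟩)
    have e1 : T ⊓ C' = T ⊓ centralizer (N : Set G) := by
      rw [hC', ← inf_assoc, inf_eq_left.2 h.syl.1]
    rwa [e1] at h1
  have h1 : cj y (T ⊓ centralizer (N : Set G)) ≤ C' := by
    have h2 := cj_mono y hQ.1
    rwa [hn y hy] at h2
  obtain ⟨Q, hQ', hle⟩ := exists_syl (isPGroup_cj y hQ.2.1) h1
  obtain ⟨d, hd, rfl⟩ := syl_conj hQ hQ'
  have h3 : cj (d⁻¹ * y) (T ⊓ centralizer (N : Set G)) ≤ T ⊓ centralizer (N : Set G) := by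
    have := cj_mono d⁻¹ hle
    rwa [cj_inv_cj, cj_cj] at this
  have hdy : d⁻¹ * y ∈ Y := Y.mul_mem (Y.inv_mem hd.1) hy
  refine ⟨d⁻¹ * y, ⟨hdy,
    mem_normalizer_iff_cj.2 (Subgroup.eq_of_le_of_card_ge h3 (by rw [card_cj]))⟩, fun v hv => ?_⟩
  have h4 : (y * v * y⁻¹) * d = d * (y * v * y⁻¹) := mem_centralizer_iff.1 hd.2 _ (h.cm hy hv)
  calc (d⁻¹ * y) * v * (d⁻¹ * y)⁻¹ = d⁻¹ * ((y * v * y⁻¹) * d) := by group
    _ = y * v * y⁻¹ := by rw [h4]; group

/-- **`XO` induces `SL₂(F)`** -/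
theorem exists_act (M : Matrix.SpecialLinearGroup (Fin 2) F) :
    ∃ x ∈ XO T Y N, ∀ v ∈ N, e (x * v * x⁻¹) = M.1.mulVec (e v) := by
  obtain ⟨g, hg, h1⟩ := h.full M
  obtain ⟨x, hx, h2⟩ := h.frat hg
  exact ⟨x, hx, fun v hv => by rw [h2 v hv, h1 v hv]⟩

/-- **transitivity** -/
theorem tr {f v : G} (hf : f ∈ N) (hf1 : f ≠ 1) (hv : v ∈ N) (hv1 : v ≠ 1) : ∃ x ∈ XO T Y N, x * f * x⁻¹ = v := by
  have n1 : e f ≠ 0 := fun h0 => hf1 (h.inj f hf h0)
  have n2 : e v ≠ 0 := fun h0 => hv1 (h.inj v hv h0)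
  obtain ⟨A, hA⟩ := TBits.exists_col (e f) n1
  obtain ⟨B, hB⟩ := TBits.exists_col (e v) n2
  obtain ⟨x, hx, h1⟩ := h.exists_act (B * A⁻¹)
  refine ⟨x, hx, h.ext (h.cm (XOY hx) hf) hv ?_⟩
  rw [h1 f hf, Matrix.SpecialLinearGroup.coe_mul, ← Matrix.mulVec_mulVec]
  have h2 : (A⁻¹ : Matrix.SpecialLinearGroup (Fin 2) F).1.mulVec (e f) = ![1, 0] := by
    rw [← hA, Matrix.mulVec_mulVec, ← Matrix.SpecialLinearGroup.coe_mul, inv_mul_cancel,
      Matrix.SpecialLinearGroup.coe_one, Matrix.one_mulVec]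
  rw [h2, hB]

/-- **irreducibility** -/
theorem irr [Finite F] {f : G} (hf : f ∈ N) (hf1 : f ≠ 1) (M : Subgroup G) (hM : ∀ x ∈ XO T Y N, x * f * x⁻¹ * f⁻¹ ∈ M) :
    N ≤ M := by
  have h1 : ∀ v ∈ N, v ≠ 1 → v * f⁻¹ ∈ M := by
    intro v hv hv1
    obtain ⟨x, hx, rfl⟩ := h.tr hf hf1 hv hv1
    exact hM x hx
  have h2 : ∀ v ∈ N, v ≠ 1 → ∀ w ∈ N, w ≠ 1 → v * w⁻¹ ∈ M := by
    intro v hv hv1 w hw hw1
    have := mul_mem (h1 v hv hv1) (inv_mem (h1 w hw hw1))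
    have e1 : v * f⁻¹ * (w * f⁻¹)⁻¹ = v * w⁻¹ := by group
    rwa [e1] at this
  intro w hw
  by_cases hw1 : w = 1
  · rw [hw1]; exact one_mem _
  -- choose `v ≠ 1`, `v ≠ w⁻¹`
  have hex : ∃ v ∈ N, v ≠ 1 ∧ w * v ≠ 1 := by
    obtain ⟨v1, hv1, e1⟩ := h.sur ![1, 0]
    obtain ⟨v2, hv2, e2⟩ := h.sur ![0, 1]
    have n1 : v1 ≠ 1 := by
      rintro rfl
      rw [h.e_one] at e1
      exact zero_ne_one (congrFun e1 0)
    have n2 : v2 ≠ 1 := by
      rintro rfl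
      rw [h.e_one] at e2
      exact zero_ne_one (congrFun e2 1)
    by_cases h3 : w * v1 = 1
    · refine ⟨v2, hv2, n2, fun h4 => ?_⟩
      have h5 : v1 = v2 := mul_left_cancel (h3.trans h4.symm)
      rw [h5, e2] at e1
      exact zero_ne_one (congrFun e1 0)
    · exact ⟨v1, hv1, n1, h3⟩
  obtain ⟨v, hv, hv1, hwv⟩ := hex
  have := h2 (w * v) (mul_mem hw hv) hwv v hv hv1
  rwa [mul_inv_cancel_right] at this

/-- **an opposite line** -/
theorem opp : ∃ x ∈ XO T Y N, l ⊓ cj x l = ⊥ ∧ N ≤ l ⊔ cj x l := by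
  obtain ⟨x, hx, h1⟩ := h.exists_act ⟨!![0, 1; -1, 0], by rw [Matrix.det_fin_two_of]; ring⟩
  have h1' : ∀ v ∈ N, e (x * v * x⁻¹) = ![e v 1, - e v 0] := by
    intro v hv
    rw [h1 v hv]
    funext i
    fin_cases i <;> simp [Matrix.mulVec, dotProduct, Fin.sum_univ_two]
  refine ⟨x, hx, ?_, ?_⟩
  · rw [eq_bot_iff]
    rintro w ⟨hw, hw'⟩
    obtain ⟨v, hv, rfl⟩ := hw'
    have hv' : v ∈ l := hv
    obtain ⟨hvN, hv1⟩ := (h.line v).1 hv'
    have h2 : x * v * x⁻¹ ∈ l := hw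
    obtain ⟨-, h3⟩ := (h.line _).1 h2
    rw [h1' v hvN] at h3
    have h4 : e v 0 = 0 := by simpa using h3
    have h5 : v = 1 := by
      refine h.inj v hvN ?_
      funext i
      fin_cases i
      · exact h4
      · exact hv1
    rw [mem_bot]
    change x * v * x⁻¹ = 1
    rw [h5, mul_one, mul_inv_cancel]
  · intro w hw
    obtain ⟨a, ha, ea⟩ := h.sur ![e w 0, 0]
    obtain ⟨b, hb, eb⟩ := h.sur ![-e w 1, 0]
    have hal : a ∈ l := (h.line a).2 ⟨ha, by rw [ea]; rfl⟩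
    have hbl : b ∈ l := (h.line b).2 ⟨hb, by rw [eb]; rfl⟩
    have h2 : w = a * (x * b * x⁻¹) := by
      refine h.ext hw (mul_mem ha (h.cm (XOY hx) hb)) ?_
      rw [h.mul a ha _ (h.cm (XOY hx) hb), h1' b hb, ea, eb]
      funext i
      fin_cases i <;> simp
    rw [h2]
    exact mul_mem (mem_sup_left hal) (mem_sup_right ⟨b, hbl, rfl⟩)

/-- **`XO ∩ N_G(T)` is transitive on `C_l(T) - 1`** -/
theorem trF {f f' : G} (hf : f ∈ l) (hfT : f ∈ centralizer (T : Set G)) (hf1 : f ≠ 1) (hf' : f' ∈ l)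
    (hfT' : f' ∈ centralizer (T : Set G)) (hf1' : f' ≠ 1) :
    ∃ n ∈ XO T Y N ⊓ normalizer (T : Set G), n * f * n⁻¹ = f' := by
  obtain ⟨hfN, hf0⟩ := (h.line f).1 hf
  obtain ⟨hfN', hf0'⟩ := (h.line f').1 hf'
  have x0 : e f 0 ≠ 0 := by
    intro h0
    apply hf1
    refine h.inj f hfN ?_
    funext i
    fin_cases i
    · exact h0
    · exact hf0
  have x0' : e f' 0 ≠ 0 := by
    intro h0
    apply hf1'
    refine h.inj f' hfN' ?_
    funext i
    fin_cases i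
    · exact h0
    · exact hf0'
  set lam : F := e f' 0 / e f 0 with hlam
  have hl0 : lam ≠ 0 := div_ne_zero x0' x0
  obtain ⟨g, hg, hgv⟩ := h.full ⟨!![lam, 0; 0, lam⁻¹], by rw [Matrix.det_fin_two_of]; field_simp; ring⟩
  have hgv' : ∀ v ∈ N, e (g * v * g⁻¹) = ![lam * e v 0, lam⁻¹ * e v 1] := by
    intro v hv
    rw [hgv v hv]
    funext i
    fin_cases i <;> simp [Matrix.mulVec, dotProduct, Fin.sum_univ_two]
  have hgv2 : ∀ v ∈ N, e (g⁻¹ * v * g) = ![lam⁻¹ * e v 0, lam * e v 1] := by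
    intro v hv
    have hm : g⁻¹ * v * g ∈ N := by
      have := h.cm (inv_mem hg) hv
      rwa [inv_inv] at this
    have h2 := hgv' _ hm
    have e1 : g * (g⁻¹ * v * g) * g⁻¹ = v := by group
    rw [e1] at h2
    have h3 := congrFun h2 0
    have h4 := congrFun h2 1
    simp only [Matrix.cons_val_zero, Matrix.cons_val_one] at h3 h4
    funext i
    fin_cases i
    · simp only [Fin.zero_eta, Matrix.cons_val_zero]
      rw [h3, inv_mul_cancel_left₀ hl0]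
    · simp only [Fin.mk_one, Matrix.cons_val_one, Matrix.cons_val_zero, Matrix.cons_val_fin_one]
      rw [h4, mul_inv_cancel_left₀ hl0]
  set C' := Y ⊓ centralizer (N : Set G) with hC'
  have hn : ∀ g ∈ Y, cj g C' = C' := fun g hg => by
    rw [hC', cj_inf, cj_eq_of_mem_normalizer (Subgroup.le_normalizer hg), cj_centralizer,
      cj_eq_of_mem_normalizer (h.YN hg)]
  -- `g` normalises `T` modulo `C'`
  have hgT : cj g T ≤ C' ⊔ T := by
    rintro _ ⟨t, ht, rfl⟩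
    change g * t * g⁻¹ ∈ _
    obtain ⟨σ, a, b, d, h1⟩ := h.semi t ht
    have hσ : σ lam = lam := by
      have h2 : ∀ w ∈ l, w ∈ centralizer (T : Set G) → a * σ (e w 0) = e w 0 := by
        intro w hw hwT
        obtain ⟨hwN, hw0⟩ := (h.line w).1 hw
        have h3 := h1 w hwN
        have h4 : t * w * t⁻¹ = w := by
          rw [mem_centralizer_iff.1 hwT t ht, mul_inv_cancel_right]
        rw [h4, hw0, map_zero, mul_zero, add_zero] at h3
        exact (congrFun h3 0).symm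
      have e1 := h2 f hf hfT
      have e2 := h2 f' hf' hfT'
      have ha : a ≠ 0 := by
        rintro rfl
        rw [zero_mul] at e1
        exact x0 e1.symm
      rw [hlam, map_div₀]
      have s0 : σ (e f 0) ≠ 0 := (map_ne_zero σ).2 x0
      rw [← e2, ← e1]
      rw [mul_div_mul_left _ _ ha]
      rw [e1, e2]
    have hd : d ≠ 0 := by
      rintro rfl
      obtain ⟨w, hw, ew⟩ := h.sur ![0, 1]
      have hm : t⁻¹ * w * t ∈ N := by
        have := h.cm (h.syl.1 (inv_mem ht)) hw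
        rwa [inv_inv] at this
      have h3 := h1 _ hm
      have e1 : t * (t⁻¹ * w * t) * t⁻¹ = w := by group
      rw [e1, ew, zero_mul] at h3
      have := congrFun h3 1
      simp at this
    obtain ⟨s, hs, hsv⟩ := h.root ((lam ^ 2 - 1) * b / d)
    have hc : (s * t)⁻¹ * (g * t * g⁻¹) ∈ C' := by
      have htY := h.syl.1 ht
      have hsY := h.syl.1 hs
      have hm0 : (s * t)⁻¹ * (g * t * g⁻¹) ∈ Y :=
        Y.mul_mem (Y.inv_mem (Y.mul_mem hsY htY)) (Y.mul_mem (Y.mul_mem hg htY) (Y.inv_mem hg))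
      refine ⟨hm0, mem_centralizer_iff.2 fun v hv => ?_⟩
      have hm1 : g⁻¹ * v * g ∈ N := by
        have := h.cm (inv_mem hg) hv
        rwa [inv_inv] at this
      have key : g * t * g⁻¹ * v * (g * t * g⁻¹)⁻¹ = (s * t) * v * (s * t)⁻¹ := by
        have e1 : g * t * g⁻¹ * v * (g * t * g⁻¹)⁻¹ = g * (t * (g⁻¹ * v * g) * t⁻¹) * g⁻¹ := by group
        have e2 : (s * t) * v * (s * t)⁻¹ = s * (t * v * t⁻¹) * s⁻¹ := by group
        rw [e1, e2]
        refine h.ext (h.cm hg (h.cm htY hm1)) (h.cm hsY (h.cm htY hv)) ?_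
        rw [hgv' _ (h.cm htY hm1), h1 _ hm1, hgv2 v hv, hsv _ (h.cm htY hv), h1 v hv]
        funext i
        fin_cases i
        · simp only [Fin.zero_eta, Matrix.cons_val_zero, Matrix.cons_val_one, map_mul, map_inv₀, hσ]
          field_simp
          ring
        · simp only [Fin.mk_one, Matrix.cons_val_one, Matrix.cons_val_zero, map_mul, map_inv₀, hσ]
          field_simp
      have e3 : v * ((s * t)⁻¹ * (g * t * g⁻¹)) =
          ((s * t)⁻¹ * ((s * t) * v * (s * t)⁻¹)) * (g * t * g⁻¹) := by group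
      rw [e3, ← key]
      group
    have e1 : g * t * g⁻¹ = (s * t) * ((s * t)⁻¹ * (g * t * g⁻¹)) := by group
    rw [e1]
    exact mul_mem (mem_sup_right (mul_mem hs ht)) (mem_sup_left hc)
  have hTn : T ≤ normalizer (C' : Set G) := fun t ht => mem_normalizer_iff_cj.2 (hn t (h.syl.1 ht))
  have hMY : C' ⊔ T ≤ Y := sup_le inf_le_left h.syl.1
  have hsM : Syl T (C' ⊔ T) := ⟨le_sup_right, h.syl.2.1, fun Q hQ h2 hTQ => h.syl.2.2 Q (hQ.trans hMY) h2 hTQ⟩
  have hsM' : Syl (cj g T) (C' ⊔ T) := by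
    refine ⟨hgT, isPGroup_cj g h.syl.2.1, fun Q hQ h2 hTQ => ?_⟩
    have h3 : T ≤ cj g⁻¹ Q := by
      have := cj_mono g⁻¹ hTQ
      rwa [cj_inv_cj] at this
    have h4 : cj g⁻¹ Q ≤ Y := by
      have := cj_mono g⁻¹ (hQ.trans hMY)
      rwa [cj_eq_of_mem_normalizer (Subgroup.le_normalizer (inv_mem hg))] at this
    have h5 := h.syl.2.2 _ h4 (isPGroup_cj _ h2) h3
    rw [← h5, cj_cj_inv]
  obtain ⟨m, hm, em⟩ := syl_conj hsM hsM'
  have hm' : m ∈ ((C' ⊔ T : Subgroup G) : Set G) := hm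
  rw [coe_mul_of_right_le_normalizer_left _ _ hTn] at hm'
  obtain ⟨c, hc, t, ht, rfl⟩ := Set.mem_mul.1 hm'
  have hcT : cj c T = cj g T := by
    rw [← em, ← cj_cj, cj_eq_of_mem_normalizer (Subgroup.le_normalizer ht)]
  have hnT : c⁻¹ * g ∈ normalizer (T : Set G) := by
    rw [mem_normalizer_iff_cj, ← cj_cj, ← hcT, cj_inv_cj]
  have hnY : c⁻¹ * g ∈ Y := mul_mem (inv_mem hc.1) hg
  have hnK : c⁻¹ * g ∈ normalizer ((T ⊓ centralizer (N : Set G) : Subgroup G) : Set G) := by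
    rw [mem_normalizer_iff_cj, cj_inf, cj_eq_of_mem_normalizer hnT, cj_centralizer,
      cj_eq_of_mem_normalizer (h.YN hnY)]
  refine ⟨c⁻¹ * g, ⟨⟨hnY, hnK⟩, hnT⟩, ?_⟩
  · have h4 : (g * f * g⁻¹) * c = c * (g * f * g⁻¹) := mem_centralizer_iff.1 hc.2 _ (h.cm hg hfN)
    have h5 : c⁻¹ * g * f * (c⁻¹ * g)⁻¹ = g * f * g⁻¹ := by
      calc c⁻¹ * g * f * (c⁻¹ * g)⁻¹ = c⁻¹ * ((g * f * g⁻¹) * c) := by group
        _ = g * f * g⁻¹ := by rw [h4]; group
    rw [h5]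
    refine h.ext (h.cm hg hfN) hfN' ?_
    rw [hgv' f hfN, hf0, mul_zero]
    funext i
    fin_cases i
    · simp only [Fin.zero_eta, Matrix.cons_val_zero]
      rw [hlam, div_mul_cancel₀ _ x0]
    · simp only [Fin.mk_one, Matrix.cons_val_one]
      exact hf0'.symm

end XD

end Cfsg.Agent.Omega.NOThreeL.RWide.ParT
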