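import Cfsg.Agent.Omega.NOThreeL.RWide.ParA.NBFacts
import Cfsg.Agent.Omega.NOThreeL.RWide.GenSL
import Cfsg.Agent.Omega.NOThreeL.RWide.ParT.Mach
import Cfsg.Agent.Omega.SQ1.FFOne

/-!
# The group `X₁` over `T` acting semilinearly on the block `N` (the `X₁` half of `ParT.Fe`)

`h : TBlk.NB S E N l F e`, `T ≤ S` a Sylow 2-subgroup of `Y`, `E ≤ Y`.

* `Sem N F e` : the elements of `N(N)` which act semilinearly on `N`; `Sem.conj_U` : a conjugate of a root element is a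
  transvection;
* `X1 T Y N F e := Y ⊓ Sem ⊓ normalizer (T ⊓ centralizer N)`; `X1.full` : it induces `SL₂(F)` (Frattini);
* `X1.opp`, `X1.tr`, `offV`, `gen₁`, ... : the fields of `Fe`.
-/

set_option autoImplicit false
set_option linter.unusedSectionVars false

namespace Cfsg.Agent.Omega.NOThreeL.RWide.ParT.XSem

open Subgroup Cfsg
open Cfsg.Agent.ZN.ChoiceBase (cj mem_cj mem_normalizer_iff_cj)
open Cfsg.Agent.ZN.ChoiceSit (Syl syl_conj exists_syl)
open Cfsg.Agent.Omega.CaseLQ (NatT)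
open Cfsg.Agent.Omega.FFThm (ElemM OffM)
open Cfsg.Agent.Omega.NOThreeL.RWide.TBlk (NB)
open Cfsg.Agent.Omega.NOThreeL.RWide.GenSL (Acts U Lw W gen)
open Cfsg.Agent.Omega.NOThreeL.RWide.ParA.NBFacts

universe u

variable {G : Type u} [Group G] {S E N l T A Y : Subgroup G} {F : Type} [Field F] {e : G → Fin 2 → F}

/-- `g` acts on `N` by `v ↦ [[a,b],[c,d]] σ(v)` -/
structure SA (N : Subgroup G) (e : G → Fin 2 → F) (g : G) (σ : F ≃+* F) (a b c d : F) : Prop where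
  nor : g ∈ normalizer (N : Set G)
  act : ∀ v ∈ N, e (g * v * g⁻¹) = ![a * σ (e v 0) + b * σ (e v 1), c * σ (e v 0) + d * σ (e v 1)]

theorem SA.one : SA N e 1 (RingEquiv.refl F) 1 0 0 1 where
  nor := one_mem _
  act := fun v hv => by
    rw [one_mul, inv_one, mul_one]
    funext i
    fin_cases i <;> simp

theorem SA.mul {g g' : G} {σ σ' : F ≃+* F} {a b c d a' b' c' d' : F} (h : SA N e g σ a b c d)
    (h' : SA N e g' σ' a' b' c' d') :
    SA N e (g * g') (σ'.trans σ) (a * σ a' + b * σ c') (a * σ b' + b * σ d') (c * σ a' + d * σ c')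
      (c * σ b' + d * σ d') where
  nor := mul_mem h.nor h'.nor
  act := fun v hv => by
    have h1 := (mem_normalizer_iff.1 h'.nor v).1 hv
    have h2 : g * g' * v * (g * g')⁻¹ = g * (g' * v * g'⁻¹) * g⁻¹ := by group
    rw [h2, h.act _ h1, h'.act v hv]
    funext i
    fin_cases i
    · simp [RingEquiv.trans_apply]; ring
    · simp [RingEquiv.trans_apply]; ring

/-- `g` acts semilinearly on `N` -/
def IsSem (N : Subgroup G) (e : G → Fin 2 → F) (g : G) : Prop :=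
  ∃ (σ : F ≃+* F) (a b c d : F), SA N e g σ a b c d

theorem IsSem.mul {g g' : G} (h : IsSem N e g) (h' : IsSem N e g') : IsSem N e (g * g') := by
  obtain ⟨_, _, _, _, _, h⟩ := h
  obtain ⟨_, _, _, _, _, h'⟩ := h'
  exact ⟨_, _, _, _, _, h.mul h'⟩

theorem IsSem.pow {g : G} (h : IsSem N e g) (n : ℕ) : IsSem N e (g ^ n) := by
  induction n with
  | zero => rw [pow_zero]; exact ⟨_, _, _, _, _, SA.one⟩
  | succ n ih => rw [pow_succ]; exact ih.mul h

/-- the group of the semilinear elements -/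
def Sem [Finite G] (N : Subgroup G) (e : G → Fin 2 → F) : Subgroup G where
  carrier := {g | IsSem N e g}
  mul_mem' := fun h h' => h.mul h'
  one_mem' := ⟨_, _, _, _, _, SA.one⟩
  inv_mem' := by
    intro g hg
    have h1 : g⁻¹ = g ^ (orderOf g - 1) := by
      rw [inv_eq_iff_mul_eq_one, ← pow_succ', Nat.sub_add_cancel (orderOf_pos g), pow_orderOf_eq_one]
    rw [h1]
    exact IsSem.pow hg _

theorem mem_Sem [Finite G] {g : G} : g ∈ Sem N e ↔ ∃ (σ : F ≃+* F) (a b c d : F), SA N e g σ a b c d := Iff.rfl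

theorem sa_of_acts {g : G} {M : Matrix.SpecialLinearGroup (Fin 2) F} (h : Acts N e g M) :
    SA N e g (RingEquiv.refl F) (M.1 0 0) (M.1 0 1) (M.1 1 0) (M.1 1 1) where
  nor := h.nor
  act := fun v hv => by
    rw [h.act v hv]
    funext i
    fin_cases i <;> simp [Matrix.mulVec, dotProduct, Fin.sum_univ_two]

/-- `T ≤ Sem` -/
theorem T_le_Sem [Finite G] (h : NB S E N l F e) (TS : T ≤ S) (TN : T ≤ normalizer (N : Set G)) : T ≤ Sem N e := by
  intro t ht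
  obtain ⟨σ, a, b, d, hs⟩ := h.semi t (TS ht) (TN ht)
  exact ⟨σ, a, b, 0, d, TN ht, fun v hv => by rw [hs v hv, zero_mul, zero_add]⟩

/-- the determinant does not vanish -/
theorem SA.det_ne (h : NB S E N l F e) {g : G} {σ : F ≃+* F} {a b c d : F} (hg : SA N e g σ a b c d) :
    a * d - b * c ≠ 0 := by
  intro h0
  have key : ∀ v ∈ N, a * e (g * v * g⁻¹) 1 = c * e (g * v * g⁻¹) 0 := by
    intro v hv
    rw [hg.act v hv]
    simp only [Matrix.cons_val_zero, Matrix.cons_val_one, Matrix.cons_val_fin_one]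
    linear_combination σ (e v 1) * h0
  have key' : ∀ w ∈ N, a * e w 1 = c * e w 0 := by
    intro w hw
    have h1 := (mem_normalizer_iff.1 (inv_mem hg.nor) w).1 hw
    have h2 := key _ h1
    have h3 : g * (g⁻¹ * w * g⁻¹⁻¹) * g⁻¹ = w := by group
    rwa [h3] at h2
  obtain ⟨v, hv, hv'⟩ := h.sur ![1, 0]
  obtain ⟨w, hw, hw'⟩ := h.sur ![0, 1]
  have hc : c = 0 := by
    have h1 := key' v hv
    rw [hv'] at h1
    simpa using h1.symm
  have ha : a = 0 := by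
    have h1 := key' w hw
    rw [hw'] at h1
    simpa using h1
  have h1 := hg.act v hv
  rw [hv', ha, hc] at h1
  have h2 : e (g * v * g⁻¹) = 0 := by
    rw [h1]
    funext i
    fin_cases i <;> simp
  have h3 := h.inj _ ((mem_normalizer_iff.1 hg.nor v).1 hv) h2
  have h4 : v = 1 := by
    have h5 := mul_inv_eq_one.1 h3
    exact mul_left_cancel (h5.trans (mul_one g).symm)
  rw [h4, (natB h).e_one] at hv'
  exact zero_ne_one (congrFun hv' 0)

/-- the transvection `v ↦ v + t det(u,v) u` -/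
def TV (x y t : F) : Matrix.SpecialLinearGroup (Fin 2) F :=
  ⟨!![1 - t * x * y, t * x * x; -(t * y * y), 1 + t * x * y], by rw [Matrix.det_fin_two_of]; ring⟩

/-- a conjugate of a root element is a transvection with centre the image of `(1,0)` -/
theorem SA.conj_U (h : NB S E N l F e) {g : G} {σ : F ≃+* F} {a b c d : F} (hg : SA N e g σ a b c d) {k : G} {s : F}
    (hk : Acts N e k (U s)) : Acts N e (g * k * g⁻¹) (TV a c (σ s / (a * d - b * c))) := by
  have h0 := hg.det_ne h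
  refine ⟨mul_mem (mul_mem hg.nor hk.nor) (inv_mem hg.nor), fun v hv => ?_⟩
  have hw := (mem_normalizer_iff.1 (inv_mem hg.nor) v).1 hv
  set w := g⁻¹ * v * g⁻¹⁻¹ with hwd
  have e1 : g * k * g⁻¹ * v * (g * k * g⁻¹)⁻¹ = g * (k * w * k⁻¹) * g⁻¹ := by rw [hwd]; group
  have e2 : v = g * w * g⁻¹ := by rw [hwd]; group
  have h1 := hk.mem hw
  rw [e1, hg.act _ h1, hk.act w hw]
  have h2 := hg.act w hw
  rw [← e2] at h2
  rw [h2]
  funext i
  fin_cases i
  · simp [U, TV, Matrix.mulVec, dotProduct, Fin.sum_univ_two]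
    field_simp
    ring
  · have hD := mul_inv_cancel₀ h0
    simp [U, TV, Matrix.mulVec, dotProduct, Fin.sum_univ_two]
    linear_combination (-(c * σ s * σ (e w 1))) * hD

variable [CharP F 2]

/-- `U(s) T_(x,y)(t) U(-s)` for `s = -x/y` is lower unipotent -/
theorem U_TV {x y t : F} (hy : y ≠ 0) : U (-(x / y)) * TV x y t * (U (-(x / y)))⁻¹ = Lw (-(t * y * y)) := by
  rw [mul_inv_eq_iff_eq_mul]
  apply Subtype.ext
  rw [Matrix.SpecialLinearGroup.coe_mul, Matrix.SpecialLinearGroup.coe_mul]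
  ext i j
  fin_cases i <;> fin_cases j
  · simp [U, TV, Lw, Matrix.mul_apply, Fin.sum_univ_two]
    field_simp
    ring
  · simp [U, TV, Lw, Matrix.mul_apply, Fin.sum_univ_two]
    field_simp
    ring
  · simp [U, TV, Lw, Matrix.mul_apply, Fin.sum_univ_two]
  · simp [U, TV, Lw, Matrix.mul_apply, Fin.sum_univ_two]
    field_simp
    ring

/-- **the root group and a conjugate with another centre generate** -/
theorem gen_of (h : NB S E N l F e) {x : G} {σ : F ≃+* F} {a b c d : F} (hx : SA N e x σ a b c d) (hc : c ≠ 0)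
    (hA : ∀ s : F, ∃ k ∈ A, Acts N e k (U s)) (M : Matrix.SpecialLinearGroup (Fin 2) F) :
    ∃ k ∈ A ⊔ cj x A, Acts N e k M := by
  refine gen (fun s => ?_) (fun s => ?_) M
  · obtain ⟨k, hk, hk'⟩ := hA s
    exact ⟨k, (le_sup_left : A ≤ A ⊔ cj x A) hk, hk'⟩
  · -- `Lw s = U T U⁻¹`, `T = x (U s') x⁻¹`
    have h0 := hx.det_ne h
    obtain ⟨k, hk, hk'⟩ := hA (σ.symm (-(s / (c * c)) * (a * d - b * c)))
    obtain ⟨r, hr, hr'⟩ := hA (-(a / c))
    have h1 := hx.conj_U h hk'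
    rw [σ.apply_symm_apply, mul_div_cancel_right₀ _ h0] at h1
    have h2 := (hr'.mul h1).mul hr'.inv
    rw [U_TV hc] at h2
    have h3 : -(-(s / (c * c)) * c * c) = s := by field_simp
    rw [h3] at h2
    refine ⟨_, mul_mem (mul_mem ((le_sup_left : A ≤ A ⊔ cj x A) hr)
      ((le_sup_right : cj x A ≤ A ⊔ cj x A) (mem_cj.2 ?_))) (inv_mem ((le_sup_left : A ≤ A ⊔ cj x A) hr)), h2⟩
    have h4 : x⁻¹ * (x * k * x⁻¹) * x = k := by group
    rwa [h4]

/-- **two opposite root groups generate** -/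
theorem gen_cj (h : NB S E N l F e) {x y : G} {σ : F ≃+* F} {a b c d : F} (hx : SA N e x σ a b c d) (hc : c ≠ 0)
    (hy : IsSem N e y) (hA : ∀ s : F, ∃ k ∈ A, Acts N e k (U s)) (hA' : ∀ k ∈ A, ∃ s : F, Acts N e k (U s)) :
    cj y A ≤ (A ⊔ cj x A) ⊔ centralizer (N : Set G) := by
  intro z hz
  obtain ⟨τ, a', b', c', d', hy⟩ := hy
  obtain ⟨s, hs⟩ := hA' _ (mem_cj.1 hz)
  have h1 := hy.conj_U h hs
  have h2 : y * (y⁻¹ * z * y) * y⁻¹ = z := by group
  rw [h2] at h1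
  obtain ⟨k, hk, hk'⟩ := gen_of h hx hc hA (TV a' c' (τ s / (a' * d' - b' * c')))
  have h3 : k⁻¹ * z ∈ centralizer (N : Set G) := by
    refine mem_centralizer_iff.2 fun v hv => ?_
    have h4 := h1.conj_eq hk' h.mul h.inj hv
    have h5 : k⁻¹ * z * v * (k⁻¹ * z)⁻¹ = v := by
      calc k⁻¹ * z * v * (k⁻¹ * z)⁻¹ = k⁻¹ * (z * v * z⁻¹) * k := by group
        _ = v := by rw [h4]; group
    exact (mul_inv_eq_iff_eq_mul.1 h5).symm
  have h4 : z = k * (k⁻¹ * z) := by group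
  rw [h4]
  exact mul_mem ((le_sup_left : A ⊔ cj x A ≤ _) hk) ((le_sup_right : centralizer (N : Set G) ≤ _) h3)

/-- root elements as `Acts` -/
theorem acts_U {k : G} {b : F} (hk : k ∈ normalizer (N : Set G))
    (hb : ∀ v ∈ N, e (k * v * k⁻¹) = ![e v 0 + b * e v 1, e v 1]) : Acts N e k (U b) where
  nor := hk
  act := fun v hv => by
    rw [hb v hv]
    funext i
    fin_cases i <;> simp [U, Matrix.mulVec, dotProduct, Fin.sum_univ_two]

theorem of_acts_U {k : G} {b : F} (hk : Acts N e k (U b)) {v : G} (hv : v ∈ N) :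
    e (k * v * k⁻¹) = ![e v 0 + b * e v 1, e v 1] := by
  rw [hk.act v hv]
  funext i
  fin_cases i <;> simp [U, Matrix.mulVec, dotProduct, Fin.sum_univ_two]

/-- an element of `Sem` whose conjugate line is different has `c ≠ 0` -/
theorem SA.c_ne (h : NB S E N l F e) {x : G} {σ : F ≃+* F} {a b c d : F} (hx : SA N e x σ a b c d)
    (hd : l ⊓ cj x l = ⊥) : c ≠ 0 := by
  rintro rfl
  obtain ⟨v, hv, hv'⟩ := h.sur ![1, 0]
  have hvl : v ∈ l := (h.line v).2 ⟨hv, by rw [hv']; rfl⟩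
  have h1 : x * v * x⁻¹ ∈ l := by
    refine (h.line _).2 ⟨(mem_normalizer_iff.1 hx.nor v).1 hv, ?_⟩
    rw [hx.act v hv, hv']
    simp
  have h2 : x * v * x⁻¹ ∈ l ⊓ cj x l := ⟨h1, mem_cj.2 (by
    have h3 : x⁻¹ * (x * v * x⁻¹) * x = v := by group
    rwa [h3])⟩
  rw [hd, mem_bot] at h2
  have h4 : v = 1 := by
    have h5 := mul_inv_eq_one.1 h2
    exact mul_left_cancel (h5.trans (mul_one x).symm)
  rw [h4, (natB h).e_one] at hv'
  exact zero_ne_one (congrFun hv' 0)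

/-- **the field `gen₁` of `Fe`** -/
theorem gen₁ [Finite G] (h : NB S E N l F e) (TS : T ≤ S) (TN : T ≤ normalizer (N : Set G)) (T2 : IsPGroup 2 T)
    {X : Subgroup G} (XS : X ≤ Sem N e) : ∀ x ∈ X, l ⊓ cj x l = ⊥ → ∀ A ≤ T, N ⊓ centralizer (A : Set G) = l →
    (∀ v ∈ N, v ∉ l → (∀ a ∈ A, a * v * a⁻¹ * v⁻¹ ∈ l) ∧ ∀ s ∈ l, ∃ a ∈ A, a * v * a⁻¹ * v⁻¹ = s) →
    ∀ y ∈ X, cj y A ≤ (A ⊔ cj x A) ⊔ centralizer (N : Set G) := by
  intro x hx hd A AT hA hcom y hy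
  have hN := natT h TS TN
  obtain ⟨σ, a, b, c, d, hx'⟩ := XS hx
  have hAl : A ≤ centralizer (l : Set G) := by
    intro k hk
    refine mem_centralizer_iff.2 fun v hv => ?_
    rw [← hA] at hv
    exact (mem_centralizer_iff.1 hv.2 k hk).symm
  have h1 : ∀ k ∈ A, ∃ s : F, Acts N e k (U s) := fun k hk => by
    obtain ⟨s, hs⟩ := root_of h TS TN T2 (AT hk) (hAl hk)
    exact ⟨s, acts_U (TN (AT hk)) hs⟩
  obtain ⟨v, hv, hv'⟩ := h.sur ![0, 1]
  have hvl : v ∉ l := fun h0 => by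
    have h1 := ((h.line v).1 h0).2
    rw [hv'] at h1
    exact one_ne_zero h1
  refine gen_cj h hx' (hx'.c_ne h hd) (XS hy) (fun s => ?_) h1
  obtain ⟨z, hz, hz'⟩ := h.sur ![s, 0]
  have hzl : z ∈ l := (h.line z).2 ⟨hz, by rw [hz']; rfl⟩
  obtain ⟨k, hk, hkz⟩ := (hcom v hv hvl).2 z hzl
  obtain ⟨s', hs'⟩ := h1 k hk
  have h2 := (e_comm h (hN.TN k (AT hk)) (fun v hv => of_acts_U hs' hv) hv).2
  rw [hkz, hz', hv'] at h2
  have h3 : s = s' := by simpa using congrFun h2 0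
  exact ⟨k, hk, h3 ▸ hs'⟩

/-! ### `offV` -/

theorem card_rel (A V : Subgroup G) :
    Nat.card ↥(A ⊓ centralizer (V : Set G)) * (centralizer (V : Set G)).relIndex A = Nat.card A := by
  have h1 := card_mul_relIndex' (H := A ⊓ centralizer (V : Set G)) (K := A) inf_le_left
  rwa [inf_relIndex_left] at h1

/-- **the field `offV` of `Fe`** -/
theorem offV [Finite G] [Finite F] (h : NB S E N l F e) (TS : T ≤ S) (TN : T ≤ normalizer (N : Set G)) :
    ∀ A ≤ T, (∀ a ∈ A, a ^ 2 ∈ centralizer (N : Set G)) →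
    (∀ a ∈ A, ∀ b ∈ A, a * b * a⁻¹ * b⁻¹ ∈ centralizer (N : Set G)) →
    (centralizer (N : Set G)).relIndex A ≤ (centralizer (A : Set G)).relIndex N ∧
    ((centralizer (N : Set G)).relIndex A = (centralizer (A : Set G)).relIndex N → ¬ A ≤ centralizer (N : Set G) →
      N ⊓ centralizer (A : Set G) = l ∧ (centralizer (A : Set G)).relIndex N = Nat.card l ∧
      ∀ v ∈ N, v ∉ l → (∀ a ∈ A, a * v * a⁻¹ * v⁻¹ ∈ l) ∧ ∀ s ∈ l, ∃ a ∈ A, a * v * a⁻¹ * v⁻¹ = s) := by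
  intro A AT hsq hcm
  have hm : ElemM N A := ⟨hsq, hcm⟩
  have hN := natT h TS TN
  have h1 := card_rel A N
  have h2 := card_rel N A
  have p1 : 0 < Nat.card ↥(A ⊓ centralizer (N : Set G)) := Nat.card_pos
  have p2 : 0 < Nat.card ↥(N ⊓ centralizer (A : Set G)) := Nat.card_pos
  have h3 := no h TS TN AT hm
  rw [← h1, ← h2] at h3
  refine ⟨?_, fun heq hne => ?_⟩
  · refine Nat.le_of_mul_le_mul_left ?_ (Nat.mul_pos p1 p2)
    calc _ = Nat.card ↥(A ⊓ centralizer (N : Set G)) * (centralizer (N : Set G)).relIndex A *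
          Nat.card ↥(N ⊓ centralizer (A : Set G)) := by ring
      _ ≤ _ := h3
      _ = _ := by ring
  · have h4 : Nat.card N * Nat.card ↥(A ⊓ centralizer (N : Set G)) ≤
        Nat.card A * Nat.card ↥(N ⊓ centralizer (A : Set G)) := by
      rw [← h1, ← h2, heq]
      exact le_of_eq (by ring)
    have ho : OffM N A := ⟨hm, hne, h4⟩
    rcases offM h TS TN AT hm h4 with h5 | h5
    · exact absurd h5 hne
    have h6 := hN.cent_eq AT ho
    refine ⟨h6, ?_, fun v hv hvl => ⟨fun a ha => h5.inl a ha v hv, fun s hs => h5.onA v hv hvl s hs⟩⟩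
    rw [h6, cardN h] at h2
    exact Nat.eq_of_mul_eq_mul_left Nat.card_pos h2

/-! ### the group `X₁` -/

/-- the group `X₁` -/
def X1 [Finite G] (T Y N : Subgroup G) (e : G → Fin 2 → F) : Subgroup G :=
  Y ⊓ Sem N e ⊓ normalizer ((T ⊓ centralizer (N : Set G) : Subgroup G) : Set G)

section X1

variable [Finite G]

theorem X1_le : X1 T Y N e ≤ Y := inf_le_left.trans inf_le_left

theorem X1_Sem : X1 T Y N e ≤ Sem N e := inf_le_left.trans inf_le_right

theorem Sem_nor : Sem N e ≤ normalizer (N : Set G) := by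
  rintro g ⟨σ, a, b, c, d, hg⟩
  exact hg.nor

theorem X1_nV : X1 T Y N e ≤ normalizer (N : Set G) := X1_Sem.trans Sem_nor

theorem X1_nK : X1 T Y N e ≤ normalizer ((T ⊓ centralizer (N : Set G) : Subgroup G) : Set G) := inf_le_right

theorem T_le_X1 (h : NB S E N l F e) (TS : T ≤ S) (TN : T ≤ normalizer (N : Set G)) (TY : T ≤ Y) :
    T ≤ X1 T Y N e := by
  refine le_inf (le_inf TY (T_le_Sem h TS TN)) fun t ht => ?_
  rw [mem_normalizer_iff_cj, ZN.ChoiceBase.cj_inf, ZN.ChoiceBase.cj_centralizer,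
    ZN.ChoiceBase.cj_eq_of_mem_normalizer (le_normalizer ht), ZN.ChoiceBase.cj_eq_of_mem_normalizer (TN ht)]

/-- **Frattini** : every element of `Y ⊓ Sem` acts on `N` as an element of `X₁` -/
theorem X1_frat (syl : Syl T (Y ⊓ Sem N e)) {y : G} (hy : y ∈ Y ⊓ Sem N e) :
    ∃ c ∈ centralizer (N : Set G), c * y ∈ X1 T Y N e := by
  have hC : ∀ g ∈ Y ⊓ Sem N e, ∀ n ∈ Y ⊓ Sem N e ⊓ centralizer (N : Set G),
      g * n * g⁻¹ ∈ Y ⊓ Sem N e ⊓ centralizer (N : Set G) := by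
    intro g hg n hn
    have h1 : g ∈ normalizer ((centralizer (N : Set G) : Subgroup G) : Set G) := by
      rw [mem_normalizer_iff_cj, ZN.ChoiceBase.cj_centralizer, ZN.ChoiceBase.cj_eq_of_mem_normalizer (Sem_nor hg.2)]
    exact mem_inf.2 ⟨mul_mem (mul_mem hg (mem_inf.1 hn).1) (inv_mem hg), (mem_normalizer_iff.1 h1 n).1 (mem_inf.1 hn).2⟩
  have hs := SQ1.FFOne.syl_inf syl inf_le_left hC
  have e1 : T ⊓ (Y ⊓ Sem N e ⊓ centralizer (N : Set G)) = T ⊓ centralizer (N : Set G) :=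
    le_antisymm (inf_le_inf_left _ inf_le_right) fun x hx => ⟨hx.1, syl.1 hx.1, hx.2⟩
  rw [e1] at hs
  -- the conjugate is Sylow as well
  have hs' : Syl (cj y (T ⊓ centralizer (N : Set G))) (Y ⊓ Sem N e ⊓ centralizer (N : Set G)) := by
    refine ⟨?_, ZN.ChoiceBase.isPGroup_cj y hs.2.1, fun Q hQ h2 hle => ?_⟩
    · intro z hz
      have h1 := hC y hy _ (hs.1 (mem_cj.1 hz))
      have h2 : y * (y⁻¹ * z * y) * y⁻¹ = z := by group
      rwa [h2] at h1
    · have h3 := hs.2.2 (cj y⁻¹ Q) ?_ (ZN.ChoiceBase.isPGroup_cj y⁻¹ h2) ?_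
      · rw [← h3, ZN.ChoiceBase.cj_cj_inv]
      · intro z hz
        have h1 := hC y⁻¹ (inv_mem hy) _ (hQ (mem_cj.1 hz))
        have h2 : y⁻¹ * (y⁻¹⁻¹ * z * y⁻¹) * y⁻¹⁻¹ = z := by group
        rwa [h2] at h1
      · have h4 := ZN.ChoiceBase.cj_mono y⁻¹ hle
        rwa [ZN.ChoiceBase.cj_inv_cj] at h4
  obtain ⟨c, hc, hce⟩ := syl_conj hs' hs
  rw [ZN.ChoiceBase.cj_cj] at hce
  exact ⟨c, hc.2, ⟨mul_mem hc.1 hy, mem_normalizer_iff_cj.2 hce⟩⟩

/-- **`X₁` induces `SL₂(F)`** -/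
theorem X1_full (h : NB S E N l F e) (syl : Syl T (Y ⊓ Sem N e)) (EY : E ≤ Y) (EN : E ≤ normalizer (N : Set G))
    (M : Matrix.SpecialLinearGroup (Fin 2) F) : ∃ x ∈ X1 T Y N e, Acts N e x M := by
  obtain ⟨g, hg, hgM⟩ := h.full M
  have ha : Acts N e g M := ⟨EN hg, hgM⟩
  obtain ⟨c, hc, hcg⟩ := X1_frat syl (y := g) ⟨EY hg, ⟨_, _, _, _, _, sa_of_acts ha⟩⟩
  refine ⟨c * g, hcg, mul_mem (centralizer_le_normalizer _ hc) ha.nor, fun v hv => ?_⟩
  have h1 := ha.mem hv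
  have h2 := mem_centralizer_iff.1 hc _ h1
  have h3 : c * g * v * (c * g)⁻¹ = g * v * g⁻¹ := by
    calc c * g * v * (c * g)⁻¹ = c * (g * v * g⁻¹) * c⁻¹ := by group
      _ = g * v * g⁻¹ * c * c⁻¹ := by rw [h2]
      _ = _ := by group
  rw [h3, ha.act v hv]

/-- **opposite lines** -/
theorem X1_opp (h : NB S E N l F e) (syl : Syl T (Y ⊓ Sem N e)) (EY : E ≤ Y) (EN : E ≤ normalizer (N : Set G)) :
    ∃ x ∈ X1 T Y N e, l ⊓ cj x l = ⊥ ∧ N ≤ l ⊔ cj x l := by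
  obtain ⟨x, hx, hW⟩ := X1_full h syl EY EN (W (F := F))
  have hxe : ∀ v ∈ N, e (x * v * x⁻¹) = ![e v 1, - e v 0] := fun v hv => by
    rw [hW.act v hv]
    funext i
    fin_cases i <;> simp [W, Matrix.mulVec, dotProduct, Fin.sum_univ_two]
  have hmem : ∀ {v : G}, v ∈ l → x * v * x⁻¹ ∈ cj x l := fun {v} hv => mem_cj.2 (by
    have h3 : x⁻¹ * (x * v * x⁻¹) * x = v := by group
    rwa [h3])
  refine ⟨x, hx, ?_, fun v hv => ?_⟩
  · rw [eq_bot_iff]
    rintro v ⟨hv1, hv2⟩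
    have h1 := mem_cj.1 hv2
    obtain ⟨h2, h3⟩ := (h.line _).1 h1
    obtain ⟨h4, h5⟩ := (h.line _).1 hv1
    have h6 := hxe _ h2
    have e1 : x * (x⁻¹ * v * x) * x⁻¹ = v := by group
    rw [e1, h3] at h6
    refine mem_bot.2 (h.inj v h4 ?_)
    funext i
    fin_cases i
    · rw [h6]; rfl
    · exact h5
  · obtain ⟨a, ha, ha'⟩ := h.sur ![e v 0, 0]
    obtain ⟨b, hb, hb'⟩ := h.sur ![- e v 1, 0]
    have hal : a ∈ l := (h.line a).2 ⟨ha, by rw [ha']; rfl⟩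
    have hbl : b ∈ l := (h.line b).2 ⟨hb, by rw [hb']; rfl⟩
    have h1 : v = a * (x * b * x⁻¹) := by
      have hb2 := (mem_normalizer_iff.1 hW.nor b).1 hb
      refine (natB h).ext hv (mul_mem ha hb2) ?_
      rw [h.mul a ha _ hb2, hxe b hb, ha', hb']
      funext i
      fin_cases i <;> simp
    rw [h1]
    exact mul_mem ((le_sup_left : l ≤ l ⊔ cj x l) hal) ((le_sup_right : cj x l ≤ l ⊔ cj x l) (hmem hbl))

/-- the special linear group is transitive on the nonzero vectors -/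
theorem exists_sl (a b c d : F) (h : ¬ (a = 0 ∧ b = 0)) (h' : ¬ (c = 0 ∧ d = 0)) :
    ∃ M : Matrix.SpecialLinearGroup (Fin 2) F, M.1.mulVec ![a, b] = ![c, d] := by
  -- first column completion
  have key : ∀ x y : F, ¬ (x = 0 ∧ y = 0) → ∃ M : Matrix.SpecialLinearGroup (Fin 2) F, M.1.mulVec ![1, 0] = ![x, y] := by
    intro x y hxy
    by_cases hx : x = 0
    · have hy : y ≠ 0 := fun h0 => hxy ⟨hx, h0⟩
      refine ⟨⟨!![x, -y⁻¹; y, 0], by rw [Matrix.det_fin_two_of]; field_simp; simp⟩, ?_⟩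
      funext i
      fin_cases i <;> simp [Matrix.mulVec, dotProduct, Fin.sum_univ_two]
    · refine ⟨⟨!![x, 0; y, x⁻¹], by rw [Matrix.det_fin_two_of]; field_simp; simp⟩, ?_⟩
      funext i
      fin_cases i <;> simp [Matrix.mulVec, dotProduct, Fin.sum_univ_two]
  obtain ⟨M, hM⟩ := key a b h
  obtain ⟨M', hM'⟩ := key c d h'
  refine ⟨M' * M⁻¹, ?_⟩
  have h3 : (M⁻¹ : Matrix.SpecialLinearGroup (Fin 2) F).1 * M.1 = 1 := by
    rw [← Matrix.SpecialLinearGroup.coe_mul, inv_mul_cancel]; rfl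
  rw [← hM, Matrix.SpecialLinearGroup.coe_mul, Matrix.mulVec_mulVec, Matrix.mul_assoc, h3, Matrix.mul_one, hM']

/-- **`X₁` is transitive on `N#`** -/
theorem X1_tr (h : NB S E N l F e) (syl : Syl T (Y ⊓ Sem N e)) (EY : E ≤ Y) (EN : E ≤ normalizer (N : Set G)) :
    ∀ v ∈ N, v ≠ 1 → ∀ w ∈ N, w ≠ 1 → ∃ x ∈ X1 T Y N e, x * v * x⁻¹ = w := by
  have hne : ∀ v ∈ N, v ≠ 1 → ¬ (e v 0 = 0 ∧ e v 1 = 0) := by
    rintro v hv hv1 ⟨h0, h1⟩
    refine hv1 (h.inj v hv ?_)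
    funext i
    fin_cases i
    · exact h0
    · exact h1
  intro v hv hv1 w hw hw1
  obtain ⟨M, hM⟩ := exists_sl _ _ _ _ (hne v hv hv1) (hne w hw hw1)
  obtain ⟨x, hx, hxM⟩ := X1_full h syl EY EN M
  refine ⟨x, hx, (natB h).ext (hxM.mem hv) hw ?_⟩
  rw [hxM.act v hv]
  have e1 : e v = ![e v 0, e v 1] := by funext i; fin_cases i <;> rfl
  have e2 : e w = ![e w 0, e w 1] := by funext i; fin_cases i <;> rfl
  rw [e1, e2, hM]

/-- `T` is a Sylow 2-subgroup of `Y ⊓ Sem` -/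
theorem syl_of (h : NB S E N l F e) (TS : T ≤ S) (TN : T ≤ normalizer (N : Set G)) (T2 : IsPGroup 2 T) (TY : T ≤ Y)
    (syl : ¬ 2 ∣ T.relIndex Y) : Syl T (Y ⊓ Sem N e) := by
  refine ⟨le_inf TY (T_le_Sem h TS TN), T2, fun Q hQ h2 hle => ?_⟩
  by_contra hne
  apply syl
  have h3 : T.relIndex Q ∣ T.relIndex Y := by
    rw [← Subgroup.relIndex_mul_relIndex T Q Y hle (hQ.trans inf_le_left)]
    exact Dvd.intro _ rfl
  refine dvd_trans ?_ h3
  have h4 := card_mul_relIndex' hle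
  have : Fact (Nat.Prime 2) := ⟨Nat.prime_two⟩
  obtain ⟨n, hn⟩ := IsPGroup.iff_card.1 h2
  have h5 : T.relIndex Q ∣ 2 ^ n := by
    rw [← hn, ← h4]
    exact Dvd.intro_left _ rfl
  obtain ⟨m, -, hm⟩ := (Nat.dvd_prime_pow Nat.prime_two).1 h5
  rw [hm]
  rcases m with _ | m
  · rw [pow_zero] at hm
    exact absurd (le_antisymm (relIndex_eq_one.1 hm) hle) hne
  · exact dvd_pow_self 2 (Nat.succ_ne_zero m)

end X1

end Cfsg.Agent.Omega.NOThreeL.RWide.ParT.XSem
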